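import Cfsg.Agent.Lib.CharDeep.Palfy.Module
import Cfsg.Agent.Lib.CharDeep.Glauberman.CoprimeDegree
import Cfsg.Agent.Lib.CharDeep.Glauberman.Gallagher
import Cfsg.Agent.Lib.CharDeep.ItoMichler
import Cfsg.Agent.Lib.Char.CliffordCorr
import Cfsg.Agent.Lib.Fusion.PSolvable

/-!
# Degrees over an extendible character of a complemented normal subgroup
-/

set_option autoImplicit false

namespace CfsgLib.CharDeep.Palfy

open Subgroup CfsgLib

variable {G : Type*} [Group G] [Finite G] {K H : Subgroup G} [hK : K.Normal]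

omit [Finite G] in
/-- The projection of `G` on a complement of a normal subgroup. -/
theorem exists_proj (hc : IsComplement' K H) :
    ∃ pr : G →* H, (∀ h : H, pr h = h) ∧ (∀ k ∈ K, pr k = 1) ∧
      ∀ g, g * ((pr g : H) : G)⁻¹ ∈ K := by
  let ι : H →* G ⧸ K := (QuotientGroup.mk' K).comp H.subtype
  have hinj : Function.Injective ι := (injective_iff_map_eq_one ι).2 fun h hh => Subtype.ext
    (Subgroup.disjoint_def.1 hc.disjoint ((QuotientGroup.eq_one_iff _).1 hh) h.2)
  have hsurj : Function.Surjective ι := fun x => by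
    obtain ⟨g, rfl⟩ := QuotientGroup.mk'_surjective K x
    obtain ⟨⟨⟨k, hk⟩, h⟩, rfl⟩ := hc.2 g
    refine ⟨h, ?_⟩
    show QuotientGroup.mk' K (h : G) = QuotientGroup.mk' K (k * (h : G))
    rw [map_mul, show QuotientGroup.mk' K k = 1 from (QuotientGroup.eq_one_iff k).2 hk, one_mul]
  let e : H ≃* G ⧸ K := MulEquiv.ofBijective ι ⟨hinj, hsurj⟩
  refine ⟨e.symm.toMonoidHom.comp (QuotientGroup.mk' K), fun h => e.symm_apply_apply h,
    fun k hk => ?_, fun g => ?_⟩
  · show e.symm (QuotientGroup.mk' K k) = 1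
    rw [show QuotientGroup.mk' K k = 1 from (QuotientGroup.eq_one_iff k).2 hk, map_one]
  · refine (QuotientGroup.eq_one_iff _).1 ?_
    show QuotientGroup.mk' K (g * ((e.symm (QuotientGroup.mk' K g) : H) : G)⁻¹) = 1
    rw [map_mul, map_inv, mul_inv_eq_one]
    exact (e.apply_symm_apply (QuotientGroup.mk' K g)).symm

/-- The index of a stabiliser can be computed in the complement. -/
theorem index_stab (hc : IsComplement' K H) {θ : K → ℂ} (hθ : Cfsg.IsClassFunction K θ) :
    (Char.stab θ).index = (Char.stab θ).relIndex H := by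
  have h1 : K ≤ Char.stab θ := Char.le_stab hθ
  rw [relIndex, index, index]
  refine (Nat.card_congr (Equiv.ofBijective
    (fun x : H ⧸ (Char.stab θ).subgroupOf H => Quotient.map' (s₂ := QuotientGroup.leftRel _)
      (fun h : H => (h : G)) (fun a b hab => ?_) x) ⟨?_, ?_⟩)).symm
  · rw [QuotientGroup.leftRel_apply] at hab ⊢
    exact hab
  · rintro ⟨a⟩ ⟨b⟩ hab
    refine Quotient.sound' (QuotientGroup.leftRel_apply.2 ?_)
    have h := QuotientGroup.leftRel_apply.1 (Quotient.exact'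
      (show (Quotient.mk'' (a : G) : G ⧸ Char.stab θ) = Quotient.mk'' (b : G) from hab))
    exact h
  · rintro ⟨g⟩
    obtain ⟨pr, -, -, h3⟩ := exists_proj hc
    refine ⟨QuotientGroup.mk (pr g), Quotient.sound' (QuotientGroup.leftRel_apply.2 ?_)⟩
    show ((pr g : H) : G)⁻¹ * g ∈ Char.stab θ
    refine h1 ?_
    have := hK.conj_mem _ (h3 g) ((pr g : H) : G)⁻¹
    simpa [mul_assoc] using this

/-- An invariant character of a complemented normal subgroup with an extension to its stabiliser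
gives characters of every degree `[G : T] θ(1) ψ(1)`. -/
theorem exists_deg (hc : IsComplement' K H) (θ : Cfsg.IrrCharacter K)
    (E : Cfsg.IrrCharacter (Char.stab (θ : K → ℂ)))
    (hE : ∀ k : K, (E : Char.stab (θ : K → ℂ) → ℂ)
      ⟨k, Char.le_stab (Char.IsIrrCharacter.isClassFunction θ.2) k.2⟩ = (θ : K → ℂ) k)
    (ψ : Cfsg.IrrCharacter ((Char.stab (θ : K → ℂ)).subgroupOf H)) :
    ∃ χ : Cfsg.IrrCharacter G, Cfsg.charDegree (χ : G → ℂ) =
      (Char.stab (θ : K → ℂ)).relIndex H * Cfsg.charDegree (θ : K → ℂ) *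
        Cfsg.charDegree (ψ : (Char.stab (θ : K → ℂ)).subgroupOf H → ℂ) := by
  classical
  cases nonempty_fintype G
  let T := Char.stab (θ : K → ℂ)
  have hKT : K ≤ T := Char.le_stab (Char.IsIrrCharacter.isClassFunction θ.2)
  obtain ⟨pr, h1, h2, h3⟩ := exists_proj hc
  have hmem : ∀ g : T, pr g ∈ T.subgroupOf H := fun g => by
    show ((pr g : H) : G) ∈ T
    have := mul_mem (inv_mem (hKT (h3 g))) g.2
    simpa using this
  let π : T →* T.subgroupOf H := (pr.comp T.subtype).codRestrict _ hmem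
  have hπ : Function.Surjective π := fun h =>
    ⟨⟨((h : H) : G), h.2⟩, Subtype.ext (h1 (h : H))⟩
  have hker : π.ker = K.subgroupOf T := by
    ext g
    rw [MonoidHom.mem_ker, mem_subgroupOf]
    constructor
    · intro h
      have h' : pr g = 1 := congrArg Subtype.val h
      have := h3 g
      rwa [h', OneMemClass.coe_one, inv_one, mul_one] at this
    · exact fun h => Subtype.ext (h2 _ h)
  haveI : (K.subgroupOf T).Normal := inferInstance
  let e : K.subgroupOf T ≃* K := subgroupOfEquivOfLe hKT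
  have hθ' : Cfsg.IsIrrCharacter (K.subgroupOf T) ((θ : K → ℂ) ∘ e) :=
    Char.IsIrrCharacter.comp_equiv θ.2 e
  have hres : ∀ n : K.subgroupOf T, (E : T → ℂ) n = ((θ : K → ℂ) ∘ e) n := fun n =>
    hE ⟨((n : T) : G), n.2⟩
  have hirr := Glauberman.isIrr_ext_mul hπ hker E.2 hθ' hres ψ
  have hin := Glauberman.classInner_ext_mul_restrict hπ hker E.2 hθ' hres ψ
  have hin' : Cfsg.classInner (Char.resLe hKT ((E : T → ℂ) * ((ψ : T.subgroupOf H → ℂ) ∘ π)))
      (θ : K → ℂ) = (ψ : T.subgroupOf H → ℂ) 1 := by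
    rw [← Char.classInner_resLe hKT]
    exact hin
  obtain ⟨hχ, -⟩ := Char.indFun_inertia hKT θ.2 (Char.isInertia_stab (θ : K → ℂ)) hirr
    (by rw [hin']; exact Char.IsIrrCharacter.apply_one_ne_zero ψ.2)
  refine ⟨⟨_, hχ⟩, Nat.cast_injective (R := ℂ) ?_⟩
  have hE1 : (E : T → ℂ) 1 = (θ : K → ℂ) 1 := hE 1
  rw [DegreeTools.deg_cast, Nat.cast_mul, Nat.cast_mul, DegreeTools.deg_cast θ,
    DegreeTools.deg_cast ψ, ← index_stab hc (Char.IsIrrCharacter.isClassFunction θ.2)]
  show Cfsg.indFun T _ 1 = _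
  rw [Char.indFun_one, Pi.mul_apply, Function.comp_apply, map_one, hE1, mul_assoc]

/-- A linear character extends to its stabiliser. -/
theorem exists_ext_linear (hc : IsComplement' K H) (l : K →* ℂˣ) :
    ∃ E : Cfsg.IrrCharacter (Char.stab (fun k : K => (l k : ℂ))),
      ∀ k : K, (E : Char.stab (fun k : K => (l k : ℂ)) → ℂ)
        ⟨k, Char.le_stab (Char.IsIrrCharacter.isClassFunction (Char.isIrrCharacter_hom l)) k.2⟩ =
          (l k : ℂ) := by
  obtain ⟨pr, h1, h2, h3⟩ := exists_proj hc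
  set T := Char.stab (fun k : K => (l k : ℂ))
  have hKT : K ≤ T := Char.le_stab (Char.IsIrrCharacter.isClassFunction (Char.isIrrCharacter_hom l))
  let f : T →* ℂˣ := MonoidHom.mk' (fun g => l ⟨_, h3 g⟩) fun a b => by
    have ha : ((pr (a : G) : H) : G) ∈ T := by
      have := mul_mem (inv_mem (hKT (h3 a))) a.2
      simpa using this
    have hconj := congrFun (Char.mem_stab.1 ha) ⟨_, h3 (b : G)⟩
    have e : (⟨_, h3 ((a * b : T) : G)⟩ : K) = ⟨_, h3 (a : G)⟩ *
        ⟨((pr (a : G) : H) : G) * ((b : G) * ((pr (b : G) : H) : G)⁻¹) *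
          ((pr (a : G) : H) : G)⁻¹, hK.conj_mem _ (h3 (b : G)) _⟩ := by
      refine Subtype.ext ?_
      simp only [Subgroup.coe_mul, map_mul]
      group
    rw [e, map_mul]
    congr 1
    exact Units.ext hconj
  refine ⟨⟨_, Char.isIrrCharacter_hom f⟩, fun k => ?_⟩
  show ((l ⟨_, h3 (k : G)⟩ : ℂˣ) : ℂ) = _
  congr 2
  exact Subtype.ext (by simp [h2 _ k.2])

/-- An irreducible character of a normal Hall subgroup extends to its stabiliser. -/
theorem exists_ext_coprime (hcop : (Nat.card K).Coprime K.index) (θ : Cfsg.IrrCharacter K) :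
    ∃ E : Cfsg.IrrCharacter (Char.stab (θ : K → ℂ)),
      ∀ k : K, (E : Char.stab (θ : K → ℂ) → ℂ)
        ⟨k, Char.le_stab (Char.IsIrrCharacter.isClassFunction θ.2) k.2⟩ = (θ : K → ℂ) k := by
  classical
  set T := Char.stab (θ : K → ℂ)
  have hKT : K ≤ T := Char.le_stab (Char.IsIrrCharacter.isClassFunction θ.2)
  let e : K.subgroupOf T ≃* K := subgroupOfEquivOfLe hKT
  haveI : (K.subgroupOf T).Normal := inferInstance
  have h : (Nat.card (K.subgroupOf T)).Coprime (K.subgroupOf T).index := by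
    rw [Nat.card_congr e.toEquiv]
    exact hcop.coprime_dvd_right (relIndex_dvd_index_of_normal K T)
  obtain ⟨E, hE⟩ := Glauberman.exists_irr_extension (G := T) (K := K.subgroupOf T) h
    ⟨(θ : K → ℂ) ∘ e, Char.IsIrrCharacter.comp_equiv θ.2 e⟩ fun g n =>
      congrFun (Char.mem_stab.1 g.2) (e n)
  exact ⟨E, fun k => hE ⟨⟨k, hKT k.2⟩, k.2⟩⟩

/-- A subgroup of index prime to `q` all whose degrees are prime to `q` contains a normal abelian
Sylow subgroup of the whole group. -/
theorem exists_nsyl {q : ℕ} (hq : q.Prime) [Group.IsSolvable G] {T : Subgroup G}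
    (hidx : ¬ q ∣ T.index) (h : ∀ ψ : Cfsg.IrrCharacter T, ¬ q ∣ Cfsg.charDegree (ψ : T → ℂ)) :
    ∃ Q, NSyl q T Q := by
  haveI := Fact.mk hq
  obtain ⟨P⟩ : Nonempty (Sylow q T) := inferInstance
  haveI hPn := ItoMichler.normal_sylow_of_degrees q (Nat.card T) rfl
    Fusion.PSolvable.psolvable_of_solvable P h
  refine ⟨(P : Subgroup T).map T.subtype, map_subtype_le _, ?_, ?_, fun x hx => ?_⟩
  · rw [Subgroup.card_map_of_injective T.subtype_injective, P.card_eq_multiplicity,
      ← T.card_mul_index, Nat.factorization_mul Nat.card_pos.ne' T.index_ne_zero_of_finite,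
      Finsupp.add_apply, Nat.factorization_eq_zero_of_not_dvd hidx, add_zero]
  · rintro _ ⟨a, ha, rfl⟩ _ ⟨b, hb, rfl⟩
    exact congrArg (fun z : (P : Subgroup T) => ((z : T) : G))
      (ItoMichler.comm_of_normal P h ⟨a, ha⟩ ⟨b, hb⟩)
  · refine mem_normalizer_iff.2 fun y => ⟨?_, fun hy => ?_⟩
    · rintro ⟨a, ha, rfl⟩
      exact ⟨⟨x, hx⟩ * a * ⟨x, hx⟩⁻¹, hPn.conj_mem a ha _, rfl⟩
    · obtain ⟨a, ha, e⟩ := hy
      refine ⟨⟨x, hx⟩⁻¹ * a * ⟨x, hx⟩, hPn.conj_mem' a ha _, ?_⟩
      show x⁻¹ * (a : G) * x = y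
      rw [show (a : G) = x * y * x⁻¹ from e]
      group

end CfsgLib.CharDeep.Palfy
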