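import Cfsg.Agent.Lib.CharDeep.Palfy.Common

/-!
# The minimal normal subgroup is prime to the prime missing from the quotient
-/

set_option autoImplicit false

namespace CfsgLib.CharDeep.Palfy

open Subgroup CfsgLib
open scoped commutatorElement

variable {G : Type*} [Group G] [Finite G] [Group.IsSolvable G]

set_option maxHeartbeats 800000 in
/-- The case of a minimal normal subgroup of order prime to `p`. -/
theorem case_coprime {p q r t : ℕ} (hp : p.Prime) (hq : q.Prime) (hr : r.Prime) (hpq : p ≠ q)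
    (hpr : p ≠ r) (hqr : q ≠ r) (npq : NoDeg G (p * q)) (npr : NoDeg G (p * r))
    (nqr : NoDeg G (q * r)) (rp : ¬ NoDeg G p) (rq : ¬ NoDeg G q) (rr : ¬ NoDeg G r)
    {N : Subgroup G} [N.Normal] (hN : N ≠ ⊥)
    (hmin : ∀ A : Subgroup G, A.Normal → A ≤ N → A = ⊥ ∨ A = N)
    (hab : ∀ a ∈ N, ∀ b ∈ N, a * b = b * a) (ht : t.Prime) (hcard : ∃ a, Nat.card N = t ^ a)
    (htp : t ≠ p) (hquot : NoDeg (G ⧸ N) p) : False := by
  haveI := Fact.mk hp
  obtain ⟨P⟩ : Nonempty (Sylow p G) := inferInstance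
  let π := QuotientGroup.mk' N
  let Pb : Sylow p (G ⧸ N) := P.mapSurjective (QuotientGroup.mk'_surjective N)
  haveI hPbn : (Pb : Subgroup (G ⧸ N)).Normal := ItoMichler.normal_sylow_of_degrees p _ rfl
    Fusion.PSolvable.psolvable_of_solvable Pb hquot
  have hPbc := ItoMichler.comm_of_normal Pb hquot
  have hdisj : ∀ x ∈ (P : Subgroup G), x ∈ N → x = 1 := fun x hx hxN => by
    obtain ⟨k, hk⟩ := P.2 ⟨x, hx⟩
    obtain ⟨a, ha⟩ := hcard
    exact orderOf_eq_one_iff.1 (Nat.eq_one_of_dvd_coprimes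
      (Nat.Coprime.pow a k ((Nat.coprime_primes ht hp).2 htp))
      (ha ▸ Subgroup.orderOf_dvd_natCard N hxN)
      (orderOf_dvd_of_pow_eq_one (by simpa using congrArg Subtype.val hk)))
  have hPc : ∀ a ∈ (P : Subgroup G), ∀ b ∈ (P : Subgroup G), a * b = b * a := by
    intro a ha b hb
    refine commutatorElement_eq_one_iff_mul_comm.1 (hdisj _ ?_ ?_)
    · rw [commutatorElement_def]
      exact mul_mem (mul_mem (mul_mem ha hb) (inv_mem ha)) (inv_mem hb)
    · refine (QuotientGroup.eq_one_iff _).1 ?_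
      show π ⁅a, b⁆ = 1
      rw [map_commutatorElement, commutatorElement_eq_one_iff_mul_comm]
      have h1 : ∀ {x}, x ∈ (P : Subgroup G) → π x ∈ (Pb : Subgroup (G ⧸ N)) := fun {x} hx => by
        rw [Sylow.coe_mapSurjective]; exact mem_map_of_mem π hx
      exact congrArg Subtype.val (hPbc ⟨π a, h1 ha⟩ ⟨π b, h1 hb⟩)
  have hPnn : ¬ (P : Subgroup G).Normal := fun hn =>
    rp (haveI := hn; noDeg_of_abelian (P : Subgroup G) hPc P.not_dvd_index)
  haveI hM : ((P : Subgroup G) ⊔ N).Normal := by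
    have := hPbn.comap π
    rwa [Sylow.coe_mapSurjective, Subgroup.comap_map_eq, QuotientGroup.ker_mk'] at this
  set H := normalizer ((P : Subgroup G) : Set G) with hH
  have hHN : H ⊔ N = ⊤ := by
    have h1 := Sylow.normalizer_sup_eq_top' (N := (P : Subgroup G) ⊔ N) P le_sup_left
    refine eq_top_iff.2 (h1 ▸ sup_le le_sup_left (sup_le ?_ le_sup_right))
    exact le_normalizer.trans le_sup_left
  have hNH : ¬ N ≤ H := fun h => hPnn (normalizer_eq_top_iff.1
    (eq_top_iff.2 (hHN ▸ sup_le le_rfl h)))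
  have hint : H ⊓ N = ⊥ := by
    refine (hmin _ ?_ inf_le_right).resolve_right fun e => hNH (e ▸ inf_le_left)
    rw [← normalizer_eq_top_iff, eq_top_iff, ← hHN]
    refine sup_le (fun g hg => mem_normalizer_iff.2 fun x => ?_)
      fun g hg => mem_normalizer_iff.2 fun x => ?_
    · rw [mem_inf, mem_inf]
      refine and_congr ⟨fun h => mul_mem (mul_mem hg h) (inv_mem hg), fun h => ?_⟩
        ⟨fun h => Subgroup.Normal.conj_mem inferInstance x h g, fun h => ?_⟩
      · simpa [mul_assoc] using mul_mem (mul_mem (inv_mem hg) h) hg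
      · simpa [mul_assoc] using Subgroup.Normal.conj_mem' inferInstance _ h g
    · rw [mem_inf, mem_inf]
      constructor
      · rintro ⟨h1, h2⟩
        rw [hab g hg x h2, mul_inv_cancel_right]
        exact ⟨h1, h2⟩
      · rintro ⟨h1, h2⟩
        have h3 : g⁻¹ * (g * x * g⁻¹) * g = g * x * g⁻¹ := by
          rw [hab g⁻¹ (inv_mem hg) _ h2, inv_mul_cancel_right]
        rw [show g⁻¹ * (g * x * g⁻¹) * g = x by group] at h3
        rw [h3]; exact ⟨h1, h2⟩
  have hc : IsComplement' N H := isComplement'_of_disjoint_and_mul_eq_univ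
    (disjoint_iff.2 (inf_comm N H ▸ hint)) (by rw [← normal_mul, sup_comm, hHN, coe_top])
  have s : Setting G N H N t := ⟨inferInstance, inferInstance, hc, le_rfl, hN, hmin, hab, ht, hcard⟩
  -- the Sylow subgroup inside the complement
  let PH : Subgroup H := (P : Subgroup G).subgroupOf H
  have hPH : NSyl p (⊤ : Subgroup H) PH := by
    refine ⟨le_top, ?_, fun a ha b hb => Subtype.ext (hPc a ha b hb), fun h _ => ?_⟩
    · have hcardP : Nat.card PH = Nat.card (P : Subgroup G) :=
        Nat.card_congr (subgroupOfEquivOfLe le_normalizer).toEquiv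
      obtain ⟨k, hk⟩ := P.2.exists_card_eq
      have hidx : ¬ p ∣ PH.index := fun hd =>
        P.not_dvd_index (hd.trans (relIndex_dvd_index_of_le le_normalizer))
      rw [← PH.card_mul_index, Nat.factorization_mul Nat.card_pos.ne' PH.index_ne_zero_of_finite,
        Finsupp.add_apply, Nat.factorization_eq_zero_of_not_dvd hidx, add_zero, hcardP, hk,
        Nat.factorization_pow, Finsupp.smul_apply, hp.factorization_self, smul_eq_mul, mul_one]
    · exact mem_normalizer_iff.2 fun x => mem_normalizer_iff.1 h.2 (x : G)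
  -- `P` fixes no nontrivial character
  have hmove : ∀ l : N →* ℂˣ, l ≠ 1 → ¬ PH ≤ s.dstab l := by
    let A : Subgroup G :=
      { carrier := {n | ∃ hn : n ∈ N, ∀ l : N →* ℂˣ, PH ≤ s.dstab l → l ⟨n, hn⟩ = 1}
        one_mem' := ⟨one_mem _, fun l _ => map_one l⟩
        mul_mem' := fun {a b} ⟨ha, ha'⟩ ⟨hb, hb'⟩ => ⟨mul_mem ha hb, fun l hl => by
          rw [show (⟨a * b, mul_mem ha hb⟩ : N) = ⟨a, ha⟩ * ⟨b, hb⟩ from rfl, map_mul,
            ha' l hl, hb' l hl, one_mul]⟩
        inv_mem' := fun {a} ⟨ha, ha'⟩ => ⟨inv_mem ha, fun l hl => by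
          rw [show (⟨a⁻¹, inv_mem ha⟩ : N) = ⟨a, ha⟩⁻¹ from rfl, map_inv, ha' l hl, inv_one]⟩ }
    have hA : A.Normal := ⟨fun n ⟨hn, hn'⟩ g => by
      refine ⟨Subgroup.Normal.conj_mem inferInstance n hn g, fun l hl => ?_⟩
      have h1 := hn' (dualHom N g⁻¹ l) fun x hx => s.mem_dstab.2 ?_
      · refine Eq.trans (congrArg l (Subtype.ext ?_)) ((dualHom_apply g⁻¹ l ⟨n, hn⟩).symm.trans h1)
        simp
      · -- conjugates of `P` fix conjugates of `l`
        obtain ⟨⟨k, h⟩, rfl⟩ := hc.2 g
        dsimp only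
        have hk : dualHom N (k : G) = 1 := MulEquiv.ext fun l => MonoidHom.ext fun u => by
          rw [dualHom_apply]
          refine congrArg l (Subtype.ext ?_)
          show (k : G)⁻¹ * u * k = u
          rw [hab _ (inv_mem k.2) u u.2, inv_mul_cancel_right]
        show dualHom N (x : G) (dualHom N ((k : G) * h)⁻¹ l) = dualHom N ((k : G) * h)⁻¹ l
        rw [mul_inv_rev, map_mul, map_inv (dualHom N) (k : G), hk, inv_one, mul_one]
        have h2 : h * x * h⁻¹ ∈ PH := (mem_normalizer_iff.1 h.2 (x : G)).1 hx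
        have h3 := s.mem_dstab.1 (hl h2)
        rw [Subgroup.coe_mul, Subgroup.coe_mul, Subgroup.coe_inv] at h3
        rw [map_mul, map_mul, map_inv, MulAut.mul_apply, MulAut.mul_apply] at h3
        rw [map_inv]
        exact (dualHom N (h : G)).injective
          (h3.trans ((dualHom N (h : G)).apply_symm_apply l).symm)⟩
    intro l hl hfix
    rcases hmin A hA (fun n hn => hn.1) with e | e
    · refine hNH fun n hn => mem_normalizer_iff.2 fun x => ?_
      have hcomm : ∀ x ∈ (P : Subgroup G), x * n = n * x := fun x hx => by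
        have hmem : x * n * x⁻¹ * n⁻¹ ∈ A := by
          refine ⟨mul_mem (Subgroup.Normal.conj_mem inferInstance n hn x) (inv_mem hn),
            fun l' hl' => ?_⟩
          have h1 := s.mem_dstab.1 (hl' (show (⟨x⁻¹, inv_mem (le_normalizer hx)⟩ : H) ∈ PH from
            (P : Subgroup G).inv_mem hx))
          have h2 := DFunLike.congr_fun h1 ⟨n, hn⟩
          rw [dualHom_apply] at h2
          rw [show (⟨x * n * x⁻¹ * n⁻¹, _⟩ : N) =
            ⟨x * n * x⁻¹, Subgroup.Normal.conj_mem inferInstance n hn x⟩ * ⟨n, hn⟩⁻¹ from rfl,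
            map_mul, map_inv, mul_inv_eq_one, ← h2]
          exact congrArg l' (Subtype.ext (by simp))
        rw [e, mem_bot, mul_inv_eq_one, mul_inv_eq_iff_eq_mul] at hmem
        exact hmem
      constructor
      · intro hx; rwa [← hcomm x hx, mul_inv_cancel_right]
      · intro hx
        have h1 := hcomm _ hx
        have h2 : n⁻¹ * (n * x * n⁻¹) * n = n * x * n⁻¹ := by
          rw [mul_assoc, h1, ← mul_assoc, inv_mul_cancel, one_mul]
        rw [show n⁻¹ * (n * x * n⁻¹) * n = x by group] at h2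
        rwa [h2]
    · refine hl (MonoidHom.ext fun n => ?_)
      have hn : (n : G) ∈ A := e.symm ▸ n.2
      obtain ⟨hn', h⟩ := hn
      exact h l hfix
  have good : ∀ u, u.Prime → p ≠ u → NoDeg G (p * u) →
      ∀ l : N →* ℂˣ, l ≠ 1 → ∃ Q, NSyl u (s.dstab l) Q := fun u hu hpu nu l hl =>
    (good_of_pair hp hu hpu nu (T := s.dstab l) (linear_degrees hc l)
      ((dvd_index_of_not_le hp hPH (hmove l hl)).mul_right 1)).2
  have hdiv : ∀ u, u.Prime → p ≠ u → NoDeg G (p * u) → ¬ NoDeg G u →
      u ∣ Nat.card s.act.range := by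
    intro u hu hpu nu ru
    by_contra hd
    obtain ⟨Q, hQ, hQN⟩ := s.exists_normal_syl hu (good u hu hpu nu) hd
    haveI : Q.Normal := normalizer_eq_top_iff.1 (eq_top_iff.2 hQ.norm)
    obtain ⟨pr, h1, -, h3⟩ := exists_proj hc
    haveI := Fact.mk hu
    refine ru (haveI : (Q.comap pr).Normal := inferInstance; noDeg_of_abelian (Q.comap pr) ?_ ?_)
    · intro x hx y hy
      obtain ⟨n, hn, a, ha, rfl⟩ := mem_comap_proj h3 hx
      obtain ⟨n', hn', a', ha', rfl⟩ := mem_comap_proj h3 hy
      have e1 : Commute n n' := hab n hn n' hn'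
      have e2 : Commute n (a' : G) := (show Commute (a' : G) n from hQN a' ha' n hn).symm
      have e3 : Commute (a : G) n' := hQN a ha n' hn'
      have e4 : Commute (a : G) (a' : G) := congrArg (Subgroup.subtype H) (hQ.comm a ha a' ha')
      exact ((e1.mul_right e2).mul_left (e3.mul_right e4)).eq
    · rw [index_comap_of_surjective (f := pr) Q fun h : H => ⟨(h : G), h1 h⟩]
      exact (Sylow.ofCard Q hQ.card).not_dvd_index
  obtain ⟨χ, hχ⟩ := s.exists_degree hq hr hqr (good q hq hpq npq) (good r hr hpr npr)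
    (hdiv q hq hpq npq rq) (hdiv r hr hpr npr rr)
  exact nqr χ hχ

end CfsgLib.CharDeep.Palfy
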