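import Cfsg.Agent.Lib.CharDeep.Palfy.Module
import Mathlib.Algebra.BigOperators.Group.Finset.Sigma
import Mathlib.Data.Nat.Factorization.Basic

/-!
# Vectors partitioned by the Sylow subgroups fixing them
-/

set_option autoImplicit false

namespace CfsgLib.CharDeep.Palfy

open Subgroup

variable {H M : Type*} [Group H] [CommGroup M]

/-- The elements fixing `m`. -/
def fixer (φ : H →* MulAut M) (m : M) : Subgroup H where
  carrier := {h | φ h m = m}
  one_mem' := by simp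
  mul_mem' := fun {a b} (ha : φ a m = m) (hb : φ b m = m) => by
    show φ (a * b) m = m
    rw [map_mul, MulAut.mul_apply, hb, ha]
  inv_mem' := fun {a} (ha : φ a m = m) => by
    show φ a⁻¹ m = m
    conv_lhs => rw [← ha]
    rw [← MulAut.mul_apply, ← map_mul, inv_mul_cancel, map_one, MulAut.one_apply]

theorem card_ne_one_eq {A : Type*} [Group A] [Finite A] (W : Subgroup A) :
    Nat.card {x : A // x ∈ W ∧ x ≠ 1} = Nat.card W - 1 := by
  classical
  haveI := Fintype.ofFinite A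
  rw [Nat.card_eq_fintype_card, Nat.card_eq_fintype_card, Fintype.card_subtype,
    show Fintype.card W = Finset.card ({x : A | x ∈ W} : Finset A) from Fintype.card_subtype _,
    show ({x : A | x ∈ W ∧ x ≠ 1} : Finset A) = ({x : A | x ∈ W} : Finset A).erase 1 by
      ext x; simp [and_comm],
    Finset.card_erase_of_mem (by simp)]

/-- An invariant subgroup in which each non-identity vector is fixed by exactly one Sylow subgroup. -/
theorem count_partition [Finite H] [Finite M] (φ : H →* MulAut M) (D : Subgroup M)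
    (hD : ∀ h, ∀ m ∈ D, φ h m ∈ D) (hne : D ≠ ⊥) {r : ℕ} [Fact r.Prime]
    (hu : ∀ m ∈ D, m ≠ 1 → ∃ R, NSyl r (fixer φ m) R) (P₀ : Sylow r H) :
    ∃ W : Subgroup M, W ≤ D ∧ (∀ m, m ∈ W ↔ m ∈ D ∧ ∀ x ∈ P₀, φ x m = m) ∧ W ≠ ⊥ ∧
      Nat.card D - 1 = Nat.card (Sylow r H) * (Nat.card W - 1) := by
  classical
  haveI := Fintype.ofFinite (Sylow r H)
  let W : Sylow r H → Subgroup M := fun P =>
    { carrier := {m | m ∈ D ∧ ∀ x ∈ P, φ x m = m}
      one_mem' := ⟨one_mem _, fun x _ => map_one _⟩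
      mul_mem' := fun {a b} ha hb => ⟨mul_mem ha.1 hb.1, fun x hx => by
        rw [map_mul, ha.2 x hx, hb.2 x hx]⟩
      inv_mem' := fun {a} ha => ⟨inv_mem ha.1, fun x hx => by rw [map_inv, ha.2 x hx]⟩ }
  -- moving between Sylow subgroups
  have hmove : ∀ (g : H) (P : Sylow r H) (m : M), m ∈ W P → φ g m ∈ W (g • P) := by
    intro g P m hm
    refine ⟨hD g m hm.1, fun x hx => ?_⟩
    obtain ⟨y, hy, rfl⟩ : x ∈ (P : Subgroup H).map (MulAut.conj g).toMonoidHom := hx
    show φ (g * y * g⁻¹) (φ g m) = φ g m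
    rw [← MulAut.mul_apply, ← map_mul, inv_mul_cancel_right, map_mul, MulAut.mul_apply, hm.2 y hy]
  have hinv : ∀ (g : H) (m : M), φ g⁻¹ (φ g m) = m := fun g m => by
    rw [← MulAut.mul_apply, ← map_mul, inv_mul_cancel, map_one, MulAut.one_apply]
  have hcardW : ∀ P, Nat.card {m : M // m ∈ W P ∧ m ≠ 1} = Nat.card (W P₀) - 1 := by
    intro P
    rw [← card_ne_one_eq]
    obtain ⟨g, rfl⟩ := MulAction.exists_smul_eq H P₀ P
    have hback : ∀ m ∈ W (g • P₀), φ g⁻¹ m ∈ W P₀ := fun m hm => by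
      have := hmove g⁻¹ _ m hm
      rwa [inv_smul_smul] at this
    have hne : ∀ (g : H) (m : M), m ≠ 1 → φ g m ≠ 1 := fun g m hm e => hm (by
      rw [← hinv g m, e, map_one])
    refine (Nat.card_congr
      { toFun := fun m => ⟨φ g m.1, hmove g P₀ m.1 m.2.1, hne g m.1 m.2.2⟩
        invFun := fun m => ⟨φ g⁻¹ m.1, hback m.1 m.2.1, hne g⁻¹ m.1 m.2.2⟩
        left_inv := fun m => Subtype.ext (hinv g m.1)
        right_inv := fun m => Subtype.ext (by
          show φ g (φ g⁻¹ m.1) = m.1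
          have := hinv g⁻¹ m.1
          rwa [inv_inv] at this) }).symm
  have huniq : ∀ {P Q : Sylow r H} {m : M}, m ∈ W P → m ∈ W Q → m ≠ 1 → P = Q := by
    intro P Q m hP hQ hm
    obtain ⟨R, hR⟩ := hu m hP.1 hm
    have h : ∀ S : Sylow r H, m ∈ W S → (S : Subgroup H) = R := fun S hS =>
      Subgroup.eq_of_le_of_card_ge (hR.le_of_pgroup S.2 hS.2) (by rw [hR.card, S.card_eq_multiplicity])
    exact Sylow.ext ((h P hP).trans (h Q hQ).symm)
  have hex : ∀ m ∈ D, m ≠ 1 → ∃ P : Sylow r H, m ∈ W P := fun m hm hm1 => by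
    obtain ⟨R, hR⟩ := hu m hm hm1
    exact ⟨Sylow.ofCard R hR.card, hm, fun x hx => hR.le hx⟩
  have key : Nat.card D - 1 = Nat.card (Sylow r H) * (Nat.card (W P₀) - 1) := by
    rw [← card_ne_one_eq]
    have e : (Σ P : Sylow r H, {m : M // m ∈ W P ∧ m ≠ 1}) ≃ {m : M // m ∈ D ∧ m ≠ 1} :=
      Equiv.ofBijective (fun x => ⟨x.2.1, x.2.2.1.1, x.2.2.2⟩) ⟨fun x y h => by
          obtain ⟨P, m, hm⟩ := x
          obtain ⟨Q, m', hm'⟩ := y
          obtain rfl : m = m' := congrArg Subtype.val h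
          obtain rfl := huniq hm.1 hm'.1 hm.2
          rfl, fun ⟨m, hm, hm1⟩ => by
          obtain ⟨P, hP⟩ := hex m hm hm1
          exact ⟨⟨P, m, hP, hm1⟩, rfl⟩⟩
    rw [← Nat.card_congr e, Nat.card_sigma, Finset.sum_congr rfl fun P _ => hcardW P,
      Finset.sum_const, smul_eq_mul, Finset.card_univ, Nat.card_eq_fintype_card (α := Sylow r H)]
  refine ⟨W P₀, fun m hm => hm.1, fun m => Iff.rfl, fun e => ?_, key⟩
  rw [e, Subgroup.card_bot, Nat.sub_self, mul_zero, Nat.sub_eq_zero_iff_le] at key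
  exact hne (Subgroup.card_eq_one.1 (le_antisymm key Nat.card_pos))

/-- Two such partitions with the same number of Sylow subgroups have the same size. -/
theorem pow_eq_of_partition {p k n d w v : ℕ} (hp : p.Prime) (hn : ∃ a, n = p ^ a)
    (hd : ∃ a, d = p ^ a) (hw : ∃ a, w = p ^ a) (hv : ∃ a, v = p ^ a) (hw1 : 1 < w) (hv1 : 1 < v)
    (hwn : w < n) (h1 : n - 1 = k * (w - 1)) (h2 : d - 1 = k * (v - 1)) : n = d := by
  obtain ⟨a, rfl⟩ := hn
  obtain ⟨c, rfl⟩ := hd
  obtain ⟨b, rfl⟩ := hw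
  obtain ⟨e, rfl⟩ := hv
  have hk : 2 ≤ k := by
    rcases k with _ | _ | k
    · simp at h1; omega
    · simp at h1; omega
    · omega
  have hcd : ∀ {a b : ℕ}, 1 < p ^ b → p ^ a - 1 = k * (p ^ b - 1) →
      p ^ b ∣ k - 1 ∧ ¬ p ^ (b + 1) ∣ k - 1 := by
    intro a b hb h
    obtain ⟨j, rfl⟩ : ∃ j, k = j + 1 := ⟨k - 1, by omega⟩
    rw [Nat.add_sub_cancel]
    have hlt : p ^ b < p ^ a := by
      have h3 : 2 * (p ^ b - 1) ≤ (j + 1) * (p ^ b - 1) := Nat.mul_le_mul_right _ hk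
      omega
    have hba : b < a := (Nat.pow_lt_pow_iff_right hp.one_lt).1 hlt
    have hj : j * (p ^ b - 1) = p ^ a - p ^ b := by
      rw [add_mul, one_mul] at h
      omega
    have hcop : ∀ m, Nat.Coprime (p ^ m) (p ^ b - 1) := fun m => by
      refine Nat.Coprime.pow_left m (hp.coprime_iff_not_dvd.2 fun hdv => ?_)
      have h5 : p ∣ p ^ b := dvd_pow_self p (by rintro rfl; simp at hb)
      have h6 := Nat.dvd_sub h5 hdv
      rw [Nat.sub_sub_self hb.le] at h6
      exact hp.not_dvd_one h6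
    refine ⟨(hcop b).dvd_of_dvd_mul_right ?_, fun hdv => ?_⟩
    · rw [hj]
      exact Nat.dvd_sub (Nat.pow_dvd_pow p hba.le) dvd_rfl
    · have h5 : p ^ (b + 1) ∣ p ^ a - p ^ b := hj ▸ hdv.mul_right _
      have h6 : p ^ (b + 1) ∣ p ^ a := Nat.pow_dvd_pow p hba
      have h7 := Nat.dvd_sub h6 h5
      rw [Nat.sub_sub_self hlt.le, Nat.pow_dvd_pow_iff_le_right hp.one_lt] at h7
      omega
  obtain ⟨x1, x2⟩ := hcd hw1 h1
  obtain ⟨y1, y2⟩ := hcd hv1 h2
  have hbe : b = e := by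
    rcases lt_trichotomy b e with h | h | h
    · exact absurd ((Nat.pow_dvd_pow p h).trans y1) x2
    · exact h
    · exact absurd ((Nat.pow_dvd_pow p h).trans x1) y2
  subst hbe
  have h8 := hp.pos
  have h9 : 0 < p ^ a := Nat.pow_pos h8
  have h10 : 0 < p ^ c := Nat.pow_pos h8
  omega

end CfsgLib.CharDeep.Palfy
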