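import Cfsg.Agent.Lib.CharDeep.Palfy.Cyclic
import Cfsg.Agent.Lib.Coprime.FixedPointFreeOnModule
import Mathlib.GroupTheory.Commutator.Basic

/-!
# Minimal nonabelian layers over a maximal normal abelian subgroup

`Z` is a maximal abelian normal subgroup and `L` a minimal normal subgroup properly above it in
its centraliser.  The `r`-parts of the centraliser of `Z` in the vector stabilisers centralise
`L`, unless `L` is of exceptional type: its exponent modulo `Z` is two and `4` does not divide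
the order of `Z`.
-/

set_option autoImplicit false

namespace CfsgLib.CharDeep.Palfy

open Subgroup
open scoped commutatorElement

variable {H M : Type*} [Group H] [CommGroup M] [MulDistribMulAction H M] {q r t : ℕ}

/-- A maximal abelian normal subgroup. -/
structure MaxAb (Z : Subgroup H) : Prop where
  normal : Z.Normal
  comm : ∀ a ∈ Z, ∀ b ∈ Z, a * b = b * a
  max : ∀ B : Subgroup H, B.Normal → (∀ a ∈ B, ∀ b ∈ B, a * b = b * a) → Z ≤ B → B ≤ Z

/-- A minimal normal subgroup properly above `Z` inside the centraliser of `Z`. -/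
structure Layer (Z L : Subgroup H) : Prop where
  normal : L.Normal
  lt : Z < L
  le : L ≤ centralizer (Z : Set H)
  min : ∀ L' : Subgroup H, L'.Normal → Z < L' → L' ≤ L → L' = L

/-- `L` is centralised by the `r`-parts of `C(Z)` in all vector stabilisers. -/
def Centralised (M : Type*) [CommGroup M] [MulDistribMulAction H M] (r : ℕ) (Z L : Subgroup H) :
    Prop :=
  ∀ m : M, m ≠ 1 → ∀ R, NSyl r (MulAction.stabilizer H m) R →
    ∀ a ∈ R ⊓ centralizer (Z : Set H), ∀ l ∈ L, a * l = l * a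

/-- Conjugation by an element whose order divides a number prime to that of `L` fixes `l` if it
multiplies `l` by a fixed element. -/
theorem eq_one_of_conj_eq_mul {a c l : H} {n : ℕ} (han : a ^ n = 1) (hac : Commute a c)
    (h : a * l * a⁻¹ = c * l) {L : Subgroup H} (hcL : c ∈ L) (hL : (Nat.card L).Coprime n) :
    c = 1 := by
  have hk : ∀ k : ℕ, a ^ k * l * (a ^ k)⁻¹ = c ^ k * l := by
    intro k
    induction k with
    | zero => simp
    | succ k ih =>
      calc a ^ (k + 1) * l * (a ^ (k + 1))⁻¹ = a * (a ^ k * l * (a ^ k)⁻¹) * a⁻¹ := by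
            rw [pow_succ']; group
        _ = a * c ^ k * (l * a⁻¹) := by rw [ih]; group
        _ = c ^ k * (a * l * a⁻¹) := by rw [(hac.pow_right k).eq]; group
        _ = c ^ (k + 1) * l := by rw [h, pow_succ]; group
  have h1 := hk n
  rw [han, one_mul, inv_one, mul_one] at h1
  exact orderOf_eq_one_iff.1 (Nat.eq_one_of_dvd_coprimes hL (Subgroup.orderOf_dvd_natCard L hcL)
    (orderOf_dvd_of_pow_eq_one (mul_eq_right.1 h1.symm)))

namespace Layer

variable {Z L : Subgroup H} (hL : Layer Z L) (hZ : MaxAb Z)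

include hL hZ

theorem central {z x : H} (hz : z ∈ Z) (hx : x ∈ L) : z * x = x * z :=
  mem_centralizer_iff.1 (hL.le hx) z hz

theorem commutator_mem [Group.IsSolvable H] {x y : H} (hx : x ∈ L) (hy : y ∈ L) : ⁅x, y⁆ ∈ Z := by
  haveI := hL.normal
  haveI := hZ.normal
  haveI : (⁅L, L⁆ ⊔ Z).Normal := inferInstance
  rcases (le_sup_right : Z ≤ ⁅L, L⁆ ⊔ Z).eq_or_lt with e | hlt
  · rw [e]
    exact mem_sup_left (Subgroup.commutator_mem_commutator hx hy)
  · exfalso
    have e := hL.min _ inferInstance hlt (sup_le (Subgroup.commutator_le_left L L) hL.lt.le)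
    let π := QuotientGroup.mk' Z
    have h1 : (L.map π) = ⁅L.map π, L.map π⁆ := by
      conv_lhs => rw [← e, Subgroup.map_sup, QuotientGroup.map_mk'_self, sup_bot_eq,
        Subgroup.map_commutator]
    have h2 : ∀ n, L.map π ≤ derivedSeries (H ⧸ Z) n := by
      intro n
      induction n with
      | zero => exact le_top
      | succ n ih =>
        rw [derivedSeries_succ, h1]
        exact Subgroup.commutator_mono ih ih
    obtain ⟨n, hn⟩ := Group.IsSolvable.solvable (G := H ⧸ Z)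
    have h3 : L ≤ Z := fun l hl => (QuotientGroup.eq_one_iff l).1 (by
      have := h2 n ⟨l, hl, rfl⟩
      rwa [hn, mem_bot] at this)
    exact hL.lt.not_ge h3

theorem comm_central [Group.IsSolvable H] {x y w : H} (hx : x ∈ L) (hy : y ∈ L) (hw : w ∈ L) :
    Commute ⁅x, y⁆ w :=
  hL.central hZ (hL.commutator_mem hZ hx hy) hw

theorem mul_pow [Group.IsSolvable H] {x y : H} (hx : x ∈ L) (hy : y ∈ L) (n : ℕ) :
    (x * y) ^ n = x ^ n * y ^ n * ⁅y, x⁆ ^ n.choose 2 :=
  Coprime_mul_pow x y (hL.comm_central hZ hy hx hx) (hL.comm_central hZ hy hx hy) n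
where
  Coprime_mul_pow (x y : H) (h1 : Commute ⁅y, x⁆ x) (h2 : Commute ⁅y, x⁆ y) (n : ℕ) :
      (x * y) ^ n = x ^ n * y ^ n * ⁅y, x⁆ ^ n.choose 2 :=
    CfsgLib.Coprime.FixedPointFreeOnModule.mul_pow_of_commute
      (by rw [commutatorElement_def]; group) h1 h2 n

theorem comm_mul_left [Group.IsSolvable H] {x y w : H} (hy : y ∈ L) (hx : x ∈ L) (hw : w ∈ L) :
    ⁅x * y, w⁆ = ⁅x, w⁆ * ⁅y, w⁆ := by
  have h := hL.comm_central hZ hy hw hx
  calc ⁅x * y, w⁆ = x * ⁅y, w⁆ * x⁻¹ * ⁅x, w⁆ := by simp only [commutatorElement_def]; group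
    _ = ⁅y, w⁆ * ⁅x, w⁆ := by rw [← h.eq, mul_inv_cancel_right]
    _ = ⁅x, w⁆ * ⁅y, w⁆ := (hL.central hZ (hL.commutator_mem hZ hy hw)
        (hL.lt.le (hL.commutator_mem hZ hx hw)))

theorem exists_prime [Finite H] [Group.IsSolvable H] :
    ∃ s : ℕ, s.Prime ∧ ∀ x ∈ L, x ^ s ∈ Z := by
  haveI := hL.normal
  haveI := hZ.normal
  let π := QuotientGroup.mk' Z
  have hne : L.map π ≠ ⊥ := fun e => hL.lt.not_ge fun l hl =>
    (QuotientGroup.eq_one_iff l).1 (show π l = 1 from by simpa [e] using mem_map_of_mem π hl)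
  obtain ⟨s, hs, hsd⟩ := Nat.exists_prime_and_dvd ((L.map π).one_lt_card_iff_ne_bot.2 hne).ne'
  haveI := Fact.mk hs
  obtain ⟨w, hw⟩ := exists_prime_orderOf_dvd_card' s hsd
  let L₁ : Subgroup H :=
    { carrier := {x | x ∈ L ∧ x ^ s ∈ Z}
      one_mem' := ⟨one_mem _, by simp⟩
      mul_mem' := fun {a b} ⟨ha, ha'⟩ ⟨hb, hb'⟩ => ⟨mul_mem ha hb, by
        rw [hL.mul_pow hZ ha hb]
        exact mul_mem (mul_mem ha' hb') (pow_mem (hL.commutator_mem hZ hb ha) _)⟩
      inv_mem' := fun {a} ⟨ha, ha'⟩ => ⟨inv_mem ha, by rw [inv_pow]; exact inv_mem ha'⟩ }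
  haveI : L₁.Normal := ⟨fun x ⟨hx, hx'⟩ g => ⟨hL.normal.conj_mem x hx g, by
    rw [conj_pow]; exact hZ.normal.conj_mem _ hx' g⟩⟩
  obtain ⟨l, hl, e⟩ := w.2
  have hlt : Z < L₁ := SetLike.lt_iff_le_and_exists.2 ⟨fun z hz => ⟨hL.lt.le hz, pow_mem hz s⟩,
    l, show l ∈ L ∧ l ^ s ∈ Z from ⟨hl, (QuotientGroup.eq_one_iff _).1 (by
      show π (l ^ s) = 1
      rw [map_pow, e, ← Subgroup.coe_pow, ← hw, pow_orderOf_eq_one, Subgroup.coe_one])⟩,
    fun hlZ => hs.ne_one (by
      rw [← hw, orderOf_eq_one_iff]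
      exact Subtype.ext (e.symm.trans ((QuotientGroup.eq_one_iff l).2 hlZ)))⟩
  have := hL.min L₁ inferInstance hlt fun x hx => hx.1
  exact ⟨s, hs, fun x hx => (this.symm ▸ hx : x ∈ L₁).2⟩

theorem not_comm : ∃ x ∈ L, ∃ y ∈ L, x * y ≠ y * x := by
  by_contra! h
  exact hL.lt.not_ge (hZ.max L hL.normal h hL.lt.le)

theorem mem_of_central {x : H} (hx : x ∈ L) (h : ∀ y ∈ L, x * y = y * x) : x ∈ Z := by
  haveI := hL.normal
  let B : Subgroup H := L ⊓ centralizer (L : Set H)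
  refine hZ.max B inferInstance (fun a ha b hb => (mem_centralizer_iff.1 ha.2 b hb.1).symm)
    (le_inf hL.lt.le fun z hz => mem_centralizer_iff.2 fun y hy => (hL.central hZ hz hy).symm)
    ⟨hx, mem_centralizer_iff.2 fun y hy => (h y hy).symm⟩

end Layer

namespace Hyp

variable (c : Hyp H M q r t) {Z L : Subgroup H} (hZ : MaxAb Z) (hL : Layer Z L)

include c hZ hL

variable [Finite H] [Finite M]

theorem coprime_layer_aux {u : ℕ} (hu : u.Prime)
    (hbot : ∀ (N : Subgroup H), N.Normal → IsPGroup u N → N = ⊥) :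
    (Nat.card L).Coprime u := by
  haveI := Fact.mk hu
  haveI := c.solvable
  haveI := hL.normal
  haveI := hZ.normal
  obtain ⟨s, hs, hexp⟩ := hL.exists_prime hZ
  refine (hu.coprime_iff_not_dvd.2 fun hd => ?_).symm
  obtain ⟨y, hy⟩ := exists_prime_orderOf_dvd_card' u hd
  have hyu : (y : H) ^ u = 1 := by
    rw [← Subgroup.coe_pow, ← hy, pow_orderOf_eq_one, Subgroup.coe_one]
  have hy1 : (y : H) ≠ 1 := fun e =>
    hu.ne_one (by rw [← hy, ← Subgroup.orderOf_coe, e, orderOf_one])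
  let S : Subgroup H :=
    { carrier := {x | x ∈ L ∧ ∃ k : ℕ, x ^ u ^ k = 1}
      one_mem' := ⟨one_mem _, 0, one_pow _⟩
      mul_mem' := by
        rintro a b ⟨ha, k, hk⟩ ⟨hb, l, hl⟩
        refine ⟨mul_mem ha hb, k + l + 1, ?_⟩
        have hab : ⁅b, a⁆ ^ u ^ l = 1 := by
          have h1 : ∀ n : ℕ, ⁅b ^ n, a⁆ = ⁅b, a⁆ ^ n := fun n => by
            induction n with
            | zero => simp
            | succ n ih => rw [pow_succ, hL.comm_mul_left hZ hb (pow_mem hb n) ha, ih, pow_succ]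
          rw [← h1, hl, commutatorElement_one_left]
        obtain ⟨v, hv⟩ : u ^ l ∣ (u ^ (k + l + 1)).choose 2 := by
          rw [Nat.choose_two_right]
          refine (Nat.dvd_div_iff_mul_dvd (Nat.even_mul_pred_self _).two_dvd).2 ?_
          rcases hu.eq_two_or_odd' with h2 | h2
          · subst h2
            refine Dvd.dvd.mul_right ?_ _
            rw [← pow_succ']
            exact Nat.pow_dvd_pow _ (by omega)
          · have h3 : 2 ∣ u ^ (k + l + 1) - 1 := by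
              obtain ⟨j, hj⟩ := h2.pow (n := k + l + 1)
              omega
            rw [mul_comm 2]
            exact Nat.mul_dvd_mul (Nat.pow_dvd_pow _ (by omega)) h3
        rw [hL.mul_pow hZ ha hb, hv, pow_mul ⁅b, a⁆, hab, one_pow, mul_one,
          show k + l + 1 = k + (l + 1) by ring, pow_add, pow_mul, hk, one_pow, one_mul,
          show u ^ k * u ^ (l + 1) = u ^ l * u ^ (k + 1) by ring, pow_mul, hl, one_pow]
      inv_mem' := by
        rintro a ⟨ha, k, hk⟩
        exact ⟨inv_mem ha, k, by rw [inv_pow, hk, inv_one]⟩ }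
  haveI : S.Normal := ⟨fun x ⟨hx, k, hk⟩ g => ⟨hL.normal.conj_mem x hx g, k, by
    rw [conj_pow, hk, mul_one, mul_inv_cancel]⟩⟩
  have hS : IsPGroup u S := fun x => by
    obtain ⟨k, hk⟩ := x.2.2
    exact ⟨k, Subtype.ext (by simpa using hk)⟩
  have : (y : H) ∈ S := ⟨y.2, 1, by rwa [pow_one]⟩
  rw [hbot S inferInstance hS] at this
  exact hy1 (mem_bot.1 this)

theorem coprime_layer_r : (Nat.card L).Coprime r :=
  c.coprime_layer_aux hZ hL c.rprime fun N _ hN => c.eq_bot_of_normal_rgroup N hN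

theorem coprime_layer_t : (Nat.card L).Coprime t :=
  c.coprime_layer_aux hZ hL c.tprime fun N _ hN => c.eq_bot_of_normal_tgroup N hN

/-- Elements of `C(Z) ∩ R(m)` commute with elements of `L` fixing `m`. -/
theorem commute_of_fix {m : M} {R : Subgroup H} (hR : NSyl r (MulAction.stabilizer H m) R)
    {a e : H} (ha : a ∈ R) (he : e ∈ L) (hem : e • m = m) : a * e = e * a := by
  have h1 : ⁅a, e⁆ ∈ R := by
    rw [commutatorElement_def, mul_assoc, mul_assoc, ← mul_assoc e]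
    exact mul_mem ha ((mem_normalizer_iff.1 (hR.norm hem) _).1 (inv_mem ha))
  have h2 : ⁅a, e⁆ ∈ L := by
    rw [commutatorElement_def]
    exact mul_mem (hL.normal.conj_mem e he a) (inv_mem he)
  haveI := Fact.mk c.rprime
  obtain ⟨k, hk⟩ := IsPGroup.iff_orderOf.1 hR.isPGroup ⟨_, h1⟩
  rw [orderOf_mk] at hk
  rw [← commutatorElement_eq_one_iff_mul_comm, ← orderOf_eq_one_iff]
  exact Nat.eq_one_of_dvd_coprimes ((c.coprime_layer_r hZ hL).pow_right k)
    (Subgroup.orderOf_dvd_natCard L h2) hk.dvd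

end Hyp

/-- The configuration in a layer attached to a maximal elementary abelian subgroup `U`. -/
structure Frame (M : Type*) [CommGroup M] [MulDistribMulAction H M] (r s : ℕ) (Z L : Subgroup H)
    (U : Subgroup H) (m : M) (R : Subgroup H) : Prop where
  uL : U ≤ L
  ucomm : ∀ a ∈ U, ∀ b ∈ U, a * b = b * a
  uexp : ∀ a ∈ U, a ^ s = 1
  umax : ∀ x ∈ L, x ^ s = 1 → (∀ u ∈ U, u * x = x * u) → x ∈ U
  omega : ∀ z ∈ Z, z ^ s = 1 → z ∈ U
  mne : m ≠ 1
  syl : NSyl r (MulAction.stabilizer H m) R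
  cent : ∀ a ∈ R ⊓ centralizer (Z : Set H), ∀ u ∈ U, a * u = u * a

namespace Hyp

variable (c : Hyp H M q r t) {Z L : Subgroup H} (hZ : MaxAb Z) (hL : Layer Z L)

include c hZ hL

variable [Finite H] [Finite M]

theorem exists_frame {s : ℕ} (hs : s.Prime) (hexp : ∀ x ∈ L, x ^ s ∈ Z) :
    (∃ z ∈ Z, z ≠ 1 ∧ z ^ s = 1) ∧ ∃ (U : Subgroup H) (m : M) (R : Subgroup H),
      Frame M r s Z L U m R := by
  haveI := c.solvable
  haveI := hZ.normal
  haveI := Fact.mk hs
  obtain ⟨x, hx, y, hy, hxy⟩ := hL.not_comm hZ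
  set z₀ := ⁅x, y⁆ with hz₀
  have hz₀Z : z₀ ∈ Z := hL.commutator_mem hZ hx hy
  have hz₀1 : z₀ ≠ 1 := fun e => hxy (commutatorElement_eq_one_iff_mul_comm.1 e)
  have hz₀s : z₀ ^ s = 1 := by
    have h1 : ∀ n : ℕ, ⁅x ^ n, y⁆ = z₀ ^ n := fun n => by
      induction n with
      | zero => simp
      | succ n ih => rw [pow_succ, hL.comm_mul_left hZ hx (pow_mem hx n) hy, ih, pow_succ]
    rw [← h1, commutatorElement_eq_one_iff_mul_comm]
    exact hL.central hZ (hexp x hx) hy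
  refine ⟨⟨z₀, hz₀Z, hz₀1, hz₀s⟩, ?_⟩
  -- the elements of order dividing `s` of `Z`
  have hΩ : ∀ z ∈ Z, z ^ s = 1 → z ∈ zpowers z₀ := by
    intro z hz hzs
    haveI := c.isCyclic_of_normal_abelian Z hZ.comm
    obtain ⟨g, hg⟩ := IsCyclic.exists_generator (α := Z)
    have hcard : Nat.card (zpowers (⟨z₀, hz₀Z⟩ : Z)) = s := by
      rw [Nat.card_zpowers, orderOf_mk]
      exact orderOf_eq_prime hz₀s hz₀1
    haveI := Fintype.ofFinite Z
    classical
    have h3 := IsCyclic.card_pow_eq_one_le (α := Z) hs.pos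
    have hsub : ({w : Z | w ^ s = 1} : Finset Z) = (zpowers (⟨z₀, hz₀Z⟩ : Z) : Set Z).toFinset := by
      symm
      refine Finset.eq_of_subset_of_card_le (fun w hw => ?_) ?_
      · rw [Set.mem_toFinset] at hw
        obtain ⟨i, rfl⟩ := hw
        simp only [Finset.mem_filter, Finset.mem_univ, true_and]
        rw [← zpow_natCast, ← zpow_mul, mul_comm, zpow_mul, zpow_natCast,
          show (⟨z₀, hz₀Z⟩ : Z) ^ s = 1 from Subtype.ext hz₀s, one_zpow]
      · refine h3.trans (le_of_eq ?_)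
        rw [Set.toFinset_card, ← Nat.card_eq_fintype_card]
        exact hcard.symm
    have h4 : (⟨z, hz⟩ : Z) ∈ ({w : Z | w ^ s = 1} : Finset Z) := by
      simp only [Finset.mem_filter, Finset.mem_univ, true_and]
      exact Subtype.ext hzs
    rw [hsub, Set.mem_toFinset] at h4
    obtain ⟨i, hi⟩ := h4
    exact ⟨i, by simpa using congrArg Subtype.val hi⟩
  obtain ⟨U, hU₀, hU⟩ := Finite.exists_le_maximal
    (p := fun U : Subgroup H => U ≤ L ∧ (∀ a ∈ U, ∀ b ∈ U, a * b = b * a) ∧ ∀ a ∈ U, a ^ s = 1)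
    (a := zpowers z₀) ⟨zpowers_le.2 (hL.lt.le hz₀Z),
      fun a ha b hb => hZ.comm a (zpowers_le.2 hz₀Z ha) b (zpowers_le.2 hz₀Z hb),
      fun a ha => by
        obtain ⟨i, rfl⟩ := ha
        rw [← zpow_natCast, ← zpow_mul, mul_comm, zpow_mul, zpow_natCast, hz₀s, one_zpow]⟩
  obtain ⟨hUL, hUc, hUe⟩ := hU.prop
  obtain ⟨K, hKU, hle, m, hmK, hm⟩ := c.exists_fix_index hs U hUc hUe
    ((c.coprime_layer_t hZ hL).coprime_dvd_left (card_dvd_of_le hUL))
  obtain ⟨R, hR⟩ := c.rsyl m hm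
  refine ⟨U, m, R, hUL, hUc, hUe, fun w hw hws hwu => ?_,
    fun z hz hzs => hU₀ (hΩ z hz hzs), hm, hR, ?_⟩
  · have hW : U ⊔ zpowers w ≤ L := sup_le hUL (zpowers_le.2 hw)
    have hcl : U ⊔ zpowers w = closure ((U : Set H) ∪ {w}) := by
      rw [Subgroup.closure_union, closure_eq, zpowers_eq_closure]
    have hcomm : ∀ a ∈ U ⊔ zpowers w, ∀ b ∈ U ⊔ zpowers w, a * b = b * a := by
      intro a ha b hb
      rw [hcl] at ha hb
      have hgen : ∀ g ∈ (U : Set H) ∪ {w}, ∀ g' ∈ (U : Set H) ∪ {w}, g * g' = g' * g := by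
        rintro g (hg | rfl) g' (hg' | rfl)
        · exact hUc g hg g' hg'
        · exact hwu g hg
        · exact (hwu g' hg').symm
        · rfl
      exact congrArg Subtype.val ((Subgroup.isMulCommutative_closure hgen).is_comm.comm
        ⟨a, ha⟩ ⟨b, hb⟩)
    refine hU.le_of_ge ⟨hW, hcomm, fun a ha => ?_⟩ le_sup_left (mem_sup_right (mem_zpowers w))
    have ha' := ha
    rw [hcl] at ha'
    clear ha
    induction ha' using closure_induction with
    | mem g hg => rcases hg with hg | rfl; exacts [hUe g hg, hws]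
    | one => exact one_pow _
    | mul g g' hg hg' e e' =>
      rw [(show Commute g g' from hcomm g (hcl ▸ hg) g' (hcl ▸ hg')).mul_pow, e, e', one_mul]
    | inv g _ e => rw [inv_pow, e, inv_one]
  · intro a ha u hu
    have haz : Commute a z₀ := (mem_centralizer_iff.1 ha.2 z₀ hz₀Z).symm
    have hK : ∀ k ∈ K, a * k = k * a := fun k hk =>
      c.commute_of_fix hZ hL hR ha.1 (hUL (hKU hk)) (hmK k hk)
    have hdisj : K ⊓ zpowers z₀ = ⊥ := eq_bot_iff.2 fun k hk => mem_bot.2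
      (c.semiregular Z hZ.comm (zpowers_le.2 hz₀Z hk.2) hm (hmK k hk.1))
    have hsup : K ⊔ zpowers z₀ = U := by
      refine Subgroup.eq_of_le_of_card_ge (sup_le hKU hU₀) (hle.trans ?_)
      rw [mul_comm, show s = Nat.card (zpowers z₀) by
        rw [Nat.card_zpowers]; exact (orderOf_eq_prime hz₀s hz₀1).symm]
      rw [← Nat.card_prod]
      refine Nat.card_le_card_of_injective
        (fun p => ⟨p.1.1 * p.2.1, mul_mem (mem_sup_left p.1.2) (mem_sup_right p.2.2)⟩) ?_
      exact fun p p' h => (mul_injective_of_disjoint (disjoint_iff.2 hdisj))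
        (congrArg Subtype.val h)
    have hle : U ≤ centralizer {a} := by
      rw [← hsup]
      refine sup_le (fun k hk => mem_centralizer_singleton_iff.2 (hK k hk).symm) (zpowers_le.2 ?_)
      exact mem_centralizer_singleton_iff.2 haz.eq.symm
    exact (mem_centralizer_singleton_iff.1 (hle hu)).symm

omit [Finite M] in
/-- The `r`-part of the frame moves the layer inside the centraliser of `U`. -/
theorem frame_comm_mem {s : ℕ} {U : Subgroup H} {m : M} {R : Subgroup H}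
    (F : Frame M r s Z L U m R) {a l : H} (ha : a ∈ R ⊓ centralizer (Z : Set H)) (hl : l ∈ L) :
    ∃ d ∈ L, a * l * a⁻¹ = d * l ∧ ∀ u ∈ U, u * d = d * u := by
  haveI := c.solvable
  refine ⟨a * l * a⁻¹ * l⁻¹, mul_mem (hL.normal.conj_mem l hl a) (inv_mem hl), by group,
    fun u hu => ?_⟩
  have hk := hL.commutator_mem hZ (F.uL hu) hl
  have h1 : ⁅u, a * l * a⁻¹⁆ = ⁅u, l⁆ := by
    have hau : a * u * a⁻¹ = u := by rw [F.cent a ha u hu, mul_inv_cancel_right]
    have hak : a * ⁅u, l⁆ * a⁻¹ = ⁅u, l⁆ := by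
      rw [← mem_centralizer_iff.1 ha.2 _ hk, mul_inv_cancel_right]
    calc ⁅u, a * l * a⁻¹⁆ = ⁅a * u * a⁻¹, a * l * a⁻¹⁆ := by rw [hau]
      _ = a * ⁅u, l⁆ * a⁻¹ := by simp only [commutatorElement_def]; group
      _ = ⁅u, l⁆ := hak
  rw [← commutatorElement_eq_one_iff_mul_comm]
  have hlL := hL.normal.conj_mem l hl a
  calc ⁅u, a * l * a⁻¹ * l⁻¹⁆
      = ⁅u, a * l * a⁻¹⁆ * ((a * l * a⁻¹) * ⁅u, l⁻¹⁆ * (a * l * a⁻¹)⁻¹) := by
        simp only [commutatorElement_def]; group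
    _ = ⁅u, l⁆ * ⁅u, l⁻¹⁆ := by
      rw [h1, ← (hL.comm_central hZ (F.uL hu) (inv_mem hl) hlL).eq, mul_inv_cancel_right]
    _ = 1 := by
      have h2 : ⁅u, l * l⁻¹⁆ = ⁅u, l⁆ * (l * ⁅u, l⁻¹⁆ * l⁻¹) := by
        simp only [commutatorElement_def]; group
      rw [mul_inv_cancel, commutatorElement_one_right,
        ← (hL.comm_central hZ (F.uL hu) (inv_mem hl) hl).eq, mul_inv_cancel_right] at h2
      exact h2.symm

/-- An element of the frame fixing the centraliser of `U` modulo `U Z` fixes the layer. -/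
theorem frame_fix {s : ℕ} {U : Subgroup H} {m : M} {R : Subgroup H}
    (F : Frame M r s Z L U m R) {a : H} (ha : a ∈ R ⊓ centralizer (Z : Set H))
    (h : ∀ d ∈ L, (∀ u ∈ U, u * d = d * u) → a * d * a⁻¹ * d⁻¹ ∈ U ⊔ Z) :
    ∀ l ∈ L, a * l = l * a := by
  have han : ∃ n, a ^ n = 1 ∧ (Nat.card L).Coprime n := by
    haveI := Fact.mk c.rprime
    obtain ⟨k, hk⟩ := IsPGroup.iff_orderOf.1 F.syl.isPGroup ⟨a, ha.1⟩
    rw [orderOf_mk] at hk
    exact ⟨r ^ k, hk ▸ pow_orderOf_eq_one a, (c.coprime_layer_r hZ hL).pow_right k⟩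
  obtain ⟨n, han, hn⟩ := han
  have hUZ : U ⊔ Z ≤ centralizer {a} := sup_le
    (fun u hu => mem_centralizer_singleton_iff.2 (F.cent a ha u hu).symm)
    (fun z hz => mem_centralizer_singleton_iff.2 (mem_centralizer_iff.1 ha.2 z hz))
  have h1 : ∀ d ∈ L, (∀ u ∈ U, u * d = d * u) → a * d = d * a := by
    intro d hd hdu
    have hc := eq_one_of_conj_eq_mul (l := d) (c := a * d * a⁻¹ * d⁻¹) han
      (mem_centralizer_singleton_iff.1 (hUZ (h d hd hdu))).symm (by group)
      (mul_mem (hL.normal.conj_mem d hd a) (inv_mem hd)) hn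
    rwa [mul_inv_eq_one, mul_inv_eq_iff_eq_mul] at hc
  intro l hl
  obtain ⟨d, hd, e, hdu⟩ := c.frame_comm_mem hZ hL F ha hl
  rw [eq_one_of_conj_eq_mul han (h1 d hd hdu) e hd hn, one_mul] at e
  exact mul_inv_eq_iff_eq_mul.1 e

omit hL in
/-- If one of the `r`-parts centralises a normal subgroup, all do. -/
theorem centralised_of_one (L : Subgroup H) [L.Normal] {m : M} {R : Subgroup H}
    (hR : NSyl r (MulAction.stabilizer H m) R)
    (h : ∀ a ∈ R ⊓ centralizer (Z : Set H), ∀ l ∈ L, a * l = l * a) : Centralised M r Z L := by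
  haveI := Fact.mk c.rprime
  haveI := hZ.normal
  intro m' _ R' hR' a ha l hl
  obtain ⟨g, hg⟩ := MulAction.exists_smul_eq H
    (Sylow.ofCard R hR.card) (Sylow.ofCard R' hR'.card)
  have hg' : R.map (MulAut.conj g).toMonoidHom = R' :=
    congrArg (fun S : Sylow r H => (S : Subgroup H)) hg
  obtain ⟨b, hb, rfl⟩ := hg'.symm ▸ ha.1
  have hbC : b ∈ centralizer (Z : Set H) := by
    refine mem_centralizer_iff.2 fun z hz => ?_
    have h1 := mem_centralizer_iff.1 ha.2 (g * z * g⁻¹) (hZ.normal.conj_mem z hz g)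
    change g * z * g⁻¹ * (g * b * g⁻¹) = g * b * g⁻¹ * (g * z * g⁻¹) at h1
    calc z * b = g⁻¹ * (g * z * g⁻¹ * (g * b * g⁻¹)) * g := by group
      _ = g⁻¹ * (g * b * g⁻¹ * (g * z * g⁻¹)) * g := by rw [h1]
      _ = b * z := by group
  show g * b * g⁻¹ * l = l * (g * b * g⁻¹)
  have h2 := h b ⟨hb, hbC⟩ (g⁻¹ * l * g) (Subgroup.Normal.conj_mem' inferInstance l hl g)
  calc g * b * g⁻¹ * l = g * (b * (g⁻¹ * l * g)) * g⁻¹ := by group
    _ = g * (g⁻¹ * l * g * b) * g⁻¹ := by rw [h2]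
    _ = l * (g * b * g⁻¹) := by group

/-- Outside the exceptional type the layer is centralised. -/
theorem centralised_of_regular {s : ℕ} (hs : s.Prime) (hexp : ∀ x ∈ L, x ^ s ∈ Z)
    (hreg : s = 2 → 4 ∣ Nat.card Z) : Centralised M r Z L := by
  haveI := Fact.mk hs
  haveI := c.solvable
  haveI := hL.normal
  haveI := hZ.normal
  haveI := c.isCyclic_of_normal_abelian Z hZ.comm
  obtain ⟨-, U, m, R, F⟩ := c.exists_frame hZ hL hs hexp
  -- every coset has an element of order dividing `s`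
  suffices hlift : ∀ x ∈ L, ∃ z ∈ Z, (x * z) ^ s = 1 by
    refine c.centralised_of_one hZ L F.syl fun a ha =>
      c.frame_fix hZ hL F ha fun d hd hdu => ?_
    have h1 : d ∈ U ⊔ Z := by
      obtain ⟨z, hz, hzs⟩ := hlift d hd
      have h2 : d * z ∈ U := F.umax _ (mul_mem hd (hL.lt.le hz)) hzs fun u hu => by
        rw [← mul_assoc, hdu u hu, mul_assoc, ← hL.central hZ hz (F.uL hu), mul_assoc]
      have := mul_mem (mem_sup_left (T := Z) h2) (mem_sup_right (inv_mem hz))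
      rwa [mul_inv_cancel_right] at this
    have hfix : a * d * a⁻¹ = d := by
      have hle : U ⊔ Z ≤ centralizer {a} := sup_le
        (fun u hu => mem_centralizer_singleton_iff.2 (F.cent a ha u hu).symm)
        (fun z hz => mem_centralizer_singleton_iff.2 (mem_centralizer_iff.1 ha.2 z hz))
      rw [← mem_centralizer_singleton_iff.1 (hle h1), mul_inv_cancel_right]
    rw [hfix, mul_inv_cancel]
    exact one_mem _
  let Zs : Subgroup H :=
    { carrier := {w | ∃ z ∈ Z, z ^ s = w}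
      one_mem' := ⟨1, one_mem _, one_pow _⟩
      mul_mem' := by
        rintro _ _ ⟨z, hz, rfl⟩ ⟨z', hz', rfl⟩
        exact ⟨z * z', mul_mem hz hz', (show Commute z z' from hZ.comm z hz z' hz').mul_pow s⟩
      inv_mem' := by
        rintro _ ⟨z, hz, rfl⟩
        exact ⟨z⁻¹, inv_mem hz, inv_pow z s⟩ }
  have hZs : ∀ {w : H}, w ∈ Zs ↔ ∃ z ∈ Z, z ^ s = w := Iff.rfl
  obtain ⟨g, hg⟩ := IsCyclic.exists_generator (α := Z)
  have hgen : ∀ z ∈ Z, ∃ i : ℕ, (g : H) ^ i = z := fun z hz => by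
    obtain ⟨i, hi⟩ := (isOfFinOrder_of_finite g).mem_powers_iff_mem_zpowers.2 (hg ⟨z, hz⟩)
    exact ⟨i, by simpa using congrArg Subtype.val hi⟩
  -- commutators are `s`-th powers after raising to `s` choose 2
  have hc2 : ∀ {a b : H}, a ∈ L → b ∈ L → ⁅a, b⁆ ^ s.choose 2 ∈ Zs := by
    intro a b ha hb
    have hcs : ⁅a, b⁆ ^ s = 1 := by
      have h1 : ∀ n : ℕ, ⁅a ^ n, b⁆ = ⁅a, b⁆ ^ n := fun n => by
        induction n with
        | zero => simp
        | succ n ih => rw [pow_succ, hL.comm_mul_left hZ ha (pow_mem ha n) hb, ih, pow_succ]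
      rw [← h1, commutatorElement_eq_one_iff_mul_comm]
      exact hL.central hZ (hexp a ha) hb
    rcases hs.eq_two_or_odd' with h2 | h2
    · subst h2
      rw [Nat.choose_self, pow_one]
      obtain ⟨i, hi⟩ := hgen _ (hL.commutator_mem hZ ha hb)
      have hev : 2 ∣ i := by
        have h3 : (g : H) ^ (2 * i) = 1 := by rw [mul_comm, pow_mul, hi, hcs]
        have h4 := (hreg rfl).trans (orderOf_eq_card_of_forall_mem_zpowers hg ▸ dvd_refl _ :
          Nat.card Z ∣ orderOf g)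
        have h5 : orderOf (g : H) ∣ 2 * i := orderOf_dvd_of_pow_eq_one h3
        rw [Subgroup.orderOf_coe] at h5
        have := h4.trans h5
        omega
      obtain ⟨j, rfl⟩ := hev
      exact hZs.2 ⟨(g : H) ^ j, pow_mem g.2 _, by rw [← pow_mul, mul_comm, hi]⟩
    · obtain ⟨j, hj⟩ := h2
      have : s.choose 2 = s * j := by
        rw [Nat.choose_two_right, hj, show (2 * j + 1) * (2 * j + 1 - 1) = (2 * j + 1) * j * 2 by
          rw [Nat.add_sub_cancel]; ring, Nat.mul_div_cancel _ two_pos]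
      rw [this, pow_mul, hcs, one_pow]
      exact one_mem _
  let K : Subgroup H :=
    { carrier := {x | x ∈ L ∧ x ^ s ∈ Zs}
      one_mem' := ⟨one_mem _, by simp⟩
      mul_mem' := fun {a b} ⟨ha, ha'⟩ ⟨hb, hb'⟩ => ⟨mul_mem ha hb, by
        rw [hL.mul_pow hZ ha hb]; exact mul_mem (mul_mem ha' hb') (hc2 hb ha)⟩
      inv_mem' := fun {a} ⟨ha, ha'⟩ => ⟨inv_mem ha, by rw [inv_pow]; exact inv_mem ha'⟩ }
  haveI : K.Normal := ⟨fun x ⟨hx, hx'⟩ h => by
    refine ⟨hL.normal.conj_mem x hx h, ?_⟩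
    obtain ⟨z, hz, e⟩ := hZs.1 hx'
    rw [conj_pow, ← e, ← conj_pow]
    exact hZs.2 ⟨_, hZ.normal.conj_mem z hz h, rfl⟩⟩
  have hZK : Z ≤ K := fun z hz => ⟨hL.lt.le hz, hZs.2 ⟨z, hz, rfl⟩⟩
  rcases hZK.eq_or_lt with e | hlt
  · exfalso
    obtain ⟨x, hx, y, hy, hxy⟩ := hL.not_comm hZ
    have hxK : x ∉ Z := fun h => hxy (hL.central hZ h hy)
    obtain ⟨i, hi⟩ := hgen _ (hexp x hx)
    obtain ⟨j, hj⟩ := hgen _ (hexp y hy)
    have his : ¬ s ∣ i := by
      rintro ⟨u, rfl⟩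
      exact hxK (e ▸ ⟨hx, hZs.2 ⟨(g : H) ^ u, pow_mem g.2 _, by rw [← pow_mul, mul_comm, hi]⟩⟩)
    obtain ⟨v, hv⟩ : ∃ v : ℕ, s ∣ j + i * v := by
      have hi0 : (i : ZMod s) ≠ 0 := fun e => his ((ZMod.natCast_eq_zero_iff i s).1 e)
      refine ⟨(-(j : ZMod s) / i).val, (ZMod.natCast_eq_zero_iff _ s).1 ?_⟩
      push_cast
      rw [ZMod.natCast_val, ZMod.cast_id, mul_div_cancel₀ _ hi0]
      ring
    have h1 : y * x ^ v ∈ K := by
      refine ⟨mul_mem hy (pow_mem hx _), ?_⟩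
      rw [hL.mul_pow hZ hy (pow_mem hx _), ← pow_mul, mul_comm v s, pow_mul, ← hi, ← hj,
        ← pow_mul, ← pow_add]
      refine mul_mem ?_ (hc2 (pow_mem hx _) hy)
      obtain ⟨u, hu⟩ := hv
      rw [hu]
      exact hZs.2 ⟨(g : H) ^ u, pow_mem g.2 _, by rw [← pow_mul, mul_comm]⟩
    rw [← e] at h1
    refine hxy ?_
    have h2 := hL.central hZ h1 hx
    have h3 : Commute (x ^ v) x := (Commute.refl x).pow_left v
    have h4 : Commute (y * x ^ v * (x ^ v)⁻¹) x := (show Commute (y * x ^ v) x from h2).mul_left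
      h3.inv_left
    rw [mul_inv_cancel_right] at h4
    exact h4.symm.eq
  · intro x hx
    have := hL.min K inferInstance hlt fun w hw => hw.1
    obtain ⟨z, hz, e⟩ := hZs.1 (this.symm ▸ hx : x ∈ K).2
    refine ⟨z⁻¹, inv_mem hz, ?_⟩
    rw [(show Commute x z⁻¹ from (hL.central hZ (inv_mem hz) hx).symm).mul_pow, inv_pow, e,
      mul_inv_cancel]

end Hyp

end CfsgLib.CharDeep.Palfy
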