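import Cfsg.Agent.Lib.CharDeep.Palfy.Common
import Cfsg.Agent.Lib.CharDeep.Palfy.Count
import Cfsg.Agent.Lib.CharDeep.Palfy.Layer
import Cfsg.Agent.Lib.CharDeep.Glauberman.InvariantLinear
import Cfsg.Agent.Lib.DegreeTools.LinearChars
import Cfsg.Agent.Lib.Solvable.FrattiniFitting

/-!
# The minimal normal subgroup is the derived subgroup of a normal Sylow subgroup
-/

set_option autoImplicit false

namespace CfsgLib.CharDeep.Palfy

open Subgroup CfsgLib
open scoped commutatorElement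

variable {G : Type*} [Group G]

/-- A nonabelian normal Sylow `p`-subgroup `P` with complement `H`, whose derived subgroup is the
minimal normal subgroup `N`. -/
structure PData (G : Type*) [Group G] (p : ℕ) (P H N : Subgroup G) : Prop where
  prime : p.Prime
  Pn : P.Normal
  Nn : N.Normal
  set : Setting G P H N p
  cop : (Nat.card P).Coprime P.index
  pg : IsPGroup p P
  derived : ⁅P, P⁆ = N

namespace PData

variable {p : ℕ} {P H N : Subgroup G} (d : PData G p P H N)

include d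

theorem derived_mem {a b : G} (ha : a ∈ P) (hb : b ∈ P) : ⁅a, b⁆ ∈ N :=
  d.derived ▸ Subgroup.commutator_mem_commutator ha hb

variable [Finite G]

theorem map_commutator_eq : (_root_.commutator P).map P.subtype = N := by
  rw [Subgroup.map_subtype_commutator, d.derived]

theorem hom_apply_eq_one (f : P →* ℂˣ) {x : P} (hx : (x : G) ∈ N) : f x = 1 := by
  rw [← d.map_commutator_eq] at hx
  obtain ⟨y, hy, e⟩ := hx
  exact MonoidHom.mem_ker.1 ((Abelianization.commutator_subset_ker f) (Subtype.ext e ▸ hy))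

theorem mem_of_forall_hom {x : P} (h : ∀ f : P →* ℂˣ, f x = 1) : (x : G) ∈ N := by
  haveI := d.Nn
  haveI := d.Pn
  letI : CommGroup (P ⧸ N.subgroupOf P) :=
    { (inferInstance : Group (P ⧸ N.subgroupOf P)) with
      mul_comm := by
        rintro ⟨a⟩ ⟨b⟩
        refine (QuotientGroup.eq_iff_div_mem).2 ?_
        show ((a * b / (b * a) : P) : G) ∈ N
        rw [show ((a * b / (b * a) : P) : G) = ⁅(a : G), (b : G)⁆ by
          simp [div_eq_mul_inv, commutatorElement_def, mul_assoc]]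
        exact d.derived_mem a.2 b.2 }
  by_contra hx
  have hne : (QuotientGroup.mk x : P ⧸ N.subgroupOf P) ≠ 1 := fun e =>
    hx ((QuotientGroup.eq_one_iff x).1 e)
  obtain ⟨f, hf⟩ := CommGroup.exists_apply_ne_one_of_hasEnoughRootsOfUnity _ ℂ hne
  exact hf (h (f.comp (QuotientGroup.mk' (N.subgroupOf P))))

theorem comm_of_mod {q : ℕ} (hq : q.Prime) (hqp : q ≠ p) {Q : Subgroup H} (hQ : IsPGroup q Q)
    {a : H} (ha : a ∈ Q) (hN : ∀ n ∈ N, (a : G) * n = n * a) {x : G} (hx : x ∈ P)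
    (h : (a : G) * x * (a : G)⁻¹ * x⁻¹ ∈ N) : (a : G) * x = x * a := by
  haveI := Fact.mk d.prime
  obtain ⟨k, hk⟩ := hQ ⟨a, ha⟩
  obtain ⟨i, hi⟩ := d.pg.exists_card_eq
  have hk' : (a : G) ^ q ^ k = 1 := by
    simpa using congrArg (fun z : Q => ((z : H) : G)) hk
  have := eq_one_of_conj_eq_mul (l := x) (c := (a : G) * x * (a : G)⁻¹ * x⁻¹) hk' (hN _ h)
    (by group) (d.set.le h)
    (hi ▸ Nat.Coprime.pow i k ((Nat.coprime_primes d.prime hq).2 hqp.symm))
  rwa [mul_inv_eq_one, mul_inv_eq_iff_eq_mul] at this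

theorem dvd_deg {θ : Cfsg.IrrCharacter P} (h : (θ : P → ℂ) 1 ≠ 1) :
    p ∣ Cfsg.charDegree (θ : P → ℂ) := by
  haveI := Fact.mk d.prime
  obtain ⟨i, hi⟩ := d.pg.exists_card_eq
  obtain ⟨j, -, hj⟩ := (Nat.dvd_prime_pow d.prime).1 (hi ▸ DegreeTools.deg_dvd_card θ)
  rcases j with _ | j
  · exact absurd ((DegreeTools.deg_eq_one_iff θ).1 (hj.trans (pow_zero p))) h
  · exact hj ▸ dvd_pow_self p j.succ_ne_zero

/-- An invariant character over a nontrivial character of `N`. -/
theorem exists_theta [Group.IsSolvable G] [N.Normal] [P.Normal] {l : N →* ℂˣ} (hl : l ≠ 1) :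
    ∃ θ : Cfsg.IrrCharacter P, (Char.stab (θ : P → ℂ)).subgroupOf H = d.set.dstab l ∧
      p ∣ Cfsg.charDegree (θ : P → ℂ) := by
  classical
  cases nonempty_fintype G
  set Γ := Char.stab (fun n : N => (l n : ℂ))
  have hPΓ : P ≤ Γ := fun x hx => by
    refine Char.mem_stab.2 (funext fun n => congrArg (fun z => (l z : ℂ)) (Subtype.ext ?_))
    show x * n * x⁻¹ = n
    rw [d.set.cent x hx n n.2, mul_inv_cancel_right]
  have hNΓ : N ≤ Γ := d.set.le.trans hPΓ
  let eP : P.subgroupOf Γ ≃* P := subgroupOfEquivOfLe hPΓ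
  let eN : N.subgroupOf Γ ≃* N := subgroupOfEquivOfLe hNΓ
  haveI : (P.subgroupOf Γ).Normal := inferInstance
  haveI : (N.subgroupOf Γ).Normal := inferInstance
  have hcop : (P.subgroupOf Γ).index.Coprime ((N.subgroupOf Γ).relIndex (P.subgroupOf Γ)) := by
    refine Nat.Coprime.coprime_dvd_right (relIndex_dvd_card _ _) ?_
    rw [Nat.card_congr eP.toEquiv]
    exact (d.cop.coprime_dvd_right (relIndex_dvd_index_of_normal P Γ)).symm
  obtain ⟨η, hη, hinv, hres⟩ := Glauberman.InvConst.exists_inv_over_linear (P.subgroupOf Γ)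
    (N.subgroupOf Γ) (fun z hz => d.set.le hz) hcop (l.comp eN.toMonoidHom) fun x y =>
      Units.ext (congrFun (Char.mem_stab.1 x.2) (eN y))
  let θ : Cfsg.IrrCharacter P := ⟨η ∘ eP.symm, Char.IsIrrCharacter.comp_equiv hη eP.symm⟩
  have hθN : ∀ n : N, (θ : P → ℂ) ⟨n, d.set.le n.2⟩ = (θ : P → ℂ) 1 * (l n : ℂ) := fun n => by
    show η (eP.symm _) = η (eP.symm 1) * _
    rw [map_one]
    exact hres ⟨⟨(n : G), hNΓ n.2⟩, n.2⟩
  refine ⟨θ, ?_, d.dvd_deg fun h1 => hl (MonoidHom.ext fun n => Units.ext ?_)⟩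
  · ext h
    rw [mem_subgroupOf, d.set.mem_dstab, ← mem_stab_iff]
    constructor
    · intro hh
      refine Char.mem_stab.2 (funext fun n => ?_)
      have h2 := congrFun (Char.mem_stab.1 hh) ⟨n, d.set.le n.2⟩
      rw [Char.conjG_apply] at h2
      have h3 := hθN ⟨(h : G) * n * (h : G)⁻¹, Subgroup.Normal.conj_mem inferInstance _ n.2 _⟩
      have h4 : (θ : P → ℂ) 1 ≠ 0 := Char.IsIrrCharacter.apply_one_ne_zero θ.2
      exact mul_left_cancel₀ h4 (h3.symm.trans (h2.trans (hθN n)))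
    · intro hh
      refine Char.mem_stab.2 (funext fun x => ?_)
      have h2 := congrFun (hinv ⟨(h : G), hh⟩) (eP.symm x)
      exact h2
  · obtain ⟨f, hf⟩ := Char.exists_hom_of_apply_one_eq_one (Char.isCharacter_irr θ) h1
    have h2 := hθN n
    rw [h1, one_mul, hf] at h2
    simp only at h2
    rw [d.hom_apply_eq_one f n.2] at h2
    exact h2.symm

theorem theta_degrees [P.Normal] (θ : Cfsg.IrrCharacter P)
    (ψ : Cfsg.IrrCharacter ((Char.stab (θ : P → ℂ)).subgroupOf H)) :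
    ∃ χ : Cfsg.IrrCharacter G, Cfsg.charDegree (χ : G → ℂ) =
      ((Char.stab (θ : P → ℂ)).subgroupOf H).index * Cfsg.charDegree (θ : P → ℂ) *
        Cfsg.charDegree (ψ : (Char.stab (θ : P → ℂ)).subgroupOf H → ℂ) := by
  obtain ⟨E, hE⟩ := exists_ext_coprime d.cop θ
  exact exists_deg d.set.compl θ E hE ψ

theorem good [Group.IsSolvable G] [N.Normal] {q : ℕ} (hq : q.Prime) (hqp : p ≠ q)
    (nu : NoDeg G (p * q)) (l : N →* ℂˣ) (hl : l ≠ 1) : ∃ Q, NSyl q (d.set.dstab l) Q := by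
  haveI := d.Pn
  obtain ⟨θ, eT, hp⟩ := d.exists_theta hl
  rw [← eT]
  exact (good_of_pair d.prime hq hqp nu (d.theta_degrees θ) (hp.mul_left _)).2

/-- Nonlinear characters are fixed by a normal Sylow `q`-subgroup of the complement. -/
theorem theta_fixed [Group.IsSolvable G] [P.Normal] {q : ℕ} (hq : q.Prime) (hqp : p ≠ q)
    (nu : NoDeg G (p * q)) {Q : Subgroup H} (hQ : NSyl q (⊤ : Subgroup H) Q)
    {θ : Cfsg.IrrCharacter P} (hθ : (θ : P → ℂ) 1 ≠ 1) {a : H} (ha : a ∈ Q) :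
    Char.conjG (θ : P → ℂ) (a : G) = θ := by
  have h := (good_of_pair d.prime hq hqp nu (d.theta_degrees θ) ((d.dvd_deg hθ).mul_left _)).1
  by_contra hne
  exact h (dvd_index_of_not_le hq hQ fun hle => hne (Char.mem_stab.1 (hle ha)))

/-- A normal Sylow subgroup of the complement does not centralise `P`. -/
theorem exists_not_comm {q : ℕ} (hq : q.Prime) (hqp : p ≠ q) (rq : ¬ NoDeg G q) {Q : Subgroup H}
    (hQ : NSyl q (⊤ : Subgroup H) Q) : ∃ a ∈ Q, ∃ x ∈ P, (a : G) * x ≠ x * a := by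
  by_contra! h
  haveI := Fact.mk hq
  haveI : Q.Normal := normalizer_eq_top_iff.1 (eq_top_iff.2 hQ.norm)
  refine rq ?_
  let A : Subgroup G := Q.map H.subtype
  haveI : A.Normal := ⟨fun x hx g => by
    obtain ⟨a, ha, rfl⟩ := hx
    obtain ⟨⟨k, b⟩, rfl⟩ := d.set.compl.2 g
    refine ⟨b * a * b⁻¹, (inferInstance : Q.Normal).conj_mem a ha b, ?_⟩
    show ((b * a * b⁻¹ : H) : G) = (k : G) * b * (a : G) * ((k : G) * b)⁻¹
    have h1 := h (b * a * b⁻¹) ((inferInstance : Q.Normal).conj_mem a ha b) k k.2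
    rw [show (k : G) * b * (a : G) * ((k : G) * b)⁻¹ =
      (k : G) * ((b * a * b⁻¹ : H) : G) * (k : G)⁻¹ by push_cast; group, ← h1,
      mul_inv_cancel_right]⟩
  refine noDeg_of_abelian A ?_ ?_
  · rintro _ ⟨a, ha, rfl⟩ _ ⟨b, hb, rfl⟩
    rw [← map_mul, ← map_mul, hQ.comm a ha b hb]
  · intro hd
    have hA : Nat.card A = Nat.card Q := Subgroup.card_map_of_injective H.subtype_injective
    have h1 : A.index = Nat.card P * Q.index := by
      refine Nat.eq_of_mul_eq_mul_left (Nat.card_pos (α := A)) ?_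
      rw [Subgroup.card_mul_index, hA, ← mul_assoc, mul_comm (Nat.card Q), mul_assoc,
        Q.card_mul_index, d.set.compl.card_mul_card]
    rw [h1] at hd
    rcases hq.dvd_mul.1 hd with h2 | h2
    · haveI := Fact.mk d.prime
      obtain ⟨i, hi⟩ := d.pg.exists_card_eq
      exact hqp ((Nat.prime_dvd_prime_iff_eq hq d.prime).1 (hq.dvd_of_dvd_pow (hi ▸ h2))).symm
    · exact (Sylow.ofCard Q hQ.card).not_dvd_index h2

/-- The linear characters fixed by `Q` form a proper subgroup. -/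
theorem exists_hom_moved [P.Normal] {q : ℕ} (hq : q.Prime) (hqp : p ≠ q) (rq : ¬ NoDeg G q)
    {Q : Subgroup H} (hQ : NSyl q (⊤ : Subgroup H) Q)
    (hQN : ∀ a ∈ Q, ∀ n ∈ N, (a : G) * n = n * a) :
    ∃ μ : P →* ℂˣ, ∃ a ∈ Q, dualHom P ((a : H) : G) μ ≠ μ := by
  by_contra! h
  obtain ⟨a, ha, x, hx, hne⟩ := d.exists_not_comm hq hqp rq hQ
  refine hne (d.comm_of_mod hq hqp.symm hQ.isPGroup ha (hQN a ha) hx ?_)
  refine d.mem_of_forall_hom (x := ⟨_, mul_mem (Subgroup.Normal.conj_mem inferInstance x hx (a : G))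
    (inv_mem hx)⟩) fun f => ?_
  have h1 := DFunLike.congr_fun (h f a⁻¹ (inv_mem ha)) ⟨x, hx⟩
  rw [dualHom_apply] at h1
  show f (⟨(a : G) * x * (a : G)⁻¹, Subgroup.Normal.conj_mem inferInstance x hx (a : G)⟩ *
    (⟨x, hx⟩ : P)⁻¹) = 1
  rw [map_mul, map_inv, mul_inv_eq_one, ← h1]
  exact congrArg f (Subtype.ext (by simp))

/-- Two normal Sylow subgroups of the complement centralising `N` give a degree. -/
theorem both_centralise [Group.IsSolvable G] [P.Normal] {q r : ℕ} (hq : q.Prime) (hr : r.Prime)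
    (hqp : p ≠ q) (hrp : p ≠ r) (hqr : q ≠ r) (rq : ¬ NoDeg G q) (rr : ¬ NoDeg G r)
    (nqr : NoDeg G (q * r)) {Q R : Subgroup H} (hQ : NSyl q (⊤ : Subgroup H) Q)
    (hR : NSyl r (⊤ : Subgroup H) R) (hQN : ∀ a ∈ Q, ∀ n ∈ N, (a : G) * n = n * a)
    (hRN : ∀ a ∈ R, ∀ n ∈ N, (a : G) * n = n * a) : False := by
  obtain ⟨μ₁, a, ha, h1⟩ := d.exists_hom_moved hq hqp rq hQ hQN
  obtain ⟨μ₂, b, hb, h2⟩ := d.exists_hom_moved hr hrp rr hR hRN
  obtain ⟨μ, hμQ, hμR⟩ : ∃ μ : P →* ℂˣ, (∃ a ∈ Q, dualHom P ((a : H) : G) μ ≠ μ) ∧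
      ∃ b ∈ R, dualHom P ((b : H) : G) μ ≠ μ := by
    by_cases h3 : dualHom P ((b : H) : G) μ₁ = μ₁
    · by_cases h4 : dualHom P ((a : H) : G) μ₂ = μ₂
      · exact ⟨μ₁ * μ₂, ⟨a, ha, fun e => h1 (by rwa [map_mul, h4, mul_left_inj] at e)⟩,
          b, hb, fun e => h2 (by rwa [map_mul, h3, mul_right_inj] at e)⟩
      · exact ⟨μ₂, ⟨a, ha, h4⟩, b, hb, h2⟩
    · exact ⟨μ₁, ⟨a, ha, h1⟩, b, hb, h3⟩
  obtain ⟨a, ha, haμ⟩ := hμQ
  obtain ⟨b, hb, hbμ⟩ := hμR
  set T := (Char.stab (fun x : P => (μ x : ℂ))).subgroupOf H with hT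
  have hQT : ¬ Q ≤ T := fun h => haμ ((mem_stab_iff _ μ).1 (h ha))
  have hRT : ¬ R ≤ T := fun h => hbμ ((mem_stab_iff _ μ).1 (h hb))
  obtain ⟨χ, hχ⟩ := linear_degrees d.set.compl μ (DegreeTools.oneChar T)
  refine nqr χ (hχ ▸ Dvd.dvd.mul_right (Dvd.dvd.mul_right ?_ 1) _)
  exact ((Nat.coprime_primes hq hr).2 hqr).mul_dvd_of_dvd_of_dvd
    (dvd_index_of_not_le hq hQ hQT) (dvd_index_of_not_le hr hR hRT)

set_option maxHeartbeats 1000000 in
/-- One prime centralises `N`, the other does not. -/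
theorem split [Group.IsSolvable G] [P.Normal] [N.Normal] {q r : ℕ} (hq : q.Prime) (hr : r.Prime)
    (hqp : p ≠ q) (hrp : p ≠ r) (hqr : q ≠ r) (rq : ¬ NoDeg G q) (npq : NoDeg G (p * q))
    (npr : NoDeg G (p * r)) (nqr : NoDeg G (q * r)) {Q : Subgroup H}
    (hQ : NSyl q (⊤ : Subgroup H) Q) (hQN : ∀ a ∈ Q, ∀ n ∈ N, (a : G) * n = n * a)
    (dr : r ∣ Nat.card d.set.act.range) : False := by
  classical
  cases nonempty_fintype G
  haveI := Fact.mk hr
  haveI := Fact.mk d.prime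
  haveI hQn : Q.Normal := normalizer_eq_top_iff.1 (eq_top_iff.2 hQ.norm)
  -- the fixed points of `Q` on `P`
  let C : Subgroup P := (centralizer ((Q.map H.subtype : Subgroup G) : Set G)).subgroupOf P
  have hC : ∀ {x : P}, x ∈ C ↔ ∀ a ∈ Q, (a : G) * x = x * a := fun {x} => by
    refine ⟨fun h a ha => mem_centralizer_iff.1 h _ (mem_map_of_mem H.subtype ha),
      fun h => mem_centralizer_iff.2 ?_⟩
    rintro _ ⟨a, ha, rfl⟩
    exact h a ha
  have hNC : N.subgroupOf P ≤ C := fun x hx => hC.2 fun a ha => hQN a ha x hx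
  haveI hCn : C.Normal := ⟨fun x hx g => by
    have h1 : g * x * g⁻¹ * x⁻¹ ∈ N.subgroupOf P := d.derived_mem g.2 x.2
    have := mul_mem (hNC h1) hx
    rwa [inv_mul_cancel_right] at this⟩
  have hCH : ∀ (h : H) {x : P}, x ∈ C →
      (⟨(h : G)⁻¹ * x * h, Subgroup.Normal.conj_mem' inferInstance (x : G) x.2 _⟩ : P) ∈ C := by
    intro h x hx
    refine hC.2 fun a ha => ?_
    have h1 := hC.1 hx (h * a * h⁻¹) (hQn.conj_mem a ha h)
    push_cast at h1
    calc (a : G) * ((h : G)⁻¹ * x * h) = (h : G)⁻¹ * ((h : G) * a * (h : G)⁻¹ * x) * h := by group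
      _ = (h : G)⁻¹ * (x * ((h : G) * a * (h : G)⁻¹)) * h := by rw [h1]
      _ = (h : G)⁻¹ * x * h * a := by group
  -- nonlinear characters vanish outside `C`
  have hvan : ∀ (x : P), x ∉ C → ∀ θ : Cfsg.IrrCharacter P, (θ : P → ℂ) 1 ≠ 1 →
      (θ : P → ℂ) x = 0 := by
    intro x hx θ hθ
    rw [hC] at hx
    push Not at hx
    obtain ⟨a, ha, hne⟩ := hx
    have hmod : (a : G) * x * (a : G)⁻¹ * (x : G)⁻¹ ∉ N := fun h =>
      hne (d.comm_of_mod hq hqp.symm hQ.isPGroup ha (hQN a ha) x.2 h)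
    let y : P := ⟨(a : G) * x * (a : G)⁻¹, Subgroup.Normal.conj_mem inferInstance _ x.2 _⟩
    obtain ⟨f, hf⟩ : ∃ f : P →* ℂˣ, f (y * x⁻¹) ≠ 1 := by
      by_contra! h
      exact hmod (d.mem_of_forall_hom h)
    let θ' : Cfsg.IrrCharacter P :=
      ⟨_, Glauberman.InvConst.isIrrCharacter_hom_mul f θ.2⟩
    have h1 : (θ : P → ℂ) y = (θ : P → ℂ) x :=
      congrFun (d.theta_fixed hq hqp npq hQ hθ ha) x
    have h2 : (f y : ℂ) * (θ : P → ℂ) y = (f x : ℂ) * (θ : P → ℂ) x :=
      congrFun (d.theta_fixed hq hqp npq hQ (θ := θ') (by simpa [θ'] using hθ) ha) x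
    rw [h1] at h2
    by_contra h3
    refine hf ?_
    rw [map_mul, map_inv, mul_inv_eq_one]
    exact Units.ext (mul_right_cancel₀ h3 h2)
  -- an element with small centraliser
  obtain ⟨a, ha, y, hy, hne⟩ := d.exists_not_comm hq hqp rq hQ
  let x₀ : P := ⟨(a : G) * y * (a : G)⁻¹ * y⁻¹,
    mul_mem (Subgroup.Normal.conj_mem inferInstance y hy _) (inv_mem hy)⟩
  have hx₀ : x₀ ∉ C := fun h => by
    obtain ⟨k, hk⟩ := hQ.isPGroup ⟨a, ha⟩
    obtain ⟨i, hi⟩ := d.pg.exists_card_eq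
    have hk' : (a : G) ^ q ^ k = 1 := by simpa using congrArg (fun z : Q => ((z : H) : G)) hk
    have := eq_one_of_conj_eq_mul (l := y) (c := (x₀ : G)) hk' (hC.1 h a ha)
      (by simp [x₀]) x₀.2 (hi ▸ Nat.Coprime.pow i k ((Nat.coprime_primes d.prime hq).2 hqp))
    exact hne (mul_inv_eq_iff_eq_mul.1 (mul_inv_eq_one.1 this))
  have hcomm : ∀ z ∈ C, x₀ * z = z * x₀ := fun z hz => by
    refine Subtype.ext ?_
    set n := ⁅y, (z : G)⁆ with hn
    have hnN : n ∈ N := d.derived_mem hy z.2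
    have haz : (a : G) * z = z * a := hC.1 hz a ha
    have h1 : (a : G) * n * (a : G)⁻¹ = n := by rw [hQN a ha n hnN, mul_inv_cancel_right]
    have h2 : (x₀ : G) * y * z * ((x₀ : G) * y)⁻¹ = n * z := by
      calc (x₀ : G) * y * z * ((x₀ : G) * y)⁻¹
          = (a : G) * y * ((a : G)⁻¹ * z * a) * y⁻¹ * (a : G)⁻¹ := by
            show (a : G) * y * (a : G)⁻¹ * y⁻¹ * y * z * ((a : G) * y * (a : G)⁻¹ * y⁻¹ * y)⁻¹ = _
            group
        _ = (a : G) * y * z * y⁻¹ * (a : G)⁻¹ := by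
            rw [mul_assoc ((a : G)⁻¹) (z : G) a, ← haz, inv_mul_cancel_left]
        _ = (a : G) * n * (a : G)⁻¹ * ((a : G) * z * (a : G)⁻¹) := by
            rw [hn, commutatorElement_def]; group
        _ = n * z := by rw [h1, haz, mul_inv_cancel_right]
    have h3 : (x₀ : G) * (n * z) * (x₀ : G)⁻¹ = n * z := by
      conv_rhs => rw [← h2]
      rw [hn, commutatorElement_def]; group
    have h4 : (x₀ : G) * n = n * x₀ := d.set.cent _ x₀.2 n hnN
    have h5 : (x₀ : G) * z * (x₀ : G)⁻¹ = z := by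
      rw [← mul_assoc (x₀ : G), h4, mul_assoc n (x₀ : G), mul_assoc n] at h3
      exact mul_left_cancel h3
    exact mul_inv_eq_iff_eq_mul.1 h5
  have hcent := DegreeTools.card_centralizer_of_vanish x₀ fun χ hχ => hvan x₀ hx₀ χ hχ
  have hlt : C < centralizer ({x₀} : Set P) :=
    SetLike.lt_iff_le_and_exists.2 ⟨fun z hz => mem_centralizer_singleton_iff.2 (hcomm z hz).symm,
      x₀, mem_centralizer_singleton_iff.2 rfl, hx₀⟩
  have hNlt : Nat.card N < C.index := by
    have h1 := Set.Finite.card_lt_card (Set.toFinite _) (SetLike.coe_ssubset_coe.2 hlt)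
    have h2 : Nat.card N = Nat.card (_root_.commutator P) := by
      rw [← Subgroup.card_map_of_injective P.subtype_injective, d.map_commutator_eq]
    change Nat.card C < Nat.card (centralizer ({x₀} : Set P)) at h1
    rw [hcent] at h1
    have h3 := C.card_mul_index
    have h4 := (_root_.commutator P).card_mul_index
    rw [h2]
    by_contra hle
    push Not at hle
    have h5 : Nat.card C * C.index < (_root_.commutator P).index * Nat.card (_root_.commutator P) :=
      Nat.mul_lt_mul_of_lt_of_le h1 hle Nat.card_pos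
    rw [h3, mul_comm, h4] at h5
    exact lt_irrefl _ h5
  -- the linear characters trivial on `C`
  haveI : Finite (P →* ℂˣ) := finite_dual P
  haveI : Finite (N →* ℂˣ) := finite_dual N
  let D : Subgroup (P →* ℂˣ) :=
    { carrier := {f | ∀ x ∈ C, f x = 1}
      one_mem' := fun x _ => rfl
      mul_mem' := fun {f g} hf hg x hx => by rw [MonoidHom.mul_apply, hf x hx, hg x hx, one_mul]
      inv_mem' := fun {f} hf x hx => by rw [MonoidHom.inv_apply, hf x hx, inv_one] }
  have hDcard : Nat.card D = C.index := by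
    letI : CommGroup (P ⧸ C) :=
      { (inferInstance : Group (P ⧸ C)) with
        mul_comm := by
          rintro ⟨u⟩ ⟨v⟩
          refine (QuotientGroup.eq_iff_div_mem).2 (hNC ?_)
          show ((u * v / (v * u) : P) : G) ∈ N
          rw [show ((u * v / (v * u) : P) : G) = ⁅(u : G), (v : G)⁆ by
            simp [div_eq_mul_inv, commutatorElement_def, mul_assoc]]
          exact d.derived_mem u.2 v.2 }
    rw [C.index_eq_card, ← CommGroup.card_monoidHom_of_hasEnoughRootsOfUnity (P ⧸ C) ℂ]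
    exact Nat.card_congr
      { toFun := fun f => QuotientGroup.lift C f.1 fun x hx => f.2 x hx
        invFun := fun g => ⟨g.comp (QuotientGroup.mk' C), fun x hx => by
          show g (QuotientGroup.mk x) = 1
          rw [(QuotientGroup.eq_one_iff x).2 hx, map_one]⟩
        left_inv := fun f => rfl
        right_inv := fun g => MonoidHom.ext fun x => by
          obtain ⟨u, rfl⟩ := QuotientGroup.mk'_surjective C x
          rfl }
  let φ : H →* MulAut (P →* ℂˣ) := (dualHom P).comp H.subtype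
  have hDinv : ∀ h, ∀ f ∈ D, φ h f ∈ D := fun h f hf x hx => by
    show dualHom P (h : G) f x = 1
    rw [dualHom_apply]
    exact hf _ (hCH h hx)
  have hDne : D ≠ ⊥ := fun e => by
    rw [e, Subgroup.card_bot] at hDcard
    have := Nat.card_pos (α := N)
    omega
  -- only the trivial one is fixed by `Q`
  have hDfix : ∀ f ∈ D, (∀ b ∈ Q, φ b f = f) → f = 1 := by
    intro f hf hfix
    refine MonoidHom.ext fun x => ?_
    let cj : Q → P →* P := fun b => (MulAut.conjNormal (H := P) ((b : H) : G) : MulAut P).toMonoidHom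
    let z : P := ((Finset.univ : Finset Q).toList.map fun b => cj b x).prod
    have hcj : ∀ b : Q, f (cj b x) = f x := fun b => by
      have h1 := DFunLike.congr_fun (hfix _ b.2) (cj b x)
      refine h1.symm.trans ?_
      show dualHom P ((b : H) : G) f _ = _
      rw [dualHom_apply]
      exact congrArg f (Subtype.ext (by simp [cj, mul_assoc]))
    have hz : z ∈ C := hC.2 fun b hb => by
      refine d.comm_of_mod hq hqp.symm hQ.isPGroup hb (hQN b hb) z.2 ?_
      refine d.mem_of_forall_hom (x := cj ⟨b, hb⟩ z * z⁻¹) fun g => ?_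
      rw [map_mul, map_inv, mul_inv_eq_one]
      show (g.comp (cj ⟨b, hb⟩)) z = g z
      rw [map_list_prod, map_list_prod, List.map_map, List.map_map, Finset.prod_map_toList,
        Finset.prod_map_toList]
      refine Fintype.prod_equiv (Equiv.mulLeft (⟨b, hb⟩ : Q)) _ _ fun c => ?_
      show g (cj ⟨b, hb⟩ (cj c x)) = g (cj (⟨b, hb⟩ * c) x)
      exact congrArg g (Subtype.ext (by simp [cj, mul_assoc]))
    have h1 := hf z hz
    rw [map_list_prod, List.map_map, Finset.prod_map_toList] at h1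
    simp only [Function.comp_apply, hcj, Finset.prod_const, Finset.card_univ] at h1
    have h2 : f x ^ Nat.card P = 1 := by rw [← map_pow, pow_card_eq_one', map_one]
    obtain ⟨i, hi⟩ := d.pg.exists_card_eq
    haveI := Fact.mk hq
    obtain ⟨j, hj⟩ := hQ.isPGroup.exists_card_eq
    refine orderOf_eq_one_iff.1 (Nat.eq_one_of_dvd_coprimes
      (Nat.Coprime.pow i j ((Nat.coprime_primes d.prime hq).2 hqp))
      (hi ▸ orderOf_dvd_of_pow_eq_one h2) ?_)
    rw [← hj, Nat.card_eq_fintype_card]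
    exact orderOf_dvd_of_pow_eq_one h1
  have huD : ∀ f ∈ D, f ≠ 1 → ∃ R, NSyl r (fixer φ f) R := by
    intro f hf hf1
    have e : fixer φ f = (Char.stab (fun x : P => (f x : ℂ))).subgroupOf H :=
      Subgroup.ext fun h => (mem_stab_iff (h : G) f).symm
    rw [e]
    refine (good_of_pair hq hr hqr nqr (linear_degrees d.set.compl f)
      ((dvd_index_of_not_le hq hQ fun hle => hf1 (hDfix f hf fun b hb => ?_)).mul_right 1)).2
    exact (mem_stab_iff _ f).1 (hle hb)
  have huN : ∀ l ∈ (⊤ : Subgroup (N →* ℂˣ)), l ≠ 1 → ∃ R, NSyl r (fixer d.set.act l) R := by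
    intro l _ hl
    have e : fixer d.set.act l = d.set.dstab l := Subgroup.ext fun h => (d.set.mem_dstab).symm
    rw [e]
    exact d.good hr hrp npr l hl
  obtain ⟨P₀⟩ : Nonempty (Sylow r H) := inferInstance
  obtain ⟨W, hWle, hWmem, hW1, hWeq⟩ := count_partition d.set.act ⊤ (fun _ _ _ => mem_top _) (by
    intro e
    obtain ⟨l, hl⟩ := exists_dual_ne_one d.set.comm d.set.ne
    exact hl (mem_bot.1 (e ▸ mem_top l))) huN P₀
  obtain ⟨V, hVle, -, hV1, hVeq⟩ := count_partition φ D hDinv hDne huD P₀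
  rw [card_top, card_dual d.set.comm] at hWeq
  rw [hDcard] at hVeq
  obtain ⟨iN, hiN⟩ := d.set.card
  obtain ⟨iP, hiP⟩ := d.pg.exists_card_eq
  obtain ⟨iC, -, hiC⟩ := (Nat.dvd_prime_pow d.prime).1 (hiP ▸ C.index_dvd_card)
  have hWpow : ∃ i, Nat.card W = p ^ i := by
    have h := Subgroup.card_subgroup_dvd_card W
    rw [card_dual d.set.comm, hiN] at h
    obtain ⟨i, -, hi⟩ := (Nat.dvd_prime_pow d.prime).1 h
    exact ⟨i, hi⟩
  have hVpow : ∃ i, Nat.card V = p ^ i := by
    have h := Subgroup.card_dvd_of_le hVle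
    rw [hDcard, hiC] at h
    obtain ⟨i, -, hi⟩ := (Nat.dvd_prime_pow d.prime).1 h
    exact ⟨i, hi⟩
  have hWlt : Nat.card W < Nat.card N := by
    refine lt_of_le_of_ne ((Subgroup.card_le_card_group W).trans (card_dual d.set.comm).le)
      fun e => ?_
    have hWtop : W = ⊤ := Subgroup.eq_top_of_card_eq W (e.trans (card_dual d.set.comm).symm)
    have hle : (P₀ : Subgroup H) ≤ d.set.act.ker := fun x hx => MonoidHom.mem_ker.2
      (MulEquiv.ext fun l => ((hWmem l).1 (hWtop ▸ mem_top l)).2 x hx)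
    have h := dr
    rw [← Subgroup.index_ker] at h
    exact P₀.not_dvd_index (h.trans (index_dvd_of_le hle))
  have := pow_eq_of_partition d.prime ⟨iN, hiN⟩ ⟨iC, hiC⟩ hWpow hVpow
    ((W.one_lt_card_iff_ne_bot).2 hW1) ((V.one_lt_card_iff_ne_bot).2 hV1) hWlt hWeq hVeq
  omega

end PData

/-- The case of a minimal normal `p`-subgroup. -/
theorem case_pgroup [Finite G] [Group.IsSolvable G] {p q r : ℕ} (hp : p.Prime) (hq : q.Prime)
    (hr : r.Prime) (hpq : p ≠ q) (hpr : p ≠ r) (hqr : q ≠ r) (npq : NoDeg G (p * q))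
    (npr : NoDeg G (p * r)) (nqr : NoDeg G (q * r)) (rp : ¬ NoDeg G p) (rq : ¬ NoDeg G q)
    (rr : ¬ NoDeg G r) {N : Subgroup G} [N.Normal] (hN : N ≠ ⊥)
    (hmin : ∀ A : Subgroup G, A.Normal → A ≤ N → A = ⊥ ∨ A = N)
    (hcard : ∃ a, Nat.card N = p ^ a) (hquot : NoDeg (G ⧸ N) p) : False := by
  haveI := Fact.mk hp
  obtain ⟨S⟩ : Nonempty (Sylow p G) := inferInstance
  let π := QuotientGroup.mk' N
  let Sb : Sylow p (G ⧸ N) := S.mapSurjective (QuotientGroup.mk'_surjective N)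
  haveI hSbn : (Sb : Subgroup (G ⧸ N)).Normal := ItoMichler.normal_sylow_of_degrees p _ rfl
    Fusion.PSolvable.psolvable_of_solvable Sb hquot
  have hSbc := ItoMichler.comm_of_normal Sb hquot
  obtain ⟨a, ha⟩ := hcard
  have hNp : IsPGroup p N := IsPGroup.of_card ha
  have hNS : N ≤ (S : Subgroup G) :=
    (CfsgLib.Solvable.Cores.le_pCore hNp).trans (CfsgLib.Solvable.Cores.pCore_le_sylow S)
  haveI hSn : (S : Subgroup G).Normal := by
    have := hSbn.comap π
    rwa [Sylow.coe_mapSurjective, Subgroup.comap_map_eq, QuotientGroup.ker_mk',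
      sup_eq_left.2 hNS] at this
  have hSne : ⁅(S : Subgroup G), (S : Subgroup G)⁆ ≠ ⊥ := fun e => rp (noDeg_of_abelian
    (S : Subgroup G) (fun x hx y hy => commutatorElement_eq_one_iff_mul_comm.1
      (mem_bot.1 (e ▸ Subgroup.commutator_mem_commutator hx hy))) S.not_dvd_index)
  have hder : ⁅(S : Subgroup G), (S : Subgroup G)⁆ ≤ N := by
    rw [Subgroup.commutator_le]
    intro x hx y hy
    refine (QuotientGroup.eq_one_iff _).1 ?_
    show π ⁅x, y⁆ = 1
    rw [map_commutatorElement, commutatorElement_eq_one_iff_mul_comm]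
    have h1 : ∀ {x}, x ∈ (S : Subgroup G) → π x ∈ (Sb : Subgroup (G ⧸ N)) := fun {x} hx => by
      rw [Sylow.coe_mapSurjective]; exact mem_map_of_mem π hx
    exact congrArg Subtype.val (hSbc ⟨π x, h1 hx⟩ ⟨π y, h1 hy⟩)
  have hderiv := (hmin _ inferInstance hder).resolve_left hSne
  have hcent : ∀ k ∈ (S : Subgroup G), ∀ n ∈ N, k * n = n * k := by
    haveI : Group.IsNilpotent (S : Subgroup G) := S.2.isNilpotent
    have hne := CfsgLib.Solvable.FrattiniFitting.inf_center_ne_bot (N.subgroupOf (S : Subgroup G))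
      fun e => hN (eq_bot_iff.2 fun n hn => by
        have : (⟨n, hNS hn⟩ : (S : Subgroup G)) ∈ N.subgroupOf (S : Subgroup G) := hn
        rw [e, mem_bot] at this
        exact mem_bot.2 (congrArg Subtype.val this))
    have e := (hmin (N ⊓ centralizer ((S : Subgroup G) : Set G)) inferInstance inf_le_left).resolve_left
      fun e => hne (eq_bot_iff.2 fun z hz => by
        have : (z : G) ∈ N ⊓ centralizer ((S : Subgroup G) : Set G) := ⟨hz.1,
          mem_centralizer_iff.2 fun k hk =>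
            congrArg Subtype.val (Subgroup.mem_center_iff.1 hz.2 ⟨k, hk⟩)⟩
        rw [e, mem_bot] at this
        exact mem_bot.2 (Subtype.ext this))
    intro k hk n hn
    rw [← e] at hn
    exact mem_centralizer_iff.1 hn.2 k hk
  have hcop : (Nat.card (S : Subgroup G)).Coprime (S : Subgroup G).index := by
    obtain ⟨i, hi⟩ := S.2.exists_card_eq
    rw [hi]
    exact (hp.coprime_iff_not_dvd.2 S.not_dvd_index).pow_left i
  obtain ⟨H, hH⟩ := Subgroup.exists_right_complement'_of_coprime (N := (S : Subgroup G)) hcop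
  have d : PData G p (S : Subgroup G) H N :=
    ⟨hp, hSn, inferInstance, ⟨hSn, inferInstance, hH, hNS, hN, hmin, hcent, hp, a, ha⟩, hcop, S.2,
      hderiv⟩
  have gq := d.good hq hpq npq
  have gr := d.good hr hpr npr
  have nrq : NoDeg G (r * q) := by rwa [mul_comm]
  by_cases dq : q ∣ Nat.card d.set.act.range
  · by_cases dr : r ∣ Nat.card d.set.act.range
    · obtain ⟨χ, hχ⟩ := d.set.exists_degree hq hr hqr gq gr dq dr
      exact nqr χ hχ
    · obtain ⟨R, hR, hRN⟩ := d.set.exists_normal_syl hr gr dr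
      exact d.split hr hq hpr hpq hqr.symm rr npr npq nrq hR hRN dq
  · obtain ⟨Q, hQ, hQN⟩ := d.set.exists_normal_syl hq gq dq
    by_cases dr : r ∣ Nat.card d.set.act.range
    · exact d.split hq hr hpq hpr hqr rq npq npr nqr hQ hQN dr
    · obtain ⟨R, hR, hRN⟩ := d.set.exists_normal_syl hr gr dr
      exact d.both_centralise hq hr hpq hpr hqr rq rr nqr hQ hR hQN hRN

end CfsgLib.CharDeep.Palfy
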