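import Cfsg.Agent.Lib.CharDeep.Palfy.Exceptional
import Cfsg.Agent.Lib.DegreeTools.PDegree
import Cfsg.Agent.Lib.Char.CliffordCorr
import Cfsg.Agent.Lib.CharDeep.ItoMichler
import Mathlib.GroupTheory.SpecificGroups.Cyclic
import Mathlib.RingTheory.RootsOfUnity.AlgebraicallyClosed
import Mathlib.Analysis.Complex.Polynomial.Basic

/-!
# A degree divisible by both primes
-/

set_option autoImplicit false

namespace CfsgLib.CharDeep.Palfy

open Subgroup CfsgLib

/-- A finite cyclic group has a faithful linear character. -/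
theorem exists_faithful_linear (Z : Type*) [Group Z] [Finite Z] [IsCyclic Z] :
    ∃ l : Z →* ℂˣ, Function.Injective l := by
  haveI : NeZero (Nat.card Z) := ⟨Nat.card_pos.ne'⟩
  haveI hcyc : IsCyclic (rootsOfUnity (Nat.card Z) ℂ) := HasEnoughRootsOfUnity.cyc (M := ℂ)
    (n := Nat.card Z)
  have e : Z ≃* rootsOfUnity (Nat.card Z) ℂ := mulEquivOfCyclicCardEq
    (HasEnoughRootsOfUnity.natCard_rootsOfUnity ℂ (Nat.card Z)).symm
  exact ⟨(rootsOfUnity (Nat.card Z) ℂ).subtype.comp e.toMonoidHom,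
    Subtype.coe_injective.comp e.injective⟩

variable {H M : Type*} [Group H] [CommGroup M] [MulDistribMulAction H M] {q r t : ℕ}

/-- Some degree is divisible by both primes. -/
theorem Hyp.exists_degree [Finite H] [Finite M] (c : Hyp H M q r t) :
    ∃ χ : Cfsg.IrrCharacter H, q * r ∣ Cfsg.charDegree (χ : H → ℂ) := by
  classical
  cases nonempty_fintype H
  obtain ⟨Z, -, hZmax⟩ := Finite.exists_le_maximal
    (p := fun B : Subgroup H => B.Normal ∧ ∀ a ∈ B, ∀ b ∈ B, a * b = b * a) (a := ⊥)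
    ⟨inferInstance, fun a ha b hb => by rw [mem_bot.1 ha, mem_bot.1 hb]⟩
  haveI := hZmax.prop.1
  have hZ : MaxAb Z := ⟨hZmax.prop.1, hZmax.prop.2, fun B hB hc hle => hZmax.le_of_ge ⟨hB, hc⟩ hle⟩
  haveI := c.isCyclic_of_normal_abelian Z hZ.comm
  obtain ⟨l, hl⟩ := exists_faithful_linear Z
  set θ : Z → ℂ := fun z => (l z : ℂ) with hθ
  have hθi : Cfsg.IsIrrCharacter Z θ := Char.isIrrCharacter_hom l
  obtain ⟨χ, hχ⟩ := ItoMichler.exists_over Z ⟨θ, hθi⟩
  have hT : ∀ g : H, g ∈ centralizer (Z : Set H) ↔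
      ∀ z : Z, θ ⟨g * z * g⁻¹, hZ.normal.conj_mem z z.2 g⟩ = θ z := by
    intro g
    constructor
    · intro hg z
      refine congrArg θ (Subtype.ext ?_)
      show g * z * g⁻¹ = z
      rw [← mem_centralizer_iff.1 hg z z.2, mul_inv_cancel_right]
    · intro h
      refine mem_centralizer_iff.2 fun z hz => ?_
      have h1 := congrArg Subtype.val (hl (Units.ext (h ⟨z, hz⟩)))
      exact (mul_inv_eq_iff_eq_mul.1 h1).symm
  have h1 := Clifford.apply_one_eq χ.2 hθi hχ (centralizer (Z : Set H)) hT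
  obtain ⟨e, he⟩ := Char.IsCharacter.classInner_nat
    (Char.IsCharacter.restrict (Char.isCharacter_irr χ) Z) (Char.IsIrrCharacter.isCharacter hθi)
  refine ⟨χ, ?_⟩
  have hdeg : Cfsg.charDegree (χ : H → ℂ) = (centralizer (Z : Set H)).index * e := by
    refine Nat.cast_injective (R := ℂ) ?_
    rw [DegreeTools.deg_cast, h1, Nat.cast_mul, he]
    simp [hθ]
  have hdvd : ∀ {u : ℕ}, u.Prime → u ∣ Nat.card H → ¬ u ∣ Nat.card (centralizer (Z : Set H)) →
      u ∣ (centralizer (Z : Set H)).index := fun {u} hu h h' => by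
    rw [← Subgroup.card_mul_index (centralizer (Z : Set H))] at h
    exact (hu.dvd_mul.1 h).resolve_left h'
  rw [hdeg]
  refine Dvd.dvd.mul_right (Nat.Coprime.mul_dvd_of_dvd_of_dvd
    ((Nat.coprime_primes c.qprime c.rprime).2 c.qr)
    (hdvd c.qprime c.qdvd (c.symm.not_dvd_centralizer hZ))
    (hdvd c.rprime c.rdvd (c.not_dvd_centralizer hZ))) e

end CfsgLib.CharDeep.Palfy
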