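import Cfsg.Agent.Lib.CharDeep.Palfy.Dual

/-!
# Consequences of the absence of a degree divisible by two given primes
-/

set_option autoImplicit false

namespace CfsgLib.CharDeep.Palfy

open Subgroup CfsgLib

/-- No irreducible degree is divisible by `n`. -/
def NoDeg (G : Type*) [Group G] (n : ℕ) : Prop :=
  ∀ χ : Cfsg.IrrCharacter G, ¬ n ∣ Cfsg.charDegree (χ : G → ℂ)

variable {G : Type*} [Group G] [Finite G]

/-- A normal abelian subgroup of index prime to `q` forbids degrees divisible by `q`. -/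
theorem noDeg_of_abelian {q : ℕ} (A : Subgroup G) [A.Normal]
    (hab : ∀ a ∈ A, ∀ b ∈ A, a * b = b * a) (hidx : ¬ q ∣ A.index) : NoDeg G q := fun χ hd =>
  hidx (hd.trans (DegreeTools.deg_dvd_index A (fun a b => Subtype.ext (hab a a.2 b b.2)) χ))

omit [Finite G] in
/-- Inflation from a quotient. -/
theorem NoDeg.quotient [Finite G] {n : ℕ} (h : NoDeg G n) (N : Subgroup G) [N.Normal] :
    NoDeg (G ⧸ N) n := fun ψ hd => h ⟨(ψ : G ⧸ N → ℂ) ∘ QuotientGroup.mk' N,
      Char.IsIrrCharacter.comp_surjective ψ.2 _ (QuotientGroup.mk'_surjective N)⟩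
    (by simpa [Cfsg.charDegree] using hd)

/-- If `p` divides all degrees `[H : T] m ψ(1)` and no degree is divisible by `p q`, then `T` contains
a normal abelian Sylow `q`-subgroup of `H`. -/
theorem good_of_pair {H : Type*} [Group H] [Finite H] [Group.IsSolvable H] {p q : ℕ}
    (hp : p.Prime) (hq : q.Prime) (hpq : p ≠ q) (h : NoDeg G (p * q)) {T : Subgroup H} {m : ℕ}
    (hdeg : ∀ ψ : Cfsg.IrrCharacter T, ∃ χ : Cfsg.IrrCharacter G,
      Cfsg.charDegree (χ : G → ℂ) = T.index * m * Cfsg.charDegree (ψ : T → ℂ))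
    (hpm : p ∣ T.index * m) : ¬ q ∣ T.index ∧ ∃ Q, NSyl q T Q := by
  have hc := (Nat.coprime_primes hp hq).2 hpq
  have hidx : ¬ q ∣ T.index := fun hd => by
    obtain ⟨χ, hχ⟩ := hdeg (DegreeTools.oneChar T)
    exact h χ (hχ ▸ (hc.mul_dvd_of_dvd_of_dvd hpm (hd.trans (dvd_mul_right _ m))).mul_right _)
  refine ⟨hidx, exists_nsyl hq hidx fun ψ hd => ?_⟩
  obtain ⟨χ, hχ⟩ := hdeg ψ
  exact h χ (hχ ▸ Nat.mul_dvd_mul hpm hd)

omit [Finite G] in
/-- A normal Sylow subgroup not inside `T` makes its prime divide the index. -/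
theorem dvd_index_of_not_le [Finite G] {p : ℕ} (hp : p.Prime) {T P : Subgroup G}
    (hP : NSyl p (⊤ : Subgroup G) P) (h : ¬ P ≤ T) : p ∣ T.index := by
  haveI := Fact.mk hp
  by_contra hd
  obtain ⟨S⟩ : Nonempty (Sylow p T) := inferInstance
  have h1 : ((S : Subgroup T).map T.subtype) ≤ P := hP.le_of_pgroup (S.2.map _) le_top
  have h2 : Nat.card ((S : Subgroup T).map T.subtype) = Nat.card P := by
    rw [Subgroup.card_map_of_injective T.subtype_injective, S.card_eq_multiplicity, hP.card,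
      ← T.card_mul_index, Nat.factorization_mul Nat.card_pos.ne' T.index_ne_zero_of_finite,
      Finsupp.add_apply, Nat.factorization_eq_zero_of_not_dvd hd, add_zero]
  exact h ((Subgroup.eq_of_le_of_card_ge h1 h2.ge) ▸ map_subtype_le _)

/-- Degrees over a linear character of a complemented normal subgroup. -/
theorem linear_degrees {K H : Subgroup G} [K.Normal] (hc : IsComplement' K H) (l : K →* ℂˣ)
    (ψ : Cfsg.IrrCharacter ((Char.stab (fun k : K => (l k : ℂ))).subgroupOf H)) :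
    ∃ χ : Cfsg.IrrCharacter G, Cfsg.charDegree (χ : G → ℂ) =
      ((Char.stab (fun k : K => (l k : ℂ))).subgroupOf H).index * 1 *
        Cfsg.charDegree (ψ : (Char.stab (fun k : K => (l k : ℂ))).subgroupOf H → ℂ) := by
  obtain ⟨E, hE⟩ := exists_ext_linear hc l
  obtain ⟨χ, hχ⟩ := exists_deg hc ⟨_, Char.isIrrCharacter_hom l⟩ E hE ψ
  refine ⟨χ, hχ.trans ?_⟩
  have h1 : Cfsg.charDegree (fun k : K => (l k : ℂ)) = 1 :=
    (DegreeTools.deg_eq_one_iff ⟨_, Char.isIrrCharacter_hom l⟩).2 (by simp)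
  show _ * Cfsg.charDegree (fun k : K => (l k : ℂ)) * _ = _
  rw [h1]
  rfl

omit [Finite G] in
/-- Preimages under the projection on a complement. -/
theorem mem_comap_proj {K H : Subgroup G} {pr : G →* H}
    (h3 : ∀ g, g * ((pr g : H) : G)⁻¹ ∈ K) {Q : Subgroup H} {g : G} (hg : g ∈ Q.comap pr) :
    ∃ k ∈ K, ∃ a ∈ Q, g = k * (a : G) :=
  ⟨_, h3 g, _, hg, by rw [inv_mul_cancel_right]⟩

end CfsgLib.CharDeep.Palfy
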