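import Cfsg.Agent.Lib.CharDeep.Palfy.Module
import Mathlib.Algebra.Field.ZMod
import Mathlib.Algebra.Group.Pointwise.Set.Card
import Mathlib.GroupTheory.QuotientGroup.Finite

/-!
# Subgroups of small index with fixed vectors; normal abelian subgroups are cyclic
-/

set_option autoImplicit false

namespace CfsgLib.CharDeep.Palfy

open Subgroup

variable {H M : Type*} [Group H] [CommGroup M] [MulDistribMulAction H M] {q r t : ℕ}

theorem prod_smul_pow_eq {s : ℕ} (hs : 0 < s) {g : H} (hg : g ^ s = 1) (m : M) :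
    g • (∏ j ∈ Finset.range s, g ^ j • m) = ∏ j ∈ Finset.range s, g ^ j • m := by
  obtain ⟨s', rfl⟩ := Nat.exists_eq_add_one_of_ne_zero hs.ne'
  rw [Finset.smul_prod']
  simp only [smul_smul, ← pow_succ']
  rw [Finset.prod_range_succ, Finset.prod_range_succ', hg, pow_zero]

namespace Hyp

variable (c : Hyp H M q r t)

include c

variable [Finite H] [Finite M]

/-- A group of exponent `s`, abelian, of order prime to `t`, has a subgroup of index at most `s`
fixing a non-identity vector. -/
theorem exists_fix_index {s : ℕ} (hs : s.Prime) (U : Subgroup H)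
    (hab : ∀ a ∈ U, ∀ b ∈ U, a * b = b * a) (hexp : ∀ a ∈ U, a ^ s = 1)
    (hU : (Nat.card U).Coprime t) :
    ∃ K ≤ U, Nat.card U ≤ s * Nat.card K ∧ ∃ m ∈ (fx K : Subgroup M), m ≠ 1 := by
  haveI := Fact.mk hs
  obtain ⟨m₀, hm₀⟩ := c.nontriv
  obtain ⟨K, -, hK⟩ := Finite.exists_le_maximal
    (p := fun K : Subgroup H => K ≤ U ∧ ∃ v ∈ (fx K : Subgroup M), v ≠ 1)
    (a := ⊥) ⟨bot_le, m₀, fun k hk => by rw [mem_bot.1 hk, one_smul], hm₀⟩
  refine ⟨K, hK.prop.1, not_lt.1 fun hlt => ?_, hK.prop.2⟩
  obtain ⟨m, hm, hm1⟩ := hK.prop.2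
  have hcard : ∀ g ∈ U, Nat.card (K ⊔ zpowers g : Subgroup H) ≤ s * Nat.card K := by
    intro g hg
    have h1 : zpowers g ≤ normalizer (K : Set H) := zpowers_le.2 (mem_normalizer_iff.2 fun x => by
      constructor
      · intro hx
        rw [hab g hg x (hK.prop.1 hx), mul_inv_cancel_right]
        exact hx
      · intro hx
        have h2 : g⁻¹ * (g * x * g⁻¹) * g = g * x * g⁻¹ := by
          rw [hab g⁻¹ (inv_mem hg) _ (hK.prop.1 hx), mul_assoc, inv_mul_cancel, mul_one]
        rw [show g⁻¹ * (g * x * g⁻¹) * g = x by group] at h2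
        rwa [h2])
    open scoped Pointwise in
    calc Nat.card (K ⊔ zpowers g : Subgroup H)
        = Nat.card ((zpowers g : Set H) * (K : Set H) : Set H) := by
          rw [← coe_mul_of_left_le_normalizer_right _ _ h1, sup_comm]; rfl
      _ ≤ Nat.card (zpowers g : Set H) * Nat.card (K : Set H) := Set.natCard_mul_le
      _ ≤ s * Nat.card K := by
          refine Nat.mul_le_mul_right _ ?_
          show Nat.card (zpowers g) ≤ s
          rw [Nat.card_zpowers]
          exact Nat.le_of_dvd hs.pos (orderOf_dvd_of_pow_eq_one (hexp g hg))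
  have hmem : ∀ {g : H}, g ∈ U → g ∉ K → ∏ j ∈ Finset.range s, g ^ j • m = 1 := by
    intro g hg hgK
    by_contra h1
    have h2 : (∏ j ∈ Finset.range s, g ^ j • m) ∈ (fx (K ⊔ zpowers g) : Subgroup M) := by
      intro x hx
      have hle : K ⊔ zpowers g ≤ MulAction.stabilizer H (∏ j ∈ Finset.range s, g ^ j • m) := by
        refine sup_le (fun k hk => ?_)
          (zpowers_le.2 (prod_smul_pow_eq hs.pos (hexp g hg) m))
        show k • _ = _
        rw [Finset.smul_prod']
        refine Finset.prod_congr rfl fun j _ => ?_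
        rw [← mul_smul, hab k (hK.prop.1 hk) _ (pow_mem hg j), mul_smul, hm k hk]
      exact hle hx
    exact hgK (hK.le_of_ge ⟨sup_le hK.prop.1 (zpowers_le.2 hg), _, h2, h1⟩ le_sup_left
      (mem_sup_right (mem_zpowers g)))
  obtain ⟨x, hx, hxK⟩ : ∃ x ∈ U, x ∉ K := by
    by_contra! h
    have := Nat.le_mul_of_pos_left (Nat.card K) hs.pos
    have := card_le_of_le h
    omega
  obtain ⟨y, hy, hyK⟩ : ∃ y ∈ U, y ∉ K ⊔ zpowers x := by
    by_contra! h
    have := card_le_of_le h
    have := hcard x hx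
    omega
  have hyK' : y ∉ K := fun h => hyK (mem_sup_left h)
  have hline : ∀ i : ZMod s, ∏ j ∈ Finset.range s, (x * y ^ i.val) ^ j • m = 1 := by
    intro i
    refine hmem (mul_mem hx (pow_mem hy _)) fun h => ?_
    by_cases hi : i = 0
    · rw [hi, ZMod.val_zero, pow_zero, mul_one] at h
      exact hxK h
    · apply hyK
      have h1 : y ^ i.val ∈ K ⊔ zpowers x := by
        have := mul_mem (inv_mem (mem_sup_right (mem_zpowers x) : x ∈ K ⊔ zpowers x))
          (mem_sup_left h)
        rwa [inv_mul_cancel_left] at this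
      have h2 := pow_mem h1 (i⁻¹ : ZMod s).val
      rwa [← pow_mul, pow_eq_pow_mod _ (hexp y hy),
        show i.val * (i⁻¹ : ZMod s).val % s = 1 by
          rw [← ZMod.val_mul, mul_inv_cancel₀ hi, ZMod.val_one], pow_one] at h2
  have hPy := hmem hy hyK'
  have hz : ∀ f : ℕ → M, ∏ i : ZMod s, f i.val = ∏ i ∈ Finset.range s, f i := fun f => by
    refine Finset.prod_bij (fun i _ => i.val) (fun i _ => Finset.mem_range.2 i.val_lt)
      (fun a _ b _ h => ZMod.val_injective s h) (fun b hb => ⟨(b : ZMod s), Finset.mem_univ _,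
        ZMod.val_cast_of_lt (Finset.mem_range.1 hb)⟩) fun _ _ => rfl
  have key : (∏ i : ZMod s, ∏ j ∈ Finset.range s, (x * y ^ i.val) ^ j • m) = m ^ s := by
    rw [Finset.prod_comm, ← Finset.mul_prod_erase _ _ (Finset.mem_range.2 hs.pos)]
    simp only [pow_zero, one_smul, Finset.prod_const, Finset.card_univ, ZMod.card]
    rw [Finset.prod_eq_one fun j hj => ?_, mul_one]
    obtain ⟨hj0, hjs⟩ := Finset.mem_erase.1 hj
    rw [Finset.mem_range] at hjs
    have hj0' : (j : ZMod s) ≠ 0 := fun e =>
      hj0 (by simpa [ZMod.val_cast_of_lt hjs] using congrArg ZMod.val e)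
    calc ∏ i : ZMod s, (x * y ^ i.val) ^ j • m
        = ∏ i : ZMod s, x ^ j • (y ^ (i * j : ZMod s).val • m) := by
          refine Finset.prod_congr rfl fun i _ => ?_
          rw [(show Commute x (y ^ i.val) from hab x hx _ (pow_mem hy _)).mul_pow, ← pow_mul,
            mul_smul, ZMod.val_mul, ZMod.val_cast_of_lt hjs,
            pow_eq_pow_mod (i.val * j) (hexp y hy)]
      _ = x ^ j • ∏ i : ZMod s, y ^ (i * j : ZMod s).val • m := Finset.smul_prod'.symm
      _ = 1 := by
          rw [show (∏ i : ZMod s, y ^ (i * j : ZMod s).val • m) = ∏ i : ZMod s, y ^ i.val • m from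
            Fintype.prod_equiv (Equiv.mulRight₀ (j : ZMod s) hj0') _ _ fun i => rfl,
            hz (fun i => y ^ i • m), hPy, smul_one]
  rw [Finset.prod_eq_one fun i _ => hline i] at key
  have hst : s.Coprime t := by
    refine hU.coprime_dvd_left ?_
    rw [← show orderOf x = s from orderOf_eq_prime (hexp x hx) fun e => hxK (e ▸ one_mem K)]
    exact Subgroup.orderOf_dvd_natCard U hx
  exact hm1 (c.pow_injective hst (key.symm.trans (one_pow s).symm))

/-- Normal abelian subgroups are cyclic. -/
theorem isCyclic_of_normal_abelian (Z : Subgroup H) [Z.Normal]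
    (hab : ∀ a ∈ Z, ∀ b ∈ Z, a * b = b * a) : IsCyclic Z := by
  classical
  letI : CommGroup Z :=
    { (inferInstance : Group Z) with mul_comm := fun a b => Subtype.ext (hab a a.2 b b.2) }
  haveI := Fintype.ofFinite Z
  have hcount : ∀ n : ℕ, 0 < n → Nat.card (powMonoidHom n : Z →* Z).ker ≤ n := by
    intro n
    induction n using Nat.strong_induction_on with
    | _ n ih =>
    intro hn
    rcases Nat.lt_or_ge n 2 with h2 | h2
    · obtain rfl : n = 1 := by omega
      rw [show (powMonoidHom 1 : Z →* Z).ker = ⊥ from eq_bot_iff.2 fun x hx => by simpa using hx,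
        Subgroup.card_bot]
    obtain ⟨s, hs, hsn⟩ := Nat.exists_prime_and_dvd (show n ≠ 1 by omega)
    obtain ⟨k, rfl⟩ := hsn
    have hk : 0 < k := Nat.pos_of_ne_zero fun e => by simp [e] at hn
    let U : Subgroup H := ((powMonoidHom s : Z →* Z).ker).map Z.subtype
    have hUZ : U ≤ Z := map_subtype_le _
    have hUexp : ∀ a ∈ U, a ^ s = 1 := by
      rintro _ ⟨a, ha, rfl⟩
      simpa using congrArg Subtype.val (show a ^ s = 1 from ha)
    obtain ⟨K, hKU, hle, m, hm, hm1⟩ := c.exists_fix_index hs U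
      (fun a ha b hb => hab a (hUZ ha) b (hUZ hb)) hUexp
      (c.coprime_card hUZ (c.coprime_of_abelian Z hab))
    have hK : K = ⊥ := eq_bot_iff.2 fun x hx =>
      mem_bot.2 (c.semiregular Z hab (hUZ (hKU hx)) hm1 (hm x hx))
    rw [hK, Subgroup.card_bot, mul_one,
      Subgroup.card_map_of_injective Z.subtype_injective] at hle
    have hklt : k < s * k := lt_mul_of_one_lt_left hk hs.one_lt
    let f : (powMonoidHom (s * k) : Z →* Z).ker →* Z :=
      (powMonoidHom s).comp (powMonoidHom (s * k) : Z →* Z).ker.subtype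
    have h1 : Nat.card f.range ≤ k := by
      refine le_trans (card_le_of_le ?_) (ih k hklt hk)
      rintro _ ⟨x, rfl⟩
      have hx : (x : Z) ^ (s * k) = 1 := x.2
      show ((x : Z) ^ s) ^ k = 1
      rw [← pow_mul, hx]
    have h2 : Nat.card f.ker ≤ s := by
      refine le_trans ?_ hle
      refine Nat.card_le_card_of_injective
        (fun x => (⟨x.1.1, x.2⟩ : (powMonoidHom s : Z →* Z).ker)) fun a b h => ?_
      exact Subtype.ext (Subtype.ext (congrArg Subtype.val h :))
    rw [← Subgroup.card_mul_index f.ker, Subgroup.index_ker]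
    exact Nat.mul_le_mul h2 h1
  refine isCyclic_of_card_pow_eq_one_le fun n hn => ?_
  refine le_trans (le_of_eq ?_) (hcount n hn)
  rw [Nat.card_eq_fintype_card, Fintype.card_subtype]
  refine congrArg Finset.card (Finset.filter_congr fun x _ => ?_)
  simp [powMonoidHom_apply]

end Hyp

end CfsgLib.CharDeep.Palfy
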