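import Cfsg.Agent.Lib.CharDeep.Palfy.Over
import Cfsg.Agent.Lib.CharDeep.Palfy.CharMain
import Mathlib.GroupTheory.FiniteAbelian.Duality
import Mathlib.Algebra.Group.Subgroup.Actions
import Mathlib.Algebra.Group.Action.End

/-!
# The dual of a minimal normal subgroup as a module
-/

set_option autoImplicit false

namespace CfsgLib.CharDeep.Palfy

open Subgroup CfsgLib

variable {G : Type*} [Group G]

/-- Conjugation on the linear characters of a normal subgroup. -/
noncomputable def dualHom (K : Subgroup G) [K.Normal] : G →* MulAut (K →* ℂˣ) where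
  toFun g :=
    { toFun := fun l => l.comp ((MulAut.conjNormal g⁻¹ : MulAut K) : K →* K)
      invFun := fun l => l.comp ((MulAut.conjNormal g : MulAut K) : K →* K)
      left_inv := fun l => MonoidHom.ext fun k => congrArg l (Subtype.ext (by simp [mul_assoc]))
      right_inv := fun l => MonoidHom.ext fun k => congrArg l (Subtype.ext (by simp [mul_assoc]))
      map_mul' := fun _ _ => rfl }
  map_one' := MulEquiv.ext fun l => MonoidHom.ext fun k => congrArg l (Subtype.ext (by simp))
  map_mul' a b := MulEquiv.ext fun l => MonoidHom.ext fun k =>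
    congrArg l (Subtype.ext (by simp [mul_assoc]))

theorem dualHom_apply {K : Subgroup G} [hK : K.Normal] (g : G) (l : K →* ℂˣ) (k : K) :
    dualHom K g l k = l ⟨g⁻¹ * k * g, hK.conj_mem' k k.2 g⟩ :=
  congrArg l (Subtype.ext (by simp))

theorem mem_stab_iff {K : Subgroup G} [hK : K.Normal] (g : G) (l : K →* ℂˣ) :
    g ∈ Char.stab (fun k : K => (l k : ℂ)) ↔ dualHom K g l = l := by
  rw [← inv_mem_iff (H := Char.stab (fun k : K => (l k : ℂ))), Char.mem_stab]
  refine ⟨fun h => MonoidHom.ext fun k => Units.ext ?_, fun h => funext fun k => ?_⟩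
  · rw [dualHom_apply]
    refine Eq.trans ?_ (congrFun h k)
    exact congrArg (fun z => (l z : ℂ)) (Subtype.ext (by simp))
  · conv_rhs => rw [← h]
    rw [dualHom_apply, Char.conjG_apply]
    exact congrArg (fun z => (l z : ℂ)) (Subtype.ext (by simp))

/-- The abelian group structure given by commutativity. -/
@[reducible]
def commOf (N : Subgroup G) (h : ∀ a ∈ N, ∀ b ∈ N, a * b = b * a) : CommGroup N :=
  { (inferInstance : Group N) with mul_comm := fun a b => Subtype.ext (h a a.2 b b.2) }

variable [Finite G]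

theorem finite_dual (K : Subgroup G) : Finite (K →* ℂˣ) := by
  classical
  cases nonempty_fintype G
  exact Finite.of_injective (fun l : K →* ℂˣ => (⟨_, Char.isIrrCharacter_hom l⟩ : Cfsg.IrrCharacter K))
    fun a b h => Char.coe_hom_injective (congrArg Subtype.val h)

section Dual

variable {N : Subgroup G} (hab : ∀ a ∈ N, ∀ b ∈ N, a * b = b * a)

include hab

theorem card_dual : Nat.card (N →* ℂˣ) = Nat.card N := by
  letI := commOf N hab
  exact CommGroup.card_monoidHom_of_hasEnoughRootsOfUnity N ℂ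

theorem eq_one_of_forall_dual {n : N} (h : ∀ l : N →* ℂˣ, l n = 1) : n = 1 := by
  letI := commOf N hab
  by_contra hn
  obtain ⟨l, hl⟩ := CommGroup.exists_apply_ne_one_of_hasEnoughRootsOfUnity N ℂ hn
  exact hl (h l)

theorem exists_dual_ne_one (hne : N ≠ ⊥) : ∃ l : N →* ℂˣ, l ≠ 1 := by
  by_contra! h
  refine hne (eq_bot_iff.2 fun n hn => mem_bot.2 ?_)
  exact congrArg Subtype.val (eq_one_of_forall_dual hab (n := ⟨n, hn⟩) fun l => by rw [h l]; rfl)

theorem comm_of_dual_fix [hN : N.Normal] {g : G} (h : ∀ l : N →* ℂˣ, dualHom N g l = l) {n : G}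
    (hn : n ∈ N) : g * n = n * g := by
  have h1 : (⟨g⁻¹ * n * g, hN.conj_mem' n hn g⟩ : N) * ⟨n, hn⟩⁻¹ = 1 :=
    eq_one_of_forall_dual hab fun l => by
      have := DFunLike.congr_fun (h l) ⟨n, hn⟩
      rw [dualHom_apply] at this
      rw [map_mul, map_inv, this, mul_inv_cancel]
  have h2 : g⁻¹ * n * g = n := congrArg Subtype.val (mul_inv_eq_one.1 h1)
  calc g * n = g * (g⁻¹ * n * g) := by rw [h2]
    _ = n * g := by group

end Dual

omit [Finite G] in
/-- The image of a normal abelian Sylow subgroup. -/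
theorem NSyl.map [Finite G] {G' : Type*} [Group G'] [Finite G'] {q : ℕ} (hq : q.Prime)
    {S Q : Subgroup G} (h : NSyl q S Q) (f : G →* G') (hf : Function.Surjective f) :
    NSyl q (S.map f) (Q.map f) where
  le := map_mono h.le
  card := by
    haveI := Fact.mk hq
    obtain ⟨k, hk⟩ := (h.isPGroup.map f).exists_card_eq
    have hidx : ¬ q ∣ (Q.map f).index := fun hd =>
      (Sylow.ofCard Q h.card).not_dvd_index (hd.trans (index_map_dvd Q hf))
    rw [← (Q.map f).card_mul_index, Nat.factorization_mul Nat.card_pos.ne'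
      (Q.map f).index_ne_zero_of_finite, Finsupp.add_apply,
      Nat.factorization_eq_zero_of_not_dvd hidx, add_zero, hk, Nat.factorization_pow,
      Finsupp.smul_apply, hq.factorization_self, smul_eq_mul, mul_one]
  comm := by
    rintro _ ⟨a, ha, rfl⟩ _ ⟨b, hb, rfl⟩
    rw [← map_mul, ← map_mul, h.comm a ha b hb]
  norm := (map_mono h.norm).trans (le_normalizer_map f)

/-- A complemented normal subgroup, a minimal normal abelian subgroup of prime power order inside
it, centralised by it. -/
structure Setting (G : Type*) [Group G] (K H N : Subgroup G) (t : ℕ) : Prop where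
  kn : K.Normal
  nn : N.Normal
  compl : IsComplement' K H
  le : N ≤ K
  ne : N ≠ ⊥
  min : ∀ A : Subgroup G, A.Normal → A ≤ N → A = ⊥ ∨ A = N
  cent : ∀ k ∈ K, ∀ n ∈ N, k * n = n * k
  tp : t.Prime
  card : ∃ a, Nat.card N = t ^ a

namespace Setting

variable {K H N : Subgroup G} {t : ℕ} (s : Setting G K H N t)

include s

omit [Finite G] in
theorem comm : ∀ a ∈ N, ∀ b ∈ N, a * b = b * a := fun a ha b hb => s.cent a (s.le ha) b hb

/-- The stabiliser of `l` in the complement. -/
noncomputable def dstab (_ : Setting G K H N t) [N.Normal] (l : N →* ℂˣ) : Subgroup H :=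
  (Char.stab (fun k : N => (l k : ℂ))).subgroupOf H

variable [N.Normal]

omit [Finite G] in
theorem mem_dstab {h : H} {l : N →* ℂˣ} : h ∈ s.dstab l ↔ dualHom N (h : G) l = l :=
  mem_stab_iff (h : G) l

/-- The action of the complement on the dual. -/
noncomputable def act (_ : Setting G K H N t) : H →* MulAut (N →* ℂˣ) := (dualHom N).comp H.subtype

/-- If the primes have normal abelian Sylow subgroups in all stabilisers and both divide the order
of the group induced on the dual, some degree is divisible by both. -/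
theorem exists_degree [Group.IsSolvable G] {q r : ℕ} (hq : q.Prime) (hr : r.Prime) (hqr : q ≠ r)
    (gq : ∀ l : N →* ℂˣ, l ≠ 1 → ∃ Q, NSyl q (s.dstab l) Q)
    (gr : ∀ l : N →* ℂˣ, l ≠ 1 → ∃ R, NSyl r (s.dstab l) R)
    (dq : q ∣ Nat.card s.act.range) (dr : r ∣ Nat.card s.act.range) :
    ∃ χ : Cfsg.IrrCharacter G, q * r ∣ Cfsg.charDegree (χ : G → ℂ) := by
  classical
  haveI := s.kn
  haveI : Finite (N →* ℂˣ) := finite_dual N
  haveI : Finite s.act.range := Finite.of_surjective _ s.act.rangeRestrict_surjective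
  letI iA : MulDistribMulAction s.act.range (N →* ℂˣ) :=
    { smul := fun g l => (g : MulAut (N →* ℂˣ)) l
      one_smul := fun _ => rfl
      mul_smul := fun _ _ _ => rfl
      smul_mul := fun g a b => map_mul (g : MulAut (N →* ℂˣ)) a b
      smul_one := fun g => map_one (g : MulAut (N →* ℂˣ)) }
  have hmap : ∀ l : N →* ℂˣ, (s.dstab l).map s.act.rangeRestrict =
      MulAction.stabilizer s.act.range l := fun l => by
    ext x
    constructor
    · rintro ⟨h, hh, rfl⟩
      exact s.mem_dstab.1 hh
    · intro hx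
      obtain ⟨h, rfl⟩ := s.act.rangeRestrict_surjective x
      exact ⟨h, s.mem_dstab.2 hx, rfl⟩
  have c : Hyp s.act.range (N →* ℂˣ) q r t :=
    { solvable := Group.isSolvable_of_surjective s.act.rangeRestrict_surjective
      tprime := s.tp
      qprime := hq
      rprime := hr
      qr := hqr
      card := by obtain ⟨a, ha⟩ := s.card; exact ⟨a, (card_dual s.comm).trans ha⟩
      nontriv := exists_dual_ne_one s.comm s.ne
      faithful := fun h e => Subtype.ext (MulEquiv.ext e)
      irred := fun W hW => by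
        let A : Subgroup G :=
          { carrier := {n | ∃ hn : n ∈ N, ∀ w ∈ W, w ⟨n, hn⟩ = 1}
            one_mem' := ⟨one_mem _, fun w _ => map_one w⟩
            mul_mem' := fun {a b} ⟨ha, ha'⟩ ⟨hb, hb'⟩ => ⟨mul_mem ha hb, fun w hw => by
              rw [show (⟨a * b, mul_mem ha hb⟩ : N) = ⟨a, ha⟩ * ⟨b, hb⟩ from rfl, map_mul,
                ha' w hw, hb' w hw, one_mul]⟩
            inv_mem' := fun {a} ⟨ha, ha'⟩ => ⟨inv_mem ha, fun w hw => by
              rw [show (⟨a⁻¹, inv_mem ha⟩ : N) = ⟨a, ha⟩⁻¹ from rfl, map_inv, ha' w hw, inv_one]⟩ }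
        have hA : A.Normal := ⟨fun n ⟨hn, hn'⟩ g => by
          obtain ⟨⟨k, h⟩, rfl⟩ := s.compl.2 g
          refine ⟨Subgroup.Normal.conj_mem inferInstance n hn _, fun w hw => ?_⟩
          have h1 : dualHom N ((h : G))⁻¹ w ∈ W :=
            hW ⟨s.act (h⁻¹ : H), h⁻¹, rfl⟩ w hw
          refine Eq.trans ?_ (hn' _ h1)
          rw [dualHom_apply]
          refine congrArg w (Subtype.ext ?_)
          show (k : G) * h * n * ((k : G) * h)⁻¹ = ((h : G)⁻¹)⁻¹ * n * (h : G)⁻¹
          have h2 := s.cent k k.2 ((h : G) * n * (h : G)⁻¹)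
            (Subgroup.Normal.conj_mem inferInstance n hn _)
          calc (k : G) * h * n * ((k : G) * h)⁻¹
              = (k : G) * ((h : G) * n * (h : G)⁻¹) * (k : G)⁻¹ := by group
            _ = (h : G) * n * (h : G)⁻¹ * k * (k : G)⁻¹ := by rw [h2]
            _ = _ := by group⟩
        rcases s.min A hA (fun n hn => hn.1) with e | e
        · refine Or.inr (eq_top_of_card_eq W (le_antisymm (Nat.card_le_card_of_injective _
            Subtype.val_injective) ?_))
          rw [card_dual s.comm, ← CommGroup.card_monoidHom_of_hasEnoughRootsOfUnity W ℂ]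
          haveI : Finite (W →* ℂˣ) := Nat.finite_of_card_ne_zero (by
            rw [CommGroup.card_monoidHom_of_hasEnoughRootsOfUnity W ℂ]; exact Nat.card_pos.ne')
          let ev : N →* (W →* ℂˣ) := MonoidHom.mk'
            (fun n => MonoidHom.mk' (fun w : W => (w : N →* ℂˣ) n) fun a b => rfl)
            fun a b => MonoidHom.ext fun w => map_mul (w : N →* ℂˣ) a b
          refine Nat.card_le_card_of_injective ev ((injective_iff_map_eq_one ev).2 fun n hn => ?_)
          have hmem : (n : G) ∈ A := ⟨n.2, fun w hw => DFunLike.congr_fun hn ⟨w, hw⟩⟩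
          rw [e, mem_bot] at hmem
          exact Subtype.ext hmem
        · refine Or.inl (eq_bot_iff.2 fun w hw => mem_bot.2 (MonoidHom.ext fun n => ?_))
          have hmem : (n : G) ∈ A := e.symm ▸ n.2
          obtain ⟨hn, h⟩ := hmem
          exact h w hw
      qdvd := dq
      rdvd := dr
      qsyl := fun l hl => by
        obtain ⟨Q, hQ⟩ := gq l hl
        exact ⟨_, hmap l ▸ hQ.map hq _ s.act.rangeRestrict_surjective⟩
      rsyl := fun l hl => by
        obtain ⟨R, hR⟩ := gr l hl
        exact ⟨_, hmap l ▸ hR.map hr _ s.act.rangeRestrict_surjective⟩ }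
  obtain ⟨χ, hχ⟩ := c.exists_degree
  obtain ⟨pr, h1, -, -⟩ := exists_proj s.compl
  refine ⟨⟨_, Char.IsIrrCharacter.comp_surjective χ.2 (s.act.rangeRestrict.comp pr)
    (s.act.rangeRestrict_surjective.comp fun h => ⟨h, h1 h⟩)⟩, ?_⟩
  refine hχ.trans (dvd_of_eq ?_)
  simp [Cfsg.charDegree]

/-- A good prime prime to the induced group has a normal abelian Sylow subgroup in the complement,
centralising `N`. -/
theorem exists_normal_syl {q : ℕ} (hq : q.Prime)
    (gq : ∀ l : N →* ℂˣ, l ≠ 1 → ∃ Q, NSyl q (s.dstab l) Q)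
    (dq : ¬ q ∣ Nat.card s.act.range) :
    ∃ Q, NSyl q (⊤ : Subgroup H) Q ∧ ∀ a ∈ Q, ∀ n ∈ N, (a : G) * n = n * a := by
  haveI := Fact.mk hq
  obtain ⟨l, hl⟩ := exists_dual_ne_one s.comm s.ne
  obtain ⟨Q, hQ⟩ := gq l hl
  have hker : ∀ {h : H}, h ∈ s.act.ker → h ∈ s.dstab l := fun {h} hh =>
    s.mem_dstab.2 (MulEquiv.congr_fun hh l)
  obtain ⟨P⟩ : Nonempty (Sylow q H) := inferInstance
  have hPker : (P : Subgroup H) ≤ s.act.ker := by
    intro x hx
    obtain ⟨k, hk⟩ := P.2 ⟨x, hx⟩
    have h1 : s.act.rangeRestrict x ^ q ^ k = 1 := by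
      rw [← map_pow, show x ^ q ^ k = 1 by simpa using congrArg Subtype.val hk, map_one]
    haveI : Finite s.act.range := Finite.of_surjective _ s.act.rangeRestrict_surjective
    have h2 : s.act.rangeRestrict x = 1 := orderOf_eq_one_iff.1 (Nat.eq_one_of_dvd_coprimes
      ((hq.coprime_iff_not_dvd.2 dq).pow_left k) (orderOf_dvd_of_pow_eq_one h1)
      (orderOf_dvd_natCard _))
    exact congrArg Subtype.val h2
  have e : (P : Subgroup H) = Q := Subgroup.eq_of_le_of_card_ge
    (hQ.le_of_pgroup P.2 fun x hx => hker (hPker hx)) (by rw [hQ.card, P.card_eq_multiplicity])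
  refine ⟨Q, ⟨le_top, hQ.card, hQ.comm, fun g _ => ?_⟩, fun a ha n hn => ?_⟩
  · have h3 : ∀ g : H, ∀ x ∈ Q, g * x * g⁻¹ ∈ Q := fun g x hx => by
      refine hQ.le_of_pgroup (hQ.isPGroup.map (MulAut.conj g).toMonoidHom) ?_ ⟨x, hx, rfl⟩
      rintro _ ⟨y, hy, rfl⟩
      exact hker ((inferInstance : s.act.ker.Normal).conj_mem y (hPker (e.symm ▸ hy)) g)
    refine mem_normalizer_iff.2 fun x => ⟨h3 g x, fun h => ?_⟩
    have h4 := h3 g⁻¹ _ h
    simpa [mul_assoc] using h4
  · exact comm_of_dual_fix s.comm (fun l' => MulEquiv.congr_fun (hPker (e.symm ▸ ha)) l') hn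

end Setting

end CfsgLib.CharDeep.Palfy
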