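import Cfsg.Agent.Lib.CharDeep.Palfy.Plane

/-!
# All layers are centralised, so the two primes do not divide the order of the centraliser of `Z`
-/

set_option autoImplicit false

namespace CfsgLib.CharDeep.Palfy

open Subgroup
open scoped commutatorElement

variable {H M : Type*} [Group H] [CommGroup M] [MulDistribMulAction H M] {q r t : ℕ}

/-- A layer inside a normal subgroup above `Z`. -/
theorem exists_layer [Finite H] {Z N : Subgroup H} (hn : N.Normal) (hlt : Z < N)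
    (hC : N ≤ centralizer (Z : Set H)) : ∃ L, Layer Z L ∧ L ≤ N := by
  obtain ⟨L, hLN, hL⟩ := Finite.exists_le_minimal
    (p := fun K : Subgroup H => K.Normal ∧ Z < K ∧ K ≤ N) (a := N) ⟨hn, hlt, le_rfl⟩
  exact ⟨L, ⟨hL.prop.1, hL.prop.2.1, hLN.trans hC, fun K hK hZK hKL =>
    le_antisymm hKL (hL.le_of_le ⟨hK, hZK, hKL.trans hLN⟩ hKL)⟩, hLN⟩

/-- An element of a normal subgroup above `Z` commuting with all layers in it lies in `Z`. -/
theorem mem_of_comm_layers [Finite H] {Z N : Subgroup H} (hZ : MaxAb Z) (hn : N.Normal)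
    (hZN : Z ≤ N) (hC : N ≤ centralizer (Z : Set H)) {x : H} (hx : x ∈ N)
    (h : ∀ L, Layer Z L → L ≤ N → ∀ l ∈ L, x * l = l * x) : x ∈ Z := by
  let X : Subgroup H :=
    { carrier := {y | y ∈ N ∧ ∀ L, Layer Z L → L ≤ N → ∀ l ∈ L, y * l = l * y}
      one_mem' := ⟨one_mem _, fun _ _ _ l _ => by rw [one_mul, mul_one]⟩
      mul_mem' := fun {a b} ha hb => ⟨mul_mem ha.1 hb.1, fun L hL hLN l hl =>
        (show Commute a l from ha.2 L hL hLN l hl).mul_left (hb.2 L hL hLN l hl)⟩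
      inv_mem' := fun {a} ha => ⟨inv_mem ha.1, fun L hL hLN l hl =>
        (show Commute a l from ha.2 L hL hLN l hl).inv_left⟩ }
  have hX : X.Normal := ⟨fun y hy g => ⟨hn.conj_mem y hy.1 g, fun L hL hLN l hl => by
    have h1 := hy.2 L hL hLN _ (hL.normal.conj_mem l hl g⁻¹)
    calc g * y * g⁻¹ * l = g * (y * (g⁻¹ * l * g⁻¹⁻¹)) * g⁻¹ := by group
      _ = g * (g⁻¹ * l * g⁻¹⁻¹ * y) * g⁻¹ := by rw [h1]
      _ = l * (g * y * g⁻¹) := by group⟩⟩
  have hZX : Z ≤ X := fun z hz => ⟨hZN hz, fun L hL _ l hl => hL.central hZ hz hl⟩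
  rcases hZX.eq_or_lt with e | hlt
  · exact e ▸ (⟨hx, h⟩ : x ∈ X)
  · obtain ⟨L, hL, hLX⟩ := exists_layer hX hlt fun y hy => hC hy.1
    obtain ⟨a, ha, b, hb, hab⟩ := hL.not_comm hZ
    exact absurd ((hLX ha).2 L hL (fun y hy => (hLX hy).1) b hb) hab

namespace Hyp

variable (c : Hyp H M q r t) {Z L : Subgroup H} (hZ : MaxAb Z)

include c hZ

variable [Finite H] [Finite M]

/-- If all layers are centralised, the `r`-parts of the centraliser of `Z` are trivial. -/
theorem eq_one_of_all_centralised (hall : ∀ L, Layer Z L → Centralised M r Z L) {m : M}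
    (hm : m ≠ 1) {R : Subgroup H} (hR : NSyl r (MulAction.stabilizer H m) R) {a : H}
    (ha : a ∈ R ⊓ centralizer (Z : Set H)) : a = 1 := by
  haveI := hZ.normal
  refine c.semiregular Z hZ.comm ?_ hm (hR.le ha.1)
  exact mem_of_comm_layers hZ inferInstance
    (fun z hz => mem_centralizer_iff.2 fun y hy => hZ.comm y hy z hz) le_rfl ha.2
    fun L hL _ l hl => hall L hL m hm R hR a ha l hl

theorem invol_eq {z z' : H} (hz : z ∈ Z) (hz' : z' ∈ Z) (h1 : z ≠ 1) (h1' : z' ≠ 1)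
    (h2 : z ^ 2 = 1) (h2' : z' ^ 2 = 1) : z = z' := by
  classical
  haveI := hZ.normal
  haveI := c.isCyclic_of_normal_abelian Z hZ.comm
  by_contra h
  haveI := Fintype.ofFinite Z
  have h3 : ({⟨1, one_mem _⟩, ⟨z, hz⟩, ⟨z', hz'⟩} : Finset Z) ⊆
      ({w : Z | w ^ 2 = 1} : Finset Z) := by
    intro w hw
    simp only [Finset.mem_insert, Finset.mem_singleton] at hw
    simp only [Finset.mem_filter, Finset.mem_univ, true_and]
    rcases hw with rfl | rfl | rfl <;> exact Subtype.ext (by simp [h2, h2'])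
  have h5 := (Finset.card_le_card h3).trans (IsCyclic.card_pow_eq_one_le (α := Z) two_pos)
  have h6 : ({⟨1, one_mem _⟩, ⟨z, hz⟩, ⟨z', hz'⟩} : Finset Z).card = 3 := Finset.card_eq_three.2
    ⟨_, _, _, fun e => h1 (congrArg Subtype.val e).symm,
      fun e => h1' (congrArg Subtype.val e).symm, fun e => h (congrArg Subtype.val e), rfl⟩
  omega

/-- An element of `r`-power order lies in the Sylow subgroup of some vector stabiliser. -/
theorem exists_syl_mem {u : H} {k : ℕ} (hu : u ^ r ^ k = 1) :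
    ∃ m : M, m ≠ 1 ∧ ∃ R, NSyl r (MulAction.stabilizer H m) R ∧ u ∈ R := by
  haveI := Fact.mk c.rprime
  obtain ⟨m, hm⟩ := c.nontriv
  obtain ⟨R, hR⟩ := c.rsyl m hm
  have hp : IsPGroup r (zpowers u) := by
    rintro ⟨x, i, rfl⟩
    refine ⟨k, Subtype.ext ?_⟩
    show (u ^ i) ^ r ^ k = 1
    rw [← zpow_natCast, ← zpow_mul, mul_comm, zpow_mul, zpow_natCast, hu, one_zpow]
  obtain ⟨P, hP⟩ := hp.exists_le_sylow
  obtain ⟨g, hg⟩ := MulAction.exists_smul_eq H (Sylow.ofCard R hR.card) P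
  have hg' : R.map (MulAut.conj g).toMonoidHom = (P : Subgroup H) :=
    congrArg (fun S : Sylow r H => (S : Subgroup H)) hg
  obtain ⟨b, hb, hbu⟩ : u ∈ R.map (MulAut.conj g).toMonoidHom := hg'.symm ▸ hP (mem_zpowers u)
  have hgm : g • m ≠ 1 := fun e => hm (eq_one_of_smul_eq_one g e)
  obtain ⟨R', hR'⟩ := c.rsyl _ hgm
  refine ⟨_, hgm, R', hR', hR'.le_of_pgroup hp (zpowers_le.2 ?_) (mem_zpowers u)⟩
  show u • g • m = g • m
  rw [← hbu, ← mul_smul]
  show (g * b * g⁻¹ * g) • m = g • m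
  rw [inv_mul_cancel_right, mul_smul, show b • m = m from hR.le hb]

end Hyp

/-- The facts about a layer of exceptional type which is not centralised. -/
structure Exc (M : Type*) [CommGroup M] [MulDistribMulAction H M] (r : ℕ) (Z L : Subgroup H)
    [Z.Normal] (z₀ x y : H) : Prop where
  three : r = 3
  four : Nat.card (L.map (QuotientGroup.mk' Z)) = 4
  noinv : ∀ l ∈ L, l ∉ Z → l ^ 2 ≠ 1
  exp : ∀ l ∈ L, l ^ 2 ∈ Z
  no4 : ¬ 4 ∣ Nat.card Z
  nc : ¬ Centralised M r Z L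
  z₀Z : z₀ ∈ Z
  z₀ne : z₀ ≠ 1
  z₀sq : z₀ ^ 2 = 1
  xL : x ∈ L
  yL : y ∈ L
  xZ : x ∉ Z
  yZ : y ∉ Z
  xyZ : x * y ∉ Z
  x2 : x ^ 2 = z₀
  y2 : y ^ 2 = z₀

namespace Hyp

variable (c : Hyp H M q r t) {Z L : Subgroup H} (hZ : MaxAb Z)

include c hZ

variable [Finite H] [Finite M]

theorem sq_of_fourth (h4 : ¬ 4 ∣ Nat.card Z) {z : H} (hz : z ∈ Z) (h : z ^ 4 = 1) : z ^ 2 = 1 := by
  have h1 : orderOf z ∣ 2 ^ 2 := orderOf_dvd_of_pow_eq_one h
  obtain ⟨i, hi, hi'⟩ := (Nat.dvd_prime_pow Nat.prime_two).1 h1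
  rcases Nat.lt_or_ge i 2 with h2 | h2
  · refine orderOf_dvd_iff_pow_eq_one.1 (hi'.symm ▸ ?_)
    exact (Nat.pow_dvd_pow 2 (show i ≤ 1 by omega)).trans (by norm_num)
  · refine absurd ?_ h4
    have := Subgroup.orderOf_dvd_natCard Z hz
    rwa [hi', show i = 2 by omega] at this

theorem exists_fourth (h4 : ¬ 4 ∣ Nat.card Z) {z₀ : H} (hz₀ : z₀ ∈ Z) (hz₀1 : z₀ ≠ 1)
    (hz₀2 : z₀ ^ 2 = 1) {x : H} (hx : x ^ 2 ∈ Z) : ∃ z ∈ Z, (x * z) ^ 4 = 1 := by
  obtain ⟨o, ho⟩ : 2 ∣ Nat.card Z := by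
    rw [← orderOf_eq_prime hz₀2 hz₀1]; exact Subgroup.orderOf_dvd_natCard Z hz₀
  refine ⟨(x ^ 2) ^ (o / 2), pow_mem hx _, ?_⟩
  rw [← pow_mul, ← pow_succ', ← pow_mul,
    show (2 * (o / 2) + 1) * 4 = 2 * (Nat.card Z) by omega, pow_mul]
  exact congrArg Subtype.val (pow_card_eq_one' (x := (⟨x ^ 2, hx⟩ : Z)))

theorem sq_eq (h4 : ¬ 4 ∣ Nat.card Z) {z₀ : H} (hz₀ : z₀ ∈ Z) (hz₀1 : z₀ ≠ 1)
    (hz₀2 : z₀ ^ 2 = 1) {w : H} (hw : w ^ 2 ∈ Z) (hw4 : w ^ 4 = 1) (hw2 : w ^ 2 ≠ 1) :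
    w ^ 2 = z₀ :=
  c.invol_eq hZ hw hz₀ hw2 hz₀1 (by rw [← pow_mul]; exact hw4) hz₀2

variable (hL : Layer Z L) [Z.Normal]

include hL

theorem exists_exc (hexp : ∀ l ∈ L, l ^ 2 ∈ Z) (h4 : ¬ 4 ∣ Nat.card Z)
    (hnc : ¬ Centralised M r Z L) : ∃ z₀ x y, Exc M r Z L z₀ x y := by
  classical
  obtain ⟨hr, hfour, hninv⟩ := c.plane hZ hL hexp h4 hnc
  obtain ⟨⟨z₀, hz₀, hz₀1, hz₀2⟩, -⟩ := c.exists_frame hZ hL Nat.prime_two hexp
  have hlift : ∀ l ∈ L, l ∉ Z → ∃ w ∈ L, w ∉ Z ∧ w ^ 2 = z₀ ∧ l⁻¹ * w ∈ Z := by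
    intro l hl hlZ
    obtain ⟨z, hz, h⟩ := c.exists_fourth hZ h4 hz₀ hz₀1 hz₀2 (hexp l hl)
    have hw : l * z ∉ Z := fun h' => hlZ (by simpa using mul_mem h' (inv_mem hz))
    have hwL : l * z ∈ L := mul_mem hl (hL.lt.le hz)
    exact ⟨_, hwL, hw, c.sq_eq hZ h4 hz₀ hz₀1 hz₀2 (hexp _ hwL) h (hninv _ hwL hw),
      by rwa [inv_mul_cancel_left]⟩
  obtain ⟨x₀, hx₀, hx₀Z⟩ := SetLike.exists_of_lt hL.lt
  obtain ⟨x, hx, hxZ, hx2, -⟩ := hlift x₀ hx₀ hx₀Z
  obtain ⟨y₀, hy₀, hy₀Z, hxy₀⟩ : ∃ y₀ ∈ L, y₀ ∉ Z ∧ x * y₀ ∉ Z := by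
    by_contra! h
    haveI := hL.normal
    refine absurd hfour (ne_of_lt (lt_of_le_of_lt ?_ (by norm_num : 2 < 4)))
    haveI := Fintype.ofFinite (H ⧸ Z)
    have hsub : ((L.map (QuotientGroup.mk' Z) : Subgroup (H ⧸ Z)) : Set (H ⧸ Z)).toFinset ⊆
        {1, (QuotientGroup.mk' Z x)⁻¹} := by
      intro v hv
      rw [Set.mem_toFinset] at hv
      obtain ⟨l, hl, rfl⟩ := hv
      simp only [Finset.mem_insert, Finset.mem_singleton]
      by_cases hlZ : l ∈ Z
      · exact .inl (quot_eq_one.2 hlZ)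
      · refine .inr (eq_inv_of_mul_eq_one_right ?_)
        rw [← map_mul]
        exact quot_eq_one.2 (h l hl hlZ)
    have := (Finset.card_le_card hsub).trans Finset.card_le_two
    rwa [Set.toFinset_card, ← Nat.card_eq_fintype_card] at this
  obtain ⟨y, hy, hyZ, hy2, hyy⟩ := hlift y₀ hy₀ hy₀Z
  refine ⟨z₀, x, y, hr, hfour, hninv, hexp, h4, hnc, hz₀, hz₀1, hz₀2, hx, hy, hxZ, hyZ,
    fun h => hxy₀ ?_, hx2, hy2⟩
  have := mul_mem h (inv_mem hyy)
  rwa [show x * y * (y₀⁻¹ * y)⁻¹ = x * y₀ by group] at this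

variable {z₀ x y : H} (E : Exc M r Z L z₀ x y)

include E

omit c hL hZ [Finite M] in
/-- The four cosets. -/
theorem exc_cover {a b : H} (ha : a ∈ L) (hb : b ∈ L) (haZ : a ∉ Z) (hbZ : b ∉ Z)
    (habZ : a * b ∉ Z) {l : H} (hl : l ∈ L) :
    l ∈ Z ∨ a * l ∈ Z ∨ b * l ∈ Z ∨ a * b * l ∈ Z := by
  classical
  haveI := Fintype.ofFinite (H ⧸ Z)
  let π := QuotientGroup.mk' Z
  have hself : ∀ {w}, w ∈ L → π w * π w = 1 := fun {w} hw => by
    rw [← map_mul, ← pow_two]; exact quot_eq_one.2 (E.exp w hw)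
  have hinj : ∀ {u w}, u ∈ L → (π u = π w) → u * w ∈ Z := fun {u w} hu e => by
    rw [← quot_eq_one, map_mul, ← e]; exact hself hu
  have hsub : ({π (a * b), π b, π a, 1} : Finset (H ⧸ Z)) ⊆
      ((L.map π : Subgroup (H ⧸ Z)) : Set (H ⧸ Z)).toFinset := by
    intro v hv
    rw [Set.mem_toFinset]
    simp only [Finset.mem_insert, Finset.mem_singleton] at hv
    rcases hv with rfl | rfl | rfl | rfl
    exacts [mem_map_of_mem π (mul_mem ha hb), mem_map_of_mem π hb, mem_map_of_mem π ha, one_mem _]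
  have n1 : π a ≠ 1 := fun e => haZ (quot_eq_one.1 e)
  have n2 : π b ≠ 1 := fun e => hbZ (quot_eq_one.1 e)
  have n3 : π (a * b) ≠ 1 := fun e => habZ (quot_eq_one.1 e)
  have n4 : π b ≠ π a := fun e => habZ (hinj ha e.symm)
  have n5 : π (a * b) ≠ π b := fun e => n1 (by rwa [map_mul, mul_eq_right] at e)
  have n6 : π (a * b) ≠ π a := fun e => n2 (by rwa [map_mul, mul_eq_left] at e)
  have hc : ({π (a * b), π b, π a, 1} : Finset (H ⧸ Z)).card = 4 := by
    rw [Finset.card_insert_of_notMem, Finset.card_insert_of_notMem,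
      Finset.card_insert_of_notMem, Finset.card_singleton] <;>
      simp only [Finset.mem_insert, Finset.mem_singleton, not_or] <;> tauto
  have he := Finset.eq_of_subset_of_card_le hsub (by
    rw [hc, Set.toFinset_card, ← Nat.card_eq_fintype_card]; exact E.four.le)
  have hlm : π l ∈ ((L.map π : Subgroup (H ⧸ Z)) : Set (H ⧸ Z)).toFinset := by
    rw [Set.mem_toFinset]; exact mem_map_of_mem π hl
  rw [← he] at hlm
  simp only [Finset.mem_insert, Finset.mem_singleton] at hlm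
  rcases hlm with h | h | h | h
  · exact .inr (.inr (.inr (hinj (mul_mem ha hb) h.symm)))
  · exact .inr (.inr (.inl (hinj hb h.symm)))
  · exact .inr (.inl (hinj ha h.symm))
  · exact .inl (quot_eq_one.1 h)

omit c hL hZ [Finite M] in
theorem exc_mod {a b : H} (ha : a ∈ L) (h : a * b ∈ Z) : ∃ z ∈ Z, b = a * z :=
  ⟨(a ^ 2)⁻¹ * (a * b), mul_mem (inv_mem (E.exp a ha)) h, by group⟩

/-- An element of odd prime power order fixing a coset outside `Z` centralises the layer. -/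
theorem exc_fix {b : H} (hb : b ∈ centralizer (Z : Set H)) {k : ℕ} (hk : b ^ r ^ k = 1)
    {l : H} (hl : l ∈ L) (hlZ : l ∉ Z) (h : b * l * b⁻¹ * l⁻¹ ∈ Z) :
    ∀ w ∈ L, b * w = w * b := by
  intro w hw
  have hbl : b * l * b⁻¹ = l := by
    rw [c.commute_of_quot hZ hL hb hk hl h, mul_inv_cancel_right]
  have hconj : ∀ {u}, u ∈ L → b * u * b⁻¹ ∈ L := fun {u} hu => hL.normal.conj_mem u hu b
  have hbz : ∀ {z}, z ∈ Z → b * z * b⁻¹ = z := fun {z} hz => by
    rw [← mem_centralizer_iff.1 hb z hz, mul_inv_cancel_right]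
  by_cases hwZ : w ∈ Z
  · exact (mem_centralizer_iff.1 hb w hwZ).symm
  by_cases hlw : l * w ∈ Z
  · obtain ⟨z, hz, rfl⟩ := exc_mod E hl hlw
    exact mul_inv_eq_iff_eq_mul.1 (by
      rw [show b * (l * z) * b⁻¹ = b * l * b⁻¹ * (b * z * b⁻¹) by group, hbl, hbz hz])
  -- the image of the coset of `w`
  have hnZ : ∀ {u}, u ∉ Z → b * u * b⁻¹ ∉ Z := fun {u} hu h' => hu (by
    have h2 : b * (b * u * b⁻¹) * b⁻¹ = b * u * b⁻¹ := hbz h'
    have h3 : b * u * b⁻¹ = u := mul_left_cancel (mul_right_cancel h2)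
    rwa [h3] at h')
  rcases exc_cover E hl hw hlZ hwZ hlw (hconj hw) with h1 | h1 | h1 | h1
  · exact absurd h1 (hnZ hwZ)
  · refine absurd ?_ (hnZ hlw)
    rwa [show b * (l * w) * b⁻¹ = b * l * b⁻¹ * (b * w * b⁻¹) by group, hbl]
  · obtain ⟨z, hz, e⟩ := exc_mod E hw h1
    refine c.commute_of_quot hZ hL hb hk hw ?_
    rw [e, ← hL.central hZ hz hw, mul_inv_cancel_right]
    exact hz
  · obtain ⟨z, hz, e⟩ := exc_mod E (mul_mem hl hw) h1
    have h2 : b ^ 2 * w * (b ^ 2)⁻¹ * w⁻¹ ∈ Z := by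
      have e2 : b ^ 2 * w * (b ^ 2)⁻¹ = l * (l * w * z) * z := by
        rw [pow_two, show b * b * w * (b * b)⁻¹ = b * (b * w * b⁻¹) * b⁻¹ by group, e,
          show b * (l * w * z) * b⁻¹ = b * l * b⁻¹ * (b * w * b⁻¹) * (b * z * b⁻¹) by group,
          hbl, hbz hz, e]
      rw [e2, show l * (l * w * z) * z * w⁻¹ = l ^ 2 * (w * (z * z) * w⁻¹) by rw [pow_two]; group,
        ← hL.central hZ (mul_mem hz hz) hw, mul_inv_cancel_right]
      exact mul_mem (E.exp l hl) (mul_mem hz hz)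
    have h3 := c.commute_of_quot hZ hL (pow_mem hb 2) (k := k)
      (by rw [← pow_mul, mul_comm, pow_mul, hk, one_pow]) hw h2
    obtain ⟨j, hj⟩ : Odd (r ^ k) := by rw [E.three]; exact (by decide : Odd 3).pow
    have hb2 : b = (b ^ 2) ^ (j + 1) := by
      rw [← pow_mul, show 2 * (j + 1) = r ^ k + 1 by omega, pow_succ, hk, one_mul]
    rw [hb2]
    exact ((show Commute (b ^ 2) w from h3).pow_left _).eq

/-- Layers centralising `L` are centralised. -/
theorem exc_layer {L' : Subgroup H} (hL' : Layer Z L') (hle : L' ≤ centralizer (L : Set H)) :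
    Centralised M r Z L' := by
  haveI := c.solvable
  obtain ⟨s, hs, hexp'⟩ := hL'.exists_prime hZ
  rcases eq_or_ne s 2 with hs2 | hs2
  swap
  · exact c.centralised_of_regular hZ hL' hs hexp' fun h => absurd h hs2
  subst hs2
  exfalso
  haveI := Fact.mk c.rprime
  have hcomm : ∀ {u w}, u ∈ L → w ∈ L' → Commute u w := fun {u w} hu hw =>
    mem_centralizer_iff.1 (hle hw) u hu
  obtain ⟨x', hx', hx'2⟩ : ∃ x' ∈ L', x' ^ 2 = z₀ := by
    by_contra! hno
    obtain ⟨a, ha, b, hb, hab⟩ := hL'.not_comm hZ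
    have hl1 : ∀ {l}, l ∈ L' → ∃ z ∈ Z, (l * z) ^ 2 = 1 := fun {l} hl => by
      obtain ⟨z, hz, h⟩ := c.exists_fourth hZ E.no4 E.z₀Z E.z₀ne E.z₀sq (hexp' l hl)
      have hw := mul_mem hl (hL'.lt.le hz)
      refine ⟨z, hz, by_contra fun h2 => hno _ hw ?_⟩
      exact c.sq_eq hZ E.no4 E.z₀Z E.z₀ne E.z₀sq (hexp' _ hw) h h2
    obtain ⟨z, hz, ha2⟩ := hl1 ha
    obtain ⟨z', hz', hb2⟩ := hl1 hb
    have haL := mul_mem ha (hL'.lt.le hz)
    have hbL := mul_mem hb (hL'.lt.le hz')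
    obtain ⟨w, hw, hab2⟩ := hl1 (mul_mem haL hbL)
    have hw' : Commute (a * z * (b * z')) w := (hL'.central hZ hw (mul_mem haL hbL)).symm
    rw [hw'.mul_pow, hL'.mul_pow hZ haL hbL, ha2, hb2, one_mul, one_mul, Nat.choose_self,
      pow_one] at hab2
    have h4 : w ^ 4 = 1 := by
      have h1 : ⁅b * z', a * z⁆ ^ 2 = 1 := by
        have h2 := hL'.comm_mul_left hZ hbL hbL haL
        rw [← pow_two (b * z'), hb2, commutatorElement_one_left, ← pow_two] at h2
        exact h2.symm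
      rw [show (4 : ℕ) = 2 * 2 by norm_num, pow_mul,
        show w ^ 2 = ⁅b * z', a * z⁆⁻¹ from eq_inv_of_mul_eq_one_right hab2, inv_pow, h1, inv_one]
    rw [c.sq_of_fourth hZ E.no4 hw h4, mul_one, commutatorElement_eq_one_iff_mul_comm] at hab2
    have h5 : Commute (b * z' * z'⁻¹) (a * z) := (show Commute (b * z') (a * z) from hab2).mul_left
      (hL'.central hZ (inv_mem hz') haL)
    rw [mul_inv_cancel_right] at h5
    have h6 : Commute b (a * z * z⁻¹) := h5.mul_right (hL'.central hZ (inv_mem hz) hb).symm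
    rw [mul_inv_cancel_right] at h6
    exact hab h6.eq.symm
  set j := x * x' with hj
  have hxx' := hcomm E.xL hx'
  have hnotL' : x ∉ L' := fun h => E.xZ (hL.mem_of_central hZ E.xL fun l hl => (hcomm hl h).symm.eq)
  have hjZ : j ∉ Z := fun h => hnotL' (by
    have := mul_mem (hL'.lt.le h) (inv_mem hx')
    rwa [hj, mul_inv_cancel_right] at this)
  have hj2 : j ^ 2 = 1 := by rw [hj, hxx'.mul_pow, E.x2, hx'2, ← pow_two, E.z₀sq]
  obtain ⟨v, hv1, hv⟩ : ∃ v : M, v ≠ 1 ∧ j • v = v := by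
    by_contra! h
    have hinv : ∀ m : M, j • m = m⁻¹ := fun m => by
      refine eq_inv_of_mul_eq_one_right (by_contra fun h1 => h _ h1 ?_)
      rw [smul_mul', ← mul_smul, ← pow_two, hj2, one_smul, mul_comm]
    have hcentral : ∀ g : H, j * g = g * j := fun g => by
      refine (inv_mul_eq_one.1 (c.faithful ((g * j)⁻¹ * (j * g)) fun m => ?_)).symm
      have key : (j * g) • m = (g * j) • m := by rw [mul_smul j g, mul_smul g j, hinv, hinv, smul_inv']
      rw [mul_smul, key, inv_smul_smul]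
    let B : Subgroup H := Z ⊔ zpowers j
    haveI : (zpowers j).Normal := ⟨fun w hw g => by
      obtain ⟨i, rfl⟩ := hw
      rw [((show Commute j g from hcentral g).zpow_left i).symm.eq, mul_inv_cancel_right]
      exact ⟨i, rfl⟩⟩
    have hB : B.Normal := inferInstance
    refine hjZ (hZ.max B hB ?_ le_sup_left (mem_sup_right (mem_zpowers j)))
    intro a ha b hb
    have hle : B ≤ centralizer (B : Set H) := by
      refine sup_le (fun z hz => mem_centralizer_iff.2 fun w hw => ?_)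
        (zpowers_le.2 (mem_centralizer_iff.2 fun w _ => (hcentral w).symm))
      obtain ⟨z', hz', u, hu, rfl⟩ := (mem_sup_of_normal_right).1 hw
      obtain ⟨i, rfl⟩ := hu
      exact ((show Commute z' z from hZ.comm z' hz' z hz).mul_left
        ((show Commute j z from hcentral z).zpow_left i)).eq
    exact mem_centralizer_iff.1 (hle hb) a ha
  obtain ⟨R', hR'⟩ := c.rsyl v hv1
  haveI := hL.normal
  refine E.nc (c.centralised_of_one hZ L hR' fun a ha => ?_)
  obtain ⟨k, hk⟩ := c.rpow hR' ha.1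
  have hcx : a * x * a⁻¹ * x⁻¹ ∈ L := mul_mem (hL.normal.conj_mem x E.xL a) (inv_mem E.xL)
  have hcx' : a * x' * a⁻¹ * x'⁻¹ ∈ L' := mul_mem (hL'.normal.conj_mem x' hx' a) (inv_mem hx')
  have hsplit : a * j * a⁻¹ * j⁻¹ = a * x * a⁻¹ * x⁻¹ * (a * x' * a⁻¹ * x'⁻¹) := by
    have h1 : Commute x⁻¹ (a * x' * a⁻¹ * x'⁻¹) := (hcomm E.xL hcx').inv_left
    calc a * j * a⁻¹ * j⁻¹ = a * x * a⁻¹ * (a * x' * a⁻¹ * x'⁻¹ * x⁻¹) := by rw [hj]; group
      _ = a * x * a⁻¹ * (x⁻¹ * (a * x' * a⁻¹ * x'⁻¹)) := by rw [h1.eq]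
      _ = _ := by group
  have hR : a * j * a⁻¹ * j⁻¹ ∈ R' := by
    rw [mul_assoc, mul_assoc, ← mul_assoc j]
    exact mul_mem ha.1 ((mem_normalizer_iff.1 (hR'.norm (show j ∈ _ from hv)) _).1 (inv_mem ha.1))
  obtain ⟨k', hk'⟩ := c.rpow hR' hR
  have hone : a * j * a⁻¹ * j⁻¹ = 1 := by
    have h1 : (a * j * a⁻¹ * j⁻¹) ^ (Nat.card L * Nat.card L') = 1 := by
      rw [hsplit, (hcomm hcx hcx').mul_pow, pow_mul, mul_comm (Nat.card L), pow_mul,
        show (a * x * a⁻¹ * x⁻¹) ^ Nat.card L = 1 from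
          congrArg Subtype.val (pow_card_eq_one' (x := (⟨_, hcx⟩ : L))),
        show (a * x' * a⁻¹ * x'⁻¹) ^ Nat.card L' = 1 from
          congrArg Subtype.val (pow_card_eq_one' (x := (⟨_, hcx'⟩ : L'))),
        one_pow, one_pow, one_mul]
    exact orderOf_eq_one_iff.1 (Nat.eq_one_of_dvd_coprimes
      ((Nat.Coprime.mul_left (c.coprime_layer_r hZ hL) (c.coprime_layer_r hZ hL')).pow_right k')
      (orderOf_dvd_of_pow_eq_one h1) (orderOf_dvd_of_pow_eq_one hk'))
  refine c.exc_fix hZ hL E ha.2 hk E.xL E.xZ (hL.mem_of_central hZ hcx fun l hl => ?_)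
  have h' : a * x * a⁻¹ * x⁻¹ ∈ L' := by
    rw [eq_inv_of_mul_eq_one_left (hsplit.symm.trans hone)]; exact inv_mem hcx'
  exact (hcomm hl h').symm.eq

/-- The `r`-parts act faithfully on the layer. -/
theorem exc_faithful {m : M} (hm : m ≠ 1) {R : Subgroup H}
    (hR : NSyl r (MulAction.stabilizer H m) R) {b : H} (hb : b ∈ R ⊓ centralizer (Z : Set H))
    (h : ∀ l ∈ L, b * l = l * b) : b = 1 := by
  haveI := hL.normal
  refine c.semiregular Z hZ.comm ?_ hm (hR.le hb.1)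
  exact mem_of_comm_layers hZ (N := centralizer (Z : Set H) ⊓ centralizer (L : Set H))
    inferInstance (fun z hz => ⟨mem_centralizer_iff.2 fun w hw => hZ.comm w hw z hz,
      mem_centralizer_iff.2 fun l hl => (hL.central hZ hz hl).symm⟩) inf_le_left
    ⟨hb.2, mem_centralizer_iff.2 fun l hl => (h l hl).symm⟩
    fun L' hL' hle l hl => c.exc_layer hZ hL E hL' (hle.trans inf_le_right) m hm R hR b hb l hl

/-- The `r`-parts commute with the centraliser of the layer. -/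
theorem exc_comm {m : M} (hm : m ≠ 1) {R : Subgroup H}
    (hR : NSyl r (MulAction.stabilizer H m) R) {b : H} (hb : b ∈ R ⊓ centralizer (Z : Set H))
    {k : H} (hk : k ∈ centralizer (Z : Set H) ⊓ centralizer (L : Set H)) : Commute b k := by
  haveI := hL.normal
  obtain ⟨i, hi⟩ := c.rpow hR hb.1
  let N := centralizer (Z : Set H) ⊓ centralizer (L : Set H)
  have hN : N.Normal := inferInstance
  have hc : b * k * b⁻¹ * k⁻¹ ∈ Z := by
    refine mem_of_comm_layers hZ hN (fun z hz => ⟨mem_centralizer_iff.2 fun w hw => hZ.comm w hw z hz,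
      mem_centralizer_iff.2 fun l hl => (hL.central hZ hz hl).symm⟩) inf_le_left
      (mul_mem (hN.conj_mem k hk b) (inv_mem hk)) fun L' hL' hle l hl => ?_
    have hcent : ∀ {u}, u ∈ L' → Commute b u := fun {u} hu =>
      c.exc_layer hZ hL E hL' (hle.trans inf_le_right) m hm R hR b hb u hu
    have h1 := hcent (hL'.normal.conj_mem l hl k⁻¹)
    refine mul_inv_eq_iff_eq_mul.1 ?_
    calc b * k * b⁻¹ * k⁻¹ * l * (b * k * b⁻¹ * k⁻¹)⁻¹
        = b * k * (b⁻¹ * (k⁻¹ * l * k⁻¹⁻¹)) * b * k⁻¹ * b⁻¹ := by group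
      _ = b * k * (k⁻¹ * l * k⁻¹⁻¹ * b⁻¹) * b * k⁻¹ * b⁻¹ := by rw [h1.inv_left.eq]
      _ = b * l * b⁻¹ := by group
      _ = l := by rw [(hcent hl).eq, mul_inv_cancel_right]
  have := eq_one_of_conj_eq_mul (l := k) (c := b * k * b⁻¹ * k⁻¹) hi
    (mem_centralizer_iff.1 hb.2 _ hc).symm (by group) (hL.lt.le hc)
    ((c.coprime_layer_r hZ hL).pow_right i)
  rw [mul_inv_eq_one, mul_inv_eq_iff_eq_mul] at this
  exact this

/-- A nontrivial `r`-part element is a three cycle on the cosets. -/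
theorem exc_cycle {m : M} (hm : m ≠ 1) {R : Subgroup H}
    (hR : NSyl r (MulAction.stabilizer H m) R) {b : H} (hb : b ∈ R ⊓ centralizer (Z : Set H))
    (hb1 : b ≠ 1) :
    b ^ 3 = 1 ∧ (y * (b * x * b⁻¹) ∈ Z ∧ x * y * (b * y * b⁻¹) ∈ Z ∨
      y * (b * x * b⁻¹) ∉ Z ∧ x * y * (b * x * b⁻¹) ∈ Z ∧ x * (b * y * b⁻¹) ∈ Z) := by
  haveI := hL.normal
  obtain ⟨i, hi⟩ := c.rpow hR hb.1
  let π := QuotientGroup.mk' Z
  have hself : ∀ {w}, w ∈ L → π w * π w = 1 := fun {w} hw => by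
    rw [← map_mul, ← pow_two]; exact quot_eq_one.2 (E.exp w hw)
  have heq : ∀ {u w}, u ∈ L → u * w ∈ Z → π w = π u := fun {u w} hu h => by
    have h1 : π u * π w = 1 := by rw [← map_mul]; exact quot_eq_one.2 h
    exact mul_left_cancel (h1.trans (hself hu).symm)
  have hnf : ∀ (n : ℕ) {l}, l ∈ L → l ∉ Z → (b ^ n) ≠ 1 → π (b ^ n * l * (b ^ n)⁻¹) ≠ π l := by
    intro n l hl hlZ hn e
    have hbn : b ^ n ∈ R ⊓ centralizer (Z : Set H) := pow_mem hb n
    obtain ⟨i', hi'⟩ := c.rpow hR hbn.1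
    refine hn (c.exc_faithful hZ hL E hm hR hbn (c.exc_fix hZ hL E hbn.2 hi' hl hlZ ?_))
    rw [← quot_eq_one, map_mul, map_inv, e, mul_inv_cancel]
  have hodd : Odd (r ^ i) := by rw [E.three]; exact (by decide : Odd 3).pow
  have hb2 : b ^ 2 ≠ 1 := fun h => by
    obtain ⟨j, hj⟩ := hodd
    rw [hj, pow_succ, pow_mul, h, one_pow, one_mul] at hi
    exact hb1 hi
  have hx' := hL.normal.conj_mem x E.xL b
  have hy' := hL.normal.conj_mem y E.yL b
  have hcomm : π x * π y = π y * π x := by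
    rw [← commutatorElement_eq_one_iff_mul_comm, ← map_commutatorElement]
    haveI := c.solvable
    exact quot_eq_one.2 (hL.commutator_mem hZ E.xL E.yL)
  have hxne : π (b * x * b⁻¹) ≠ π x := by simpa using hnf 1 E.xL E.xZ (by simpa using hb1)
  have hyne : π (b * y * b⁻¹) ≠ π y := by simpa using hnf 1 E.yL E.yZ (by simpa using hb1)
  have hpi2 : ∀ w : H, π (b ^ 2 * w * (b ^ 2)⁻¹) = π b * π (b * w * b⁻¹) * (π b)⁻¹ := fun w => by
    rw [← map_inv, ← map_mul, ← map_mul, pow_two]; congr 1; group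
  have hcov := fun {l} (hl : l ∈ L) => exc_cover E E.xL E.yL E.xZ E.yZ E.xyZ hl
  have hone : ∀ {w}, w ∉ Z → b * w * b⁻¹ ∉ Z := fun {w} hw h' => hw (by
    have := hZ.normal.conj_mem _ h' b⁻¹
    simpa [mul_assoc] using this)
  have hb3 : ∀ {u}, π (b ^ 3 * u * (b ^ 3)⁻¹) = π u → u ∈ L → u ∉ Z → b ^ 3 = 1 :=
    fun {u} e hu huZ => by_contra fun h => hnf 3 hu huZ h e
  have hpi3 : ∀ w : H, π (b ^ 3 * w * (b ^ 3)⁻¹) =
      π b * (π b * π (b * w * b⁻¹) * (π b)⁻¹) * (π b)⁻¹ := fun w => by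
    rw [← map_inv, ← map_mul, ← map_mul, ← map_mul, ← map_mul, pow_succ, pow_two]; congr 1; group
  have hconj : ∀ u w : H, π b * (π u * π w) * (π b)⁻¹ = π (b * u * b⁻¹) * π (b * w * b⁻¹) :=
    fun u w => by rw [← map_mul, ← map_inv, ← map_mul, ← map_mul, ← map_mul]; congr 1; group
  have hconj1 : ∀ u : H, π b * π u * (π b)⁻¹ = π (b * u * b⁻¹) := fun u => by
    rw [← map_inv, ← map_mul, ← map_mul]
  rcases hcov hx' with h | h | h | h
  · exact absurd h (hone E.xZ)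
  · exact absurd (heq E.xL h) hxne
  · -- `x ↦ y`
    have ex := heq E.yL h
    have ey : x * y * (b * y * b⁻¹) ∈ Z := by
      rcases hcov hy' with h' | h' | h' | h'
      · exact absurd h' (hone E.yZ)
      · refine absurd ?_ (hnf 2 E.xL E.xZ hb2)
        rw [hpi2, ex, hconj1, heq E.xL h']
      · exact absurd (heq E.yL h') hyne
      · exact h'
    refine ⟨hb3 (u := x) ?_ E.xL E.xZ, .inl ⟨h, ey⟩⟩
    rw [hpi3, ex, hconj1, heq (mul_mem E.xL E.yL) ey, map_mul π x y, hconj, ex,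
      heq (mul_mem E.xL E.yL) ey, map_mul π x y, hcomm, ← mul_assoc, hself E.yL, one_mul]
  · -- `x ↦ x y`
    have ex := heq (mul_mem E.xL E.yL) h
    have hnot : y * (b * x * b⁻¹) ∉ Z := fun h' => by
      have h1 := (heq E.yL h').symm.trans ex
      rw [map_mul] at h1
      exact E.xZ (quot_eq_one.1 (mul_eq_right.1 h1.symm))
    have ey : x * (b * y * b⁻¹) ∈ Z := by
      rcases hcov hy' with h' | h' | h' | h'
      · exact absurd h' (hone E.yZ)
      · exact h'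
      · exact absurd (heq E.yL h') hyne
      · exfalso
        have h1 : π (b * (x * y) * b⁻¹) = 1 := by
          rw [show b * (x * y) * b⁻¹ = b * x * b⁻¹ * (b * y * b⁻¹) by group, map_mul, ex,
            heq (mul_mem E.xL E.yL) h', hself (mul_mem E.xL E.yL)]
        exact hone E.xyZ (quot_eq_one.1 h1)
    refine ⟨hb3 (u := x) ?_ E.xL E.xZ, .inr ⟨hnot, h, ey⟩⟩
    rw [hpi3, ex, map_mul π x y, hconj, heq E.xL ey, ex, map_mul π x y, hcomm,
      mul_assoc (π y) (π x) (π x), hself E.xL, mul_one, hconj1, heq E.xL ey]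

/-- Then `Z` has order two and is central. -/
theorem exc_central : ∀ g : H, g ∈ centralizer (Z : Set H) := by
  classical
  haveI := hL.normal
  haveI := Fact.mk c.rprime
  haveI := Fintype.ofFinite H
  haveI := Fintype.ofFinite M
  -- every stabiliser has a nontrivial part in `C(Z)`
  have hnt : ∀ m : M, m ≠ 1 → ∃ R, NSyl r (MulAction.stabilizer H m) R ∧
      ∃ b ∈ R ⊓ centralizer (Z : Set H), b ≠ 1 := by
    intro m hm
    obtain ⟨R, hR⟩ := c.rsyl m hm
    refine ⟨R, hR, by_contra fun h => E.nc (c.centralised_of_one hZ L hR fun a ha l _ => ?_)⟩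
    push Not at h
    rw [h a ha, one_mul, mul_one]
  let S : Finset H := {b | b ∈ centralizer (Z : Set H) ∧ b ^ 3 = 1 ∧ b ≠ 1}
  have hS : ∀ {b}, b ∈ S → ∃ m : M, m ≠ 1 ∧ ∃ R, NSyl r (MulAction.stabilizer H m) R ∧
      b ∈ R ⊓ centralizer (Z : Set H) := fun {b} hb => by
    simp only [S, Finset.mem_filter, Finset.mem_univ, true_and] at hb
    obtain ⟨m, hm, R, hR, hbR⟩ := c.exists_syl_mem hZ (u := b) (k := 1)
      (by rw [pow_one, E.three]; exact hb.2.1)
    exact ⟨m, hm, R, hR, hbR, hb.1⟩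
  -- `x y` has a lift with square `z₀`
  obtain ⟨w, hwL, hwxy, hw2⟩ : ∃ w ∈ L, (x * y)⁻¹ * w ∈ Z ∧ w ^ 2 = z₀ := by
    obtain ⟨z, hz, h⟩ := c.exists_fourth hZ E.no4 E.z₀Z E.z₀ne E.z₀sq
      (E.exp _ (mul_mem E.xL E.yL))
    have hwL := mul_mem (mul_mem E.xL E.yL) (hL.lt.le hz)
    exact ⟨_, hwL, by rwa [inv_mul_cancel_left],
      c.sq_eq hZ E.no4 E.z₀Z E.z₀ne E.z₀sq (E.exp _ hwL) h (E.noinv _ hwL fun h' =>
        E.xyZ (by simpa using mul_mem h' (inv_mem hz)))⟩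
  have hS8 : S.card ≤ 8 := by
    let f : H → Bool × Bool × Bool := fun b =>
      if y * (b * x * b⁻¹) ∈ Z then (true, decide (b * x * b⁻¹ = y), decide (b * y * b⁻¹ = w))
      else (false, decide (b * x * b⁻¹ = w), decide (b * y * b⁻¹ = x))
    refine le_trans (Finset.card_le_card_of_injOn f (fun _ _ => Finset.mem_univ _) ?_)
      (by simp : (Finset.univ : Finset (Bool × Bool × Bool)).card ≤ 8)
    intro b hb b' hb' e
    obtain ⟨m, hm, R, hR, hbR⟩ := hS hb
    obtain ⟨m', hm', R', hR', hbR'⟩ := hS hb'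
    simp only [S, Finset.coe_filter, Finset.mem_univ, true_and, Set.mem_setOf_eq] at hb hb'
    -- two elements of square `z₀` in a coset
    have two : ∀ {rp u u' : H}, rp ∈ L → rp ^ 2 = z₀ → rp * u ∈ Z → rp * u' ∈ Z → u ^ 2 = z₀ →
        u' ^ 2 = z₀ → decide (u = rp) = decide (u' = rp) → u = u' := by
      intro rp u u' hrp h2 hu hu' hu2 hu2' e
      have key : ∀ {u}, rp * u ∈ Z → u ^ 2 = z₀ → u ≠ rp → u = rp * z₀ := fun {u} hu hu2 hne => by
        obtain ⟨z, hz, rfl⟩ := exc_mod E hrp hu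
        have h1 : z ^ 2 = 1 := by
          rw [(hL.central hZ hz hrp).symm |> fun h : Commute rp z => h.mul_pow 2, h2,
            mul_eq_left] at hu2
          exact hu2
        rw [c.invol_eq hZ hz E.z₀Z (fun h => hne (by rw [h, mul_one])) E.z₀ne h1 E.z₀sq]
      rw [decide_eq_decide] at e
      by_cases h : u = rp
      · rw [h, e.1 h]
      · rw [key hu hu2 h, key hu' hu2' (fun h' => h (e.2 h'))]
    have sq : ∀ {g u : H}, g ∈ centralizer (Z : Set H) → u ^ 2 = z₀ → (g * u * g⁻¹) ^ 2 = z₀ :=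
      fun {g u} hg hu => by
        rw [conj_pow, hu, ← mem_centralizer_iff.1 hg z₀ E.z₀Z, mul_inv_cancel_right]
    have hwZ : ∀ {u}, x * y * u ∈ Z → w * u ∈ Z := fun {u} h => by
      rw [show w * u = x * y * ((x * y)⁻¹ * w) * u by group,
        ← hL.central hZ hwxy (mul_mem E.xL E.yL), mul_assoc]
      exact mul_mem hwxy h
    obtain ⟨-, hc⟩ := c.exc_cycle hZ hL E hm hR hbR hb.2.2
    obtain ⟨-, hc'⟩ := c.exc_cycle hZ hL E hm' hR' hbR' hb'.2.2
    have hxy : b * x * b⁻¹ = b' * x * b'⁻¹ ∧ b * y * b⁻¹ = b' * y * b'⁻¹ := by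
      simp only [f] at e
      rcases hc with ⟨hx1, hy1⟩ | ⟨hx0, hx1, hy1⟩ <;>
        rcases hc' with ⟨hx1', hy1'⟩ | ⟨hx0', hx1', hy1'⟩
      · rw [if_pos hx1, if_pos hx1', Prod.mk.injEq, Prod.mk.injEq] at e
        exact ⟨two E.yL E.y2 hx1 hx1' (sq hb.1 E.x2) (sq hb'.1 E.x2) e.2.1,
          two hwL hw2 (hwZ hy1) (hwZ hy1') (sq hb.1 E.y2) (sq hb'.1 E.y2) e.2.2⟩
      · rw [if_pos hx1, if_neg hx0', Prod.mk.injEq] at e
        exact absurd e.1 (by simp)
      · rw [if_neg hx0, if_pos hx1', Prod.mk.injEq] at e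
        exact absurd e.1 (by simp)
      · rw [if_neg hx0, if_neg hx0', Prod.mk.injEq, Prod.mk.injEq] at e
        exact ⟨two hwL hw2 (hwZ hx1) (hwZ hx1') (sq hb.1 E.x2) (sq hb'.1 E.x2) e.2.1,
          two E.xL E.x2 hy1 hy1' (sq hb.1 E.y2) (sq hb'.1 E.y2) e.2.2⟩
    set u := b'⁻¹ * b with hu
    have huC : u ∈ centralizer (Z : Set H) := mul_mem (inv_mem hb'.1) hb.1
    have hu' : ∀ {l}, b * l * b⁻¹ = b' * l * b'⁻¹ → Commute u l := fun {l} h => by
      have h1 : u * l * u⁻¹ = l := by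
        rw [hu, show b'⁻¹ * b * l * (b'⁻¹ * b)⁻¹ = b'⁻¹ * (b * l * b⁻¹) * b' by group, h]; group
      exact mul_inv_eq_iff_eq_mul.1 h1
    have hul : u ∈ centralizer (L : Set H) := mem_centralizer_iff.2 fun l hl => by
      refine ((?_ : Commute u l)).symm.eq
      rcases exc_cover E E.xL E.yL E.xZ E.yZ E.xyZ hl with h | h | h | h
      · exact (mem_centralizer_iff.1 huC l h).symm
      · obtain ⟨z, hz, rfl⟩ := exc_mod E E.xL h
        exact (hu' hxy.1).mul_right (mem_centralizer_iff.1 huC z hz).symm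
      · obtain ⟨z, hz, rfl⟩ := exc_mod E E.yL h
        exact (hu' hxy.2).mul_right (mem_centralizer_iff.1 huC z hz).symm
      · obtain ⟨z, hz, rfl⟩ := exc_mod E (mul_mem E.xL E.yL) h
        exact ((hu' hxy.1).mul_right (hu' hxy.2)).mul_right
          (mem_centralizer_iff.1 huC z hz).symm
    have hcb := c.exc_comm hZ hL E hm' hR' hbR' ⟨huC, hul⟩
    have hu3 : u ^ 3 = 1 := by
      have h1 : (b' * u) ^ 3 = 1 := by rw [hu, mul_inv_cancel_left]; exact hb.2.1
      rwa [hcb.mul_pow, hb'.2.1, one_mul] at h1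
    obtain ⟨m₁, hm₁, R₁, hR₁, huR⟩ := c.exists_syl_mem hZ (u := u) (k := 1)
      (by rw [pow_one, E.three]; exact hu3)
    have := c.exc_faithful hZ hL E hm₁ hR₁ ⟨huR, huC⟩
      fun l hl => (mem_centralizer_iff.1 hul l hl).symm
    exact (inv_mul_eq_one.1 this).symm
  -- the vectors fixed by an element of order three
  have hW : ∀ {b}, b ∈ S →
      Finset.card {v : M | b • v = v} * Finset.card {v : M | b • v = v} ≤ Nat.card M := by
    intro b hb
    obtain ⟨m, hm, R, hR, hbR⟩ := hS hb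
    simp only [S, Finset.mem_filter, Finset.mem_univ, true_and] at hb
    rw [Nat.card_eq_fintype_card, ← Finset.card_product, ← Finset.card_univ]
    refine Finset.card_le_card_of_injOn (fun p => p.1 * x • p.2) (fun _ _ => Finset.mem_univ _) ?_
    rintro ⟨v, v'⟩ hv ⟨u, u'⟩ hu e
    simp only [Finset.coe_product, Set.mem_prod, Finset.coe_filter, Finset.mem_univ, true_and,
      Set.mem_setOf_eq] at hv hu
    have e' : v * u⁻¹ = x • (u' * v'⁻¹) := by
      rw [smul_mul', smul_inv']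
      rw [mul_inv_eq_iff_eq_mul, mul_assoc, mul_comm (x • v')⁻¹ u, ← mul_assoc,
        eq_mul_inv_iff_mul_eq, mul_comm (x • u') u]
      exact e
    by_cases h1 : v * u⁻¹ = 1
    · have h2 : u' * v'⁻¹ = 1 := eq_one_of_smul_eq_one x (e'.symm.trans h1)
      exact Prod.ext (mul_inv_eq_one.1 h1) (mul_inv_eq_one.1 h2).symm
    exfalso
    obtain ⟨R', hR'⟩ := c.rsyl _ h1
    have hfix : b • (v * u⁻¹) = v * u⁻¹ := by rw [smul_mul', smul_inv', hv.1, hu.1]
    have hfix' : (x * b * x⁻¹) • (v * u⁻¹) = v * u⁻¹ := by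
      rw [e', mul_smul, mul_smul, inv_smul_smul, smul_mul', smul_inv', hu.2, hv.2]
    have hin : ∀ {g : H}, g ^ 3 = 1 → g • (v * u⁻¹) = v * u⁻¹ → g ∈ R' := fun {g} hg hgm => by
      refine hR'.le_of_pgroup (P := zpowers g) (fun ⟨a, i, ha⟩ => ⟨1, Subtype.ext ?_⟩)
        (zpowers_le.2 hgm) (mem_zpowers g)
      subst ha
      show (g ^ i) ^ r ^ 1 = 1
      rw [pow_one, E.three, ← zpow_natCast, ← zpow_mul, mul_comm, zpow_mul, zpow_natCast, hg,
        one_zpow]
    have h3 : x * b * x⁻¹ * b⁻¹ ∈ R' := mul_mem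
      (hin (by rw [conj_pow, hb.2.1, mul_one, mul_inv_cancel]) hfix')
      (inv_mem (hin hb.2.1 hfix))
    have h4 : x * b * x⁻¹ * b⁻¹ ∈ L := by
      rw [mul_assoc, mul_assoc, ← mul_assoc b]
      exact mul_mem E.xL (hL.normal.conj_mem _ (inv_mem E.xL) b)
    obtain ⟨i, hi⟩ := c.rpow hR' h3
    have h5 : x * b * x⁻¹ * b⁻¹ = 1 := orderOf_eq_one_iff.1 (Nat.eq_one_of_dvd_coprimes
      ((c.coprime_layer_r hZ hL).pow_right i) (Subgroup.orderOf_dvd_natCard L h4)
      (orderOf_dvd_of_pow_eq_one hi))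
    have h6 : x * b = b * x := mul_inv_eq_iff_eq_mul.1 (mul_inv_eq_one.1 h5)
    obtain ⟨i', hi'⟩ := c.rpow hR hbR.1
    refine hb.2.2 (c.exc_faithful hZ hL E hm hR hbR
      (c.exc_fix hZ hL E hb.1 hi' E.xL E.xZ ?_))
    rw [← h6, mul_inv_cancel_right, mul_inv_cancel]
    exact one_mem _
  -- counting
  choose! Rv hRv bv hbv hbv1 using hnt
  have hbvS : ∀ v : M, v ≠ 1 → bv v ∈ S := fun v hv => by
    simp only [S, Finset.mem_filter, Finset.mem_univ, true_and]
    exact ⟨(hbv v hv).2, (c.exc_cycle hZ hL E hv (hRv v hv) (hbv v hv) (hbv1 v hv)).1, hbv1 v hv⟩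
  set k := Nat.sqrt (Nat.card M) with hk
  have hcount : 2 * (Nat.card M - 1) ≤ 8 * (k - 1) := by
    let T : Finset (Σ _ : H, M) := S.sigma fun b => ({v : M | b • v = v} : Finset M).erase 1
    have h1 : (((Finset.univ : Finset M).erase 1) ×ˢ (Finset.univ : Finset Bool)).card ≤ T.card := by
      refine Finset.card_le_card_of_injOn
        (fun p => ⟨if p.2 then bv p.1 else (bv p.1)⁻¹, p.1⟩) ?_ ?_
      · rintro ⟨v, e⟩ hp
        simp only [Finset.coe_product, Set.mem_prod, Finset.coe_erase, Set.mem_diff,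
          Set.mem_singleton_iff] at hp
        have hv : v ≠ 1 := hp.1.2
        have hfix : bv v • v = v := (hRv v hv).le (hbv v hv).1
        have hmemS := hbvS v hv
        simp only [S, Finset.mem_filter, Finset.mem_univ, true_and] at hmemS
        cases e
        · simp only [T, S, Finset.coe_sigma, Set.mem_sigma_iff, Bool.false_eq_true, if_false,
            Finset.mem_coe, Finset.mem_filter, Finset.mem_univ, true_and, Finset.mem_erase]
          exact ⟨⟨inv_mem hmemS.1, by rw [inv_pow, hmemS.2.1, inv_one],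
            fun h => hmemS.2.2 (inv_eq_one.1 h)⟩, hv, inv_smul_eq_iff.2 hfix.symm⟩
        · simp only [T, S, Finset.coe_sigma, Set.mem_sigma_iff, if_true,
            Finset.mem_coe, Finset.mem_filter, Finset.mem_univ, true_and, Finset.mem_erase]
          exact ⟨hmemS, hv, hfix⟩
      · rintro ⟨v, e⟩ hp ⟨v', e'⟩ _ h
        simp only [Sigma.mk.injEq, heq_eq_eq] at h
        obtain ⟨h1, rfl⟩ := h
        simp only [Finset.coe_product, Set.mem_prod, Finset.coe_erase, Set.mem_diff,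
          Set.mem_singleton_iff] at hp
        have hmemS := hbvS v hp.1.2
        simp only [S, Finset.mem_filter, Finset.mem_univ, true_and] at hmemS
        have hne : bv v ≠ (bv v)⁻¹ := fun h => hmemS.2.2 (by
          have h2 : bv v ^ 2 = 1 := by rw [pow_two]; exact eq_inv_iff_mul_eq_one.1 h
          simpa [pow_succ _ 2, h2] using hmemS.2.1)
        cases e <;> cases e' <;> simp_all
    have h2 : T.card ≤ S.card * (k - 1) := by
      rw [Finset.card_sigma]
      refine (Finset.sum_le_card_nsmul _ _ _ fun b hb => ?_).trans (by rw [smul_eq_mul])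
      rw [Finset.card_erase_of_mem (by simp)]
      exact Nat.sub_le_sub_right (Nat.le_sqrt.2 (hW hb)) 1
    rw [Finset.card_product, Finset.card_erase_of_mem (Finset.mem_univ _), Finset.card_univ,
      ← Nat.card_eq_fintype_card, Finset.card_univ, Fintype.card_bool, mul_comm] at h1
    exact h1.trans (h2.trans (Nat.mul_le_mul_right _ hS8))
  -- the order of `M` is nine
  obtain ⟨m₀, hm₀⟩ := c.nontriv
  have hodd : ¬ 2 ∣ Nat.card M := by
    intro h
    obtain ⟨a, ha⟩ := c.card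
    rw [ha] at h
    have ht : 2 = t := (Nat.prime_dvd_prime_iff_eq Nat.prime_two c.tprime).1
      (Nat.prime_two.dvd_of_dvd_pow h)
    have h2 : 2 ∣ Nat.card L := by
      rw [← orderOf_eq_prime E.z₀sq E.z₀ne]
      exact Subgroup.orderOf_dvd_natCard L (hL.lt.le E.z₀Z)
    exact (by norm_num : ¬ (2 : ℕ) = 1)
      (Nat.eq_one_of_dvd_coprimes (ht ▸ c.coprime_layer_t hZ hL) h2 dvd_rfl)
  have hk1 : k * k ≤ Nat.card M := Nat.sqrt_le _
  have hk2 : 3 ≤ k := by
    refine Nat.le_sqrt.2 ?_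
    have hb := hbvS m₀ hm₀
    have hfix : bv m₀ • m₀ = m₀ := (hRv m₀ hm₀).le (hbv m₀ hm₀).1
    refine le_trans (Nat.mul_le_mul ?_ ?_) (hW hb) <;>
    · let Wb : Subgroup M := fx (zpowers (bv m₀))
      have hWb : Finset.card ({v : M | bv m₀ • v = v} : Finset M) = Nat.card Wb := by
        rw [← Fintype.card_subtype, ← Nat.card_eq_fintype_card]
        refine Nat.card_congr (Equiv.subtypeEquivRight fun v => ⟨fun h g hg => ?_, fun h => ?_⟩)
        · exact (zpowers_le.2 (show bv m₀ ∈ MulAction.stabilizer H v from h)) hg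
        · exact h _ (mem_zpowers _)
      have h1 : 1 < Finset.card ({v : M | bv m₀ • v = v} : Finset M) :=
        Finset.one_lt_card.2 ⟨1, by simp, m₀, by simp [hfix], hm₀.symm⟩
      have h2 : Finset.card ({v : M | bv m₀ • v = v} : Finset M) ∣ Nat.card M :=
        hWb ▸ Subgroup.card_subgroup_dvd_card Wb
      by_contra h3
      have : Finset.card ({v : M | bv m₀ • v = v} : Finset M) = 2 := by omega
      exact hodd (this ▸ h2)
  have hcard9 : Nat.card M = 9 := by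
    have h1 : k ≤ 3 := by
      by_contra h
      nlinarith [Nat.sub_add_cancel (show 1 ≤ k by omega),
        Nat.sub_add_cancel (show 1 ≤ Nat.card M from Nat.card_pos)]
    have h3 : k = 3 := by omega
    rw [h3] at hcount hk1
    omega
  -- only the involution
  have hZ2 : ∀ z ∈ Z, z ≠ 1 → z = z₀ := by
    intro z hz hz1
    have hdvd : ∀ (p : ℕ), p.Prime → p ∣ orderOf z → p = 2 := by
      intro p hp hpd
      haveI := Fact.mk hp
      set g := z ^ (orderOf z / p) with hg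
      have hgp : orderOf g = p := orderOf_pow_orderOf_div (orderOf_pos z).ne' hpd
      have hgZ : g ∈ Z := pow_mem hz _
      have hP : IsPGroup p (zpowers g) := IsPGroup.of_card (n := 1) (by
        rw [Nat.card_zpowers, hgp, pow_one])
      have hm : Nat.card M ≡ Nat.card (MulAction.fixedPoints (zpowers g) M) [MOD p] :=
        hP.card_modEq_card_fixedPoints M
      have h1 : Nat.card (MulAction.fixedPoints (zpowers g) M) = 1 := by
        rw [Nat.card_eq_one_iff_unique]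
        refine ⟨⟨fun a b => Subtype.ext ?_⟩, ⟨⟨1, fun n => smul_one (n : H)⟩⟩⟩
        have key : ∀ a : MulAction.fixedPoints (zpowers g) M, (a : M) = 1 := fun a =>
          by_contra fun ha => hp.ne_one (by
            rw [← hgp, c.semiregular Z hZ.comm hgZ ha (a.2 ⟨g, mem_zpowers g⟩), orderOf_one])
        rw [key a, key b]
      rw [hcard9, h1] at hm
      have h8 : p ∣ 8 := by
        have := (Nat.modEq_iff_dvd' (by norm_num : 1 ≤ 9)).1 hm.symm
        simpa using this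
      have : p ∣ 2 ^ 3 := by norm_num; exact h8
      exact (Nat.prime_dvd_prime_iff_eq hp Nat.prime_two).1 (hp.dvd_of_dvd_pow this)
    have hz2 : z ^ 2 = 1 := by
      obtain ⟨i, hi⟩ : ∃ i, orderOf z = 2 ^ i :=
        ⟨_, Nat.eq_prime_pow_of_unique_prime_dvd (orderOf_pos z).ne' fun {d} hd hdd => hdvd d hd hdd⟩
      refine orderOf_dvd_iff_pow_eq_one.1 (hi ▸ ?_)
      rcases Nat.lt_or_ge i 2 with h | h
      · exact (Nat.pow_dvd_pow 2 (show i ≤ 1 by omega)).trans (by norm_num)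
      · refine absurd ?_ E.no4
        have := Subgroup.orderOf_dvd_natCard Z hz
        rw [hi] at this
        exact (Nat.pow_dvd_pow 2 h).trans this
    exact c.invol_eq hZ hz E.z₀Z hz1 E.z₀ne hz2 E.z₀sq
  intro g
  refine mem_centralizer_iff.2 fun z hz => ?_
  by_cases h1 : z = 1
  · rw [h1, one_mul, mul_one]
  · have h2 : g * z * g⁻¹ = z := by
      rw [hZ2 z hz h1]
      exact hZ2 _ (hZ.normal.conj_mem _ E.z₀Z g) fun h => E.z₀ne (conj_eq_one_iff.1 h)
    exact (mul_inv_eq_iff_eq_mul.1 h2).symm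

end Hyp

namespace Hyp

variable (c : Hyp H M q r t) {Z : Subgroup H} (hZ : MaxAb Z)

include c hZ

variable [Finite H] [Finite M]

/-- Either a layer is centralised or `r` is three and `Z` is central. -/
theorem centralised_or {L : Subgroup H} (hL : Layer Z L) :
    Centralised M r Z L ∨ r = 3 ∧ ∀ g : H, g ∈ centralizer (Z : Set H) := by
  haveI := c.solvable
  haveI := hZ.normal
  obtain ⟨s, hs, hexp⟩ := hL.exists_prime hZ
  by_cases hreg : s = 2 → 4 ∣ Nat.card Z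
  · exact .inl (c.centralised_of_regular hZ hL hs hexp hreg)
  push Not at hreg
  obtain ⟨rfl, h4⟩ := hreg
  by_cases hc : Centralised M r Z L
  · exact .inl hc
  obtain ⟨z₀, x, y, E⟩ := c.exists_exc hZ hL hexp h4 hc
  exact .inr ⟨E.three, c.exc_central hZ hL E⟩

/-- All layers are centralised. -/
theorem all_centralised {L : Subgroup H} (hL : Layer Z L) : Centralised M r Z L := by
  refine (c.centralised_or hZ hL).resolve_right fun ⟨hr, hcen⟩ => ?_
  obtain ⟨m, hm⟩ := c.nontriv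
  obtain ⟨Q, hQ⟩ := c.qsyl m hm
  refine hQ.ne_bot c.qprime c.qdvd (eq_bot_iff.2 fun a ha => mem_bot.2 ?_)
  refine c.symm.eq_one_of_all_centralised hZ (fun L' hL' => ?_) hm hQ ⟨ha, hcen a⟩
  exact (c.symm.centralised_or hZ hL').resolve_right fun ⟨hq, _⟩ => c.qr (hq.trans hr.symm)

/-- The prime `r` does not divide the order of the centraliser of `Z`. -/
theorem not_dvd_centralizer : ¬ r ∣ Nat.card (centralizer (Z : Set H)) := by
  intro h
  haveI := Fact.mk c.rprime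
  obtain ⟨u, hu⟩ := exists_prime_orderOf_dvd_card' r h
  have hu' : (u : H) ^ r ^ 1 = 1 := by
    rw [pow_one, ← Subgroup.coe_pow, ← hu, pow_orderOf_eq_one, Subgroup.coe_one]
  obtain ⟨m, hm, R, hR, huR⟩ := c.exists_syl_mem hZ hu'
  have h1 := c.eq_one_of_all_centralised hZ (fun L hL => c.all_centralised hZ hL) hm hR ⟨huR, u.2⟩
  rw [← Subgroup.orderOf_coe, h1, orderOf_one] at hu
  exact c.rprime.ne_one hu.symm

end Hyp

end CfsgLib.CharDeep.Palfy
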