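import Cfsg.Agent.Lib.CharDeep.Palfy.CaseCoprime
import Cfsg.Agent.Lib.CharDeep.Palfy.CasePGroup

/-!
# Pálfy's theorem: no three pairwise non-adjacent primes
-/

set_option autoImplicit false

namespace CfsgLib.CharDeep.Palfy

open Subgroup CfsgLib

universe u

/-- One prime missing from a quotient by a minimal normal subgroup gives a contradiction. -/
theorem no_three_of_missing {G : Type u} [Group G] [Finite G] [Group.IsSolvable G] {p q r : ℕ}
    (hp : p.Prime) (hq : q.Prime) (hr : r.Prime) (hpq : p ≠ q) (hpr : p ≠ r) (hqr : q ≠ r)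
    (npq : NoDeg G (p * q)) (npr : NoDeg G (p * r)) (nqr : NoDeg G (q * r)) (rp : ¬ NoDeg G p)
    (rq : ¬ NoDeg G q) (rr : ¬ NoDeg G r) {N : Subgroup G} [N.Normal] (hN : N ≠ ⊥)
    (hmin : ∀ A : Subgroup G, A.Normal → A ≤ N → A = ⊥ ∨ A = N)
    (hquot : NoDeg (G ⧸ N) p) : False := by
  obtain ⟨hc, t, ht, -, htg⟩ := CfsgLib.Solvable.Basic.minimal_normal_solvable N hN hmin
  haveI := Fact.mk ht
  obtain ⟨a, ha⟩ := htg.exists_card_eq
  by_cases htp : t = p
  · subst htp
    exact case_pgroup hp hq hr hpq hpr hqr npq npr nqr rp rq rr hN hmin ⟨a, ha⟩ hquot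
  · exact case_coprime hp hq hr hpq hpr hqr npq npr nqr rp rq rr hN hmin
      (CfsgLib.Solvable.Basic.isMulCommutative_subgroup_iff.1 hc) ht ⟨a, ha⟩ htp hquot

/-- A finite solvable group has no three primes in its degrees, no two with product dividing a
degree. -/
theorem no_three : ∀ (n : ℕ) {G : Type u} [Group G] [Finite G] [Group.IsSolvable G],
    Nat.card G = n → ∀ {p q r : ℕ}, p.Prime → q.Prime → r.Prime → p ≠ q → p ≠ r → q ≠ r →
    ¬ NoDeg G p → ¬ NoDeg G q → ¬ NoDeg G r → NoDeg G (p * q) → NoDeg G (p * r) →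
    NoDeg G (q * r) → False := by
  intro n
  induction n using Nat.strong_induction_on with
  | _ n ih =>
  intro G _ _ _ hn p q r hp hq hr hpq hpr hqr rp rq rr npq npr nqr
  have htop : (⊤ : Subgroup G) ≠ ⊥ := fun e => rp (noDeg_of_abelian (⊤ : Subgroup G)
    (fun a ha b hb => by rw [e, mem_bot] at ha hb; rw [ha, hb])
    (by rw [index_top]; exact hp.not_dvd_one))
  obtain ⟨N, hNn, hN, -, hmin⟩ := CfsgLib.Solvable.Basic.exists_minimal_normal_le htop
  haveI := hNn
  by_cases h1 : NoDeg (G ⧸ N) p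
  · exact no_three_of_missing hp hq hr hpq hpr hqr npq npr nqr rp rq rr hN hmin h1
  by_cases h2 : NoDeg (G ⧸ N) q
  · exact no_three_of_missing hq hp hr hpq.symm hqr hpr (mul_comm p q ▸ npq) nqr npr rq rp rr
      hN hmin h2
  by_cases h3 : NoDeg (G ⧸ N) r
  · exact no_three_of_missing hr hp hq hpr.symm hqr.symm hpq (mul_comm p r ▸ npr)
      (mul_comm q r ▸ nqr) npq rr rp rq hN hmin h3
  exact ih _ (hn ▸ CfsgLib.Solvable.Basic.card_quotient_lt N hN) rfl hp hq hr hpq hpr hqr h1 h2 h3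
    (npq.quotient N) (npr.quotient N) (nqr.quotient N)

end CfsgLib.CharDeep.Palfy
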