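import Cfsg.Agent.Lib.Solvable.Cores
import Mathlib.GroupTheory.SpecificGroups.Cyclic
import Mathlib.GroupTheory.GroupAction.Quotient
import Mathlib.Algebra.BigOperators.GroupWithZero.Action

/-!
# Modules in which every vector stabiliser has normal abelian Sylow subgroups for two primes

Setting of the main lemma in Pálfy's theorem on three primes of the degree graph: a group `H` acts
faithfully and irreducibly on an abelian `t`-group `M`, and for the primes `q`, `r` the stabiliser
of each non-identity vector contains, as normal subgroups, abelian Sylow subgroups of `H`.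
Here: abelian normal subgroups act semiregularly and are cyclic.
-/

set_option autoImplicit false

namespace CfsgLib.CharDeep.Palfy

open Subgroup

/-- `Q` is a normal subgroup of `S`, abelian, and a Sylow `q`-subgroup of the whole group. -/
structure NSyl {H : Type*} [Group H] (q : ℕ) (S Q : Subgroup H) : Prop where
  le : Q ≤ S
  card : Nat.card Q = q ^ (Nat.card H).factorization q
  comm : ∀ a ∈ Q, ∀ b ∈ Q, a * b = b * a
  norm : S ≤ normalizer (Q : Set H)

namespace NSyl

variable {H : Type*} [Group H] {q : ℕ} {S Q Q' : Subgroup H}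

theorem isPGroup (h : NSyl q S Q) : IsPGroup q Q := IsPGroup.of_card h.card

theorem le_of_pgroup [Finite H] [Fact q.Prime] (h : NSyl q S Q) {P : Subgroup H}
    (hP : IsPGroup q P) (hPS : P ≤ S) : P ≤ Q := by
  have hsup : IsPGroup q (P ⊔ Q : Subgroup H) :=
    IsPGroup.to_sup_of_normal_right' hP h.isPGroup (hPS.trans h.norm)
  have e : Q = P ⊔ Q := by
    refine Subgroup.eq_of_le_of_card_ge le_sup_right ?_
    obtain ⟨k, hk⟩ := hsup.exists_card_eq
    rw [h.card, hk]
    exact Nat.pow_le_pow_right (Fact.out : q.Prime).one_lt.le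
      ((Nat.Prime.pow_dvd_iff_le_factorization Fact.out Nat.card_pos.ne').1
        (hk ▸ card_subgroup_dvd_card _))
  rw [e]
  exact le_sup_left

theorem unique [Finite H] [Fact q.Prime] (h : NSyl q S Q) (h' : NSyl q S Q') : Q' = Q :=
  le_antisymm (h.le_of_pgroup h'.isPGroup h'.le) (h'.le_of_pgroup h.isPGroup h.le)

theorem ne_bot [Finite H] (h : NSyl q S Q) (hq : q.Prime) (hd : q ∣ Nat.card H) : Q ≠ ⊥ := by
  intro e
  have h1 := h.card
  rw [e, Subgroup.card_bot] at h1
  have h2 := hq.factorization_pos_of_dvd Nat.card_pos.ne' hd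
  have h3 := Nat.one_lt_pow h2.ne' hq.one_lt
  omega

end NSyl

variable {H M : Type*} [Group H] [CommGroup M] [MulDistribMulAction H M]

/-- The vectors fixed by a subgroup. -/
def fx (K : Subgroup H) : Subgroup M where
  carrier := {m | ∀ k ∈ K, k • m = m}
  one_mem' := fun k _ => smul_one k
  mul_mem' := fun {a b} ha hb k hk => by rw [smul_mul', ha k hk, hb k hk]
  inv_mem' := fun {a} ha k hk => by rw [smul_inv', ha k hk]

theorem mem_fx {K : Subgroup H} {m : M} : m ∈ fx K ↔ ∀ k ∈ K, k • m = m := Iff.rfl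

theorem fx_anti {K K' : Subgroup H} (h : K ≤ K') : (fx K' : Subgroup M) ≤ fx K :=
  fun _ hm k hk => hm k (h hk)

theorem eq_one_of_smul_eq_one {m : M} (h : H) (e : h • m = 1) : m = 1 := by
  rw [← inv_smul_smul h m, e, smul_one]

theorem smul_mem_fx {K K' : Subgroup H} {h : H} {m : M} (hm : m ∈ fx K)
    (hK : ∀ k ∈ K', h⁻¹ * k * h ∈ K) : h • m ∈ fx K' := fun k hk => by
  conv_rhs => rw [← hm _ (hK k hk)]
  rw [← mul_smul, ← mul_smul]
  congr 1
  group

section norm

variable [Finite H]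

/-- The product over the elements of `K`. -/
noncomputable def nrm (K : Subgroup H) (m : M) : M :=
  letI := Fintype.ofFinite K
  ∏ k : K, (k : H) • m

theorem nrm_mul (K : Subgroup H) (a b : M) : nrm K (a * b) = nrm K a * nrm K b := by
  simp only [nrm, smul_mul', Finset.prod_mul_distrib]

theorem nrm_of_mem {K : Subgroup H} {m : M} (hm : m ∈ fx K) : nrm K m = m ^ Nat.card K := by
  letI := Fintype.ofFinite K
  simp only [nrm]
  rw [Finset.prod_congr rfl (fun k _ => hm _ k.2), Finset.prod_const, Finset.card_univ,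
    Nat.card_eq_fintype_card]

theorem smul_nrm_self {K : Subgroup H} (m : M) : nrm K m ∈ fx K := fun k hk => by
  letI := Fintype.ofFinite K
  simp only [nrm]
  rw [Finset.smul_prod']
  refine Fintype.prod_equiv (Equiv.mulLeft ⟨k, hk⟩) _ _ fun x => ?_
  simp [mul_smul]

theorem nrm_mem_fx {K K' : Subgroup H} {m : M} (hm : m ∈ fx K')
    (hcomm : ∀ a ∈ K, ∀ b ∈ K', a * b = b * a) : nrm K m ∈ fx K' := by
  letI := Fintype.ofFinite K
  refine Subgroup.prod_mem _ fun k _ => fun b hb => ?_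
  rw [← mul_smul, ← hcomm _ k.2 b hb, mul_smul, hm b hb]

end norm

/-- The hypothesis of the main lemma. -/
structure Hyp (H M : Type*) [Group H] [CommGroup M] [MulDistribMulAction H M] (q r t : ℕ) :
    Prop where
  solvable : Group.IsSolvable H
  tprime : t.Prime
  qprime : q.Prime
  rprime : r.Prime
  qr : q ≠ r
  card : ∃ a : ℕ, Nat.card M = t ^ a
  nontriv : ∃ m : M, m ≠ 1
  faithful : ∀ h : H, (∀ m : M, h • m = m) → h = 1
  irred : ∀ W : Subgroup M, (∀ h : H, ∀ w ∈ W, h • w ∈ W) → W = ⊥ ∨ W = ⊤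
  qdvd : q ∣ Nat.card H
  rdvd : r ∣ Nat.card H
  qsyl : ∀ m : M, m ≠ 1 → ∃ Q, NSyl q (MulAction.stabilizer H m) Q
  rsyl : ∀ m : M, m ≠ 1 → ∃ R, NSyl r (MulAction.stabilizer H m) R

namespace Hyp

variable {q r t : ℕ} (c : Hyp H M q r t)

include c

theorem symm : Hyp H M r q t where
  solvable := c.solvable
  tprime := c.tprime
  qprime := c.rprime
  rprime := c.qprime
  qr := c.qr.symm
  card := c.card
  nontriv := c.nontriv
  faithful := c.faithful
  irred := c.irred
  qdvd := c.rdvd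
  rdvd := c.qdvd
  qsyl := c.rsyl
  rsyl := c.qsyl

variable [Finite H] [Finite M]

/-- A nontrivial invariant family of vectors generates everything. -/
theorem eq_one_of_fix {S : Set M} (hne : ∃ m ∈ S, m ≠ 1) (hinv : ∀ h : H, ∀ m ∈ S, h • m ∈ S)
    {x : H} (hx : ∀ m ∈ S, x • m = m) : x = 1 := by
  have hW : ∀ h : H, ∀ w ∈ closure S, h • w ∈ closure S := fun h w hw => by
    induction hw using closure_induction with
    | mem v hv => exact subset_closure (hinv h v hv)
    | one => rw [smul_one]; exact one_mem _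
    | mul a b _ _ ha hb => rw [smul_mul']; exact mul_mem ha hb
    | inv a _ ha => rw [smul_inv']; exact inv_mem ha
  rcases c.irred _ hW with e | e
  · obtain ⟨m, hm, h1⟩ := hne
    exact absurd (Subgroup.mem_bot.1 (e ▸ subset_closure hm)) h1
  · refine c.faithful x fun m => ?_
    have hm : m ∈ closure S := e ▸ mem_top m
    induction hm using closure_induction with
    | mem v hv => exact hx v hv
    | one => exact smul_one x
    | mul a b _ _ ha hb => rw [smul_mul', ha, hb]
    | inv a _ ha => rw [smul_inv', ha]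

omit [Finite H] in
theorem pow_injective {n : ℕ} (hn : n.Coprime t) {a b : M} (h : a ^ n = b ^ n) : a = b := by
  obtain ⟨k, hk⟩ := c.card
  exact (powCoprime (hk ▸ (hn.pow_right k).symm)).injective h

omit [Finite M] in
theorem coprime_card {K B : Subgroup H} (hKB : K ≤ B) (hB : (Nat.card B).Coprime t) :
    (Nat.card K).Coprime t :=
  hB.coprime_dvd_left (card_dvd_of_le hKB)

/-- A normal subgroup of `t`-power order is trivial. -/
theorem eq_bot_of_normal_tgroup (N : Subgroup H) [N.Normal] (hN : IsPGroup t N) : N = ⊥ := by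
  haveI := Fact.mk c.tprime
  obtain ⟨a, ha⟩ := c.card
  haveI : Finite M := inferInstance
  obtain ⟨m₀, hm₀⟩ := c.nontriv
  haveI : Nontrivial M := ⟨⟨m₀, 1, hm₀⟩⟩
  have hdvd : t ∣ Nat.card M := by
    rcases a with _ | a
    · rw [pow_zero] at ha; exact absurd ha (Finite.one_lt_card (α := M)).ne'
    · rw [ha]; exact dvd_pow_self t a.succ_ne_zero
  obtain ⟨m, hm, hm1⟩ := hN.exists_fixed_point_of_prime_dvd_card_of_fixed_point M hdvd
    (show (1 : M) ∈ MulAction.fixedPoints N M from fun n => smul_one (n : H))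
  refine eq_bot_iff.2 fun x hx => ?_
  refine mem_bot.2 (c.eq_one_of_fix (S := {v : M | ∀ n ∈ N, n • v = v})
    ⟨m, fun n hn => hm ⟨n, hn⟩, hm1.symm⟩
    (fun h v hv n hn => ?_) (fun v hv => hv x hx))
  conv_rhs => rw [← hv _ (Subgroup.Normal.conj_mem' inferInstance n hn h)]
  rw [← mul_smul, ← mul_smul]
  congr 1
  group

/-- A normal subgroup of `r`-power order is trivial. -/
theorem eq_bot_of_normal_rgroup (N : Subgroup H) [N.Normal] (hN : IsPGroup r N) : N = ⊥ := by
  haveI := Fact.mk c.rprime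
  refine eq_bot_iff.2 fun x hx => mem_bot.2 (c.faithful x fun m => ?_)
  by_cases hm : m = 1
  · rw [hm, smul_one]
  obtain ⟨R, hR⟩ := c.rsyl m hm
  obtain ⟨P⟩ : Nonempty (Sylow r H) := inferInstance
  have hR' : R ≤ R ⊔ N := le_sup_left
  have hsup : IsPGroup r (R ⊔ N : Subgroup H) := IsPGroup.to_sup_of_normal_right hR.isPGroup hN
  have e : R = R ⊔ N := by
    refine Subgroup.eq_of_le_of_card_ge le_sup_left ?_
    obtain ⟨k, hk⟩ := hsup.exists_card_eq
    rw [hR.card, hk]
    exact Nat.pow_le_pow_right c.rprime.one_lt.le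
      ((c.rprime.pow_dvd_iff_le_factorization Nat.card_pos.ne').1
        (hk ▸ card_subgroup_dvd_card _))
  exact hR.le (e ▸ mem_sup_right hx)

/-- Abelian normal subgroups have order prime to `t`. -/
theorem coprime_of_abelian (B : Subgroup H) [hB : B.Normal]
    (hab : ∀ a ∈ B, ∀ b ∈ B, a * b = b * a) : (Nat.card B).Coprime t := by
  haveI := Fact.mk c.tprime
  refine ((c.tprime.coprime_iff_not_dvd).2 fun hd => ?_).symm
  let T : Subgroup H :=
    { carrier := {x | x ∈ B ∧ ∃ k : ℕ, x ^ t ^ k = 1}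
      one_mem' := ⟨one_mem _, 0, one_pow _⟩
      mul_mem' := by
        rintro a b ⟨ha, k, hk⟩ ⟨hb, l, hl⟩
        refine ⟨mul_mem ha hb, k + l, ?_⟩
        rw [(show Commute a b from hab a ha b hb).mul_pow, pow_add, pow_mul, hk, one_pow, one_mul,
          mul_comm, pow_mul, hl, one_pow]
      inv_mem' := by
        rintro a ⟨ha, k, hk⟩
        exact ⟨inv_mem ha, k, by rw [inv_pow, hk, inv_one]⟩ }
  haveI : T.Normal := ⟨fun x ⟨hx, k, hk⟩ g => ⟨hB.conj_mem x hx g, k, by
    rw [conj_pow, hk, mul_one, mul_inv_cancel]⟩⟩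
  have hT : IsPGroup t T := fun x => by
    obtain ⟨k, hk⟩ := x.2.2
    exact ⟨k, Subtype.ext (by simpa using hk)⟩
  obtain ⟨y, hy⟩ := exists_prime_orderOf_dvd_card' t hd
  have : (y : H) ∈ T := ⟨y.2, 1, by
    rw [pow_one, ← Subgroup.coe_pow, ← hy, pow_orderOf_eq_one, Subgroup.coe_one]⟩
  rw [c.eq_bot_of_normal_tgroup T hT, mem_bot, OneMemClass.coe_eq_one] at this
  rw [this, orderOf_one] at hy
  exact c.tprime.ne_one hy.symm

omit c [Finite M] in
/-- The maximal subgroups of `B` with fixed vectors. -/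
private def maxFix (M : Type*) [CommGroup M] [MulDistribMulAction H M] (B K : Subgroup H) : Prop :=
  Maximal (fun K : Subgroup H => K ≤ B ∧ ∃ m ∈ (fx K : Subgroup M), m ≠ 1) K

/-- Projection kills the vectors fixed by another maximal subgroup. -/
private theorem nrm_eq_one {B K K' : Subgroup H} (hab : ∀ a ∈ B, ∀ b ∈ B, a * b = b * a)
    (hK : maxFix M B K) (hK' : maxFix M B K') (hne : K ≠ K') {m : M} (hm : m ∈ fx K') :
    nrm K m = 1 := by
  by_contra h1
  have h2 : nrm K m ∈ fx (K ⊔ K') := by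
    intro x hx
    have hle : K ⊔ K' ≤ MulAction.stabilizer H (nrm K m) := sup_le
      (fun k hk => smul_nrm_self m k hk)
      (fun k hk => nrm_mem_fx hm (fun a ha b hb => hab a (hK.prop.1 ha) b (hK'.prop.1 hb)) k hk)
    exact hle hx
  have e : K ⊔ K' ≤ K := hK.le_of_ge ⟨sup_le hK.prop.1 hK'.prop.1, _, h2, h1⟩ le_sup_left
  have e' : K ⊔ K' ≤ K' := hK'.le_of_ge ⟨sup_le hK.prop.1 hK'.prop.1, _, h2, h1⟩ le_sup_right
  exact hne (le_antisymm (le_sup_left.trans e') (le_sup_right.trans e))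

omit c [Finite M] in
/-- Conjugation permutes the maximal subgroups with fixed vectors. -/
private theorem maxFix_map {B K : Subgroup H} [hB : B.Normal] (hK : maxFix M B K) (y : H) :
    maxFix M B (K.map (MulAut.conj y).toMonoidHom) ∧
      ∀ v ∈ (fx K : Subgroup M), y • v ∈ fx (K.map (MulAut.conj y).toMonoidHom) := by
  have hmv : ∀ (g : H) {L : Subgroup H}, ∀ v ∈ (fx L : Subgroup M),
      g • v ∈ fx (L.map (MulAut.conj g).toMonoidHom) := fun g L v hv =>
    smul_mem_fx hv (by rintro _ ⟨z, hz, rfl⟩; simpa [mul_assoc] using hz)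
  refine ⟨⟨⟨?_, ?_⟩, ?_⟩, hmv y⟩
  · rintro _ ⟨z, hz, rfl⟩; exact hB.conj_mem z (hK.prop.1 hz) y
  · obtain ⟨v, hv, hv1⟩ := hK.prop.2
    exact ⟨y • v, hmv y v hv, fun e => hv1 (eq_one_of_smul_eq_one y e)⟩
  · rintro L ⟨hLB, w, hw, hw1⟩ hKL z hz
    have h2 := hK.le_of_ge (y := L.map (MulAut.conj y⁻¹).toMonoidHom)
      ⟨by rintro _ ⟨u, hu, rfl⟩; exact hB.conj_mem u (hLB hu) y⁻¹, y⁻¹ • w,
        hmv y⁻¹ w hw, fun e => hw1 (eq_one_of_smul_eq_one _ e)⟩
      (fun u hu => ⟨y * u * y⁻¹, hKL ⟨u, hu, rfl⟩, by simp [mul_assoc]⟩)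
      ⟨z, hz, rfl⟩
    exact ⟨_, h2, by simp [mul_assoc]⟩

/-- An abelian normal subgroup acts semiregularly on the non-identity vectors. -/
theorem semiregular (B : Subgroup H) [hB : B.Normal] (hab : ∀ a ∈ B, ∀ b ∈ B, a * b = b * a)
    {b : H} (hb : b ∈ B) {m : M} (hm : m ≠ 1) (hfix : b • m = m) : b = 1 := by
  haveI := Fact.mk c.rprime
  -- without loss `r` is odd
  wlog hr2 : r ≠ 2 generalizing q r with IH
  · push Not at hr2
    haveI := Fact.mk c.qprime
    exact IH c.symm (Fact.mk c.qprime) (fun e => c.qr (e.trans hr2.symm))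
  have hcopB := c.coprime_of_abelian B hab
  have hcop : ∀ {K : Subgroup H}, maxFix M B K → (Nat.card K).Coprime t :=
    fun hK => c.coprime_card hK.prop.1 hcopB
  obtain ⟨K₁, hle₁, hK₁⟩ := Finite.exists_le_maximal
    (p := fun K : Subgroup H => K ≤ B ∧ ∃ v ∈ (fx K : Subgroup M), v ≠ 1)
    (a := zpowers b) ⟨zpowers_le.2 hb, m, fun k hk =>
      (zpowers_le.2 (show b ∈ MulAction.stabilizer H m from hfix)) hk, hm⟩
  by_contra hb1
  obtain ⟨K₂, hK₂, hK₁₂⟩ : ∃ K₂, maxFix M B K₂ ∧ K₁ ≠ K₂ := by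
    by_contra hall
    push Not at hall
    obtain ⟨v, hv, hv1⟩ := hK₁.prop.2
    refine hb1 (c.eq_one_of_fix (S := (fx K₁ : Subgroup M)) ⟨v, hv, hv1⟩
      (fun h w hw => ?_) fun w hw => hw b (hle₁ (mem_zpowers b)))
    have h1 := maxFix_map (M := M) hK₁ h
    rw [← hall _ h1.1] at h1
    exact h1.2 w hw
  -- vectors in different components have the same Sylow subgroup
  have key : ∀ {A A' : Subgroup H}, maxFix M B A → maxFix M B A' → A ≠ A' →
      ∀ {a a' : M}, a ∈ fx A → a' ∈ fx A' → a ≠ 1 →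
      ∀ {R : Subgroup H}, NSyl r (MulAction.stabilizer H (a * a')) R →
      R ≤ MulAction.stabilizer H a := by
    intro A A' hA hA' hAA a a' ha ha' ha1 R hR x hx
    have hmove : ∀ y : H, y • (a * a') = a * a' →
        A.map (MulAut.conj y).toMonoidHom = A ∧ y • a = a ∨
          A'.map (MulAut.conj y).toMonoidHom = A := by
      intro y hy
      obtain ⟨hyA, hya⟩ := maxFix_map (M := M) hA y
      obtain ⟨hyA', hya'⟩ := maxFix_map (M := M) hA' y
      have hsum := congrArg (nrm A) hy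
      rw [smul_mul', nrm_mul, nrm_mul, nrm_of_mem ha, c.nrm_eq_one hab hA hA' hAA ha', mul_one]
        at hsum
      by_cases e : A.map (MulAut.conj y).toMonoidHom = A
      · refine .inl ⟨e, ?_⟩
        have e' : A'.map (MulAut.conj y).toMonoidHom ≠ A := fun h' =>
          hAA (map_injective (f := (MulAut.conj y).toMonoidHom) (MulAut.conj y).injective
            (e.trans h'.symm))
        rw [c.nrm_eq_one hab hA hyA' e'.symm (hya' _ ha'), mul_one,
          nrm_of_mem (e ▸ hya a ha)] at hsum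
        exact c.pow_injective (hcop hA) hsum
      · by_cases e' : A'.map (MulAut.conj y).toMonoidHom = A
        · exact .inr e'
        · rw [c.nrm_eq_one hab hA hyA (Ne.symm e) (hya a ha),
            c.nrm_eq_one hab hA hyA' (Ne.symm e') (hya' _ ha'), one_mul] at hsum
          exact absurd (c.pow_injective (hcop hA) (hsum.symm.trans (one_pow _).symm)) ha1
    -- `x` is a power of its square
    have hx' : x • (a * a') = a * a' := hR.le hx
    have hx2 : (x ^ 2) • (a * a') = a * a' := by rw [pow_two, mul_smul, hx', hx']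
    obtain ⟨k, hk⟩ := IsPGroup.iff_orderOf.1 hR.isPGroup ⟨x, hx⟩
    rw [orderOf_mk] at hk
    obtain ⟨j, hj⟩ : Odd (orderOf x) := hk ▸ (c.rprime.odd_of_ne_two hr2).pow
    have hpow : x = (x ^ 2) ^ (j + 1) := by
      rw [← pow_mul, show 2 * (j + 1) = orderOf x + 1 by omega, pow_succ, pow_orderOf_eq_one,
        one_mul]
    suffices h2 : x ^ 2 ∈ MulAction.stabilizer H a from hpow ▸ pow_mem h2 _
    rcases hmove _ hx2 with ⟨-, h⟩ | h2'
    · exact h
    · exfalso
      rcases hmove x hx' with ⟨he, -⟩ | he'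
      · -- `x` fixes `A`, so does `x²`, so `A' = A`
        refine hAA (map_injective (f := (MulAut.conj (x ^ 2)).toMonoidHom)
          (MulAut.conj (x ^ 2)).injective ?_)
        rw [h2', pow_two, map_mul, show (MulAut.conj x * MulAut.conj x).toMonoidHom =
          (MulAut.conj x).toMonoidHom.comp (MulAut.conj x).toMonoidHom from rfl,
          ← Subgroup.map_map, he, he]
      · have h3 : A.map (MulAut.conj x).toMonoidHom = A := by
          rw [pow_two, map_mul, show (MulAut.conj x * MulAut.conj x).toMonoidHom =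
            (MulAut.conj x).toMonoidHom.comp (MulAut.conj x).toMonoidHom from rfl,
            ← Subgroup.map_map, he'] at h2'
          exact h2'
        exact hAA (map_injective (f := (MulAut.conj x).toMonoidHom) (MulAut.conj x).injective
          (h3.trans he'.symm))
  -- hence all of them have the same Sylow subgroup
  have pair : ∀ {A A' : Subgroup H}, maxFix M B A → maxFix M B A' → A ≠ A' →
      ∀ {a a' : M}, a ∈ fx A → a' ∈ fx A' → a ≠ 1 → a' ≠ 1 →
      ∀ {R R' : Subgroup H}, NSyl r (MulAction.stabilizer H a) R →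
        NSyl r (MulAction.stabilizer H a') R' → R = R' := by
    intro A A' hA hA' hAA a a' ha ha' ha1 ha1' R R' hR hR'
    have hv : a * a' ≠ 1 := fun e => by
      have h1 := congrArg (nrm (H := H) A) e
      rw [nrm_mul, nrm_of_mem ha, c.nrm_eq_one hab hA hA' hAA ha', mul_one,
        nrm_of_mem (one_mem _), one_pow] at h1
      exact ha1 (c.pow_injective (hcop hA) (h1.trans (one_pow _).symm))
    obtain ⟨T, hT⟩ := c.rsyl _ hv
    have h1 := key hA hA' hAA ha ha' ha1 hT
    have h2 := key hA' hA hAA.symm ha' ha ha1' (mul_comm a a' ▸ hT)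
    have e1 : T = R := Subgroup.eq_of_le_of_card_ge (hR.le_of_pgroup hT.isPGroup h1)
      (by rw [hR.card, hT.card])
    have e2 : T = R' := Subgroup.eq_of_le_of_card_ge (hR'.le_of_pgroup hT.isPGroup h2)
      (by rw [hR'.card, hT.card])
    exact e1.symm.trans e2
  obtain ⟨m₁, hm₁, hm₁1⟩ := hK₁.prop.2
  obtain ⟨R, hR⟩ := c.rsyl m₁ hm₁1
  obtain ⟨m₂, hm₂, hm₂1⟩ := hK₂.prop.2
  obtain ⟨R₂, hR₂⟩ := c.rsyl m₂ hm₂1
  refine hR.ne_bot c.rprime c.rdvd (eq_bot_iff.2 fun x hx => mem_bot.2 ?_)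
  refine c.eq_one_of_fix (S := {v : M | ∃ K, maxFix M B K ∧ v ∈ fx K}) ⟨m₁, ⟨K₁, hK₁, hm₁⟩, hm₁1⟩
    (fun h v ⟨K, hK, hv⟩ => ⟨_, (maxFix_map hK h).1, (maxFix_map hK h).2 v hv⟩)
    fun v ⟨K, hK, hv⟩ => ?_
  by_cases hv1 : v = 1
  · rw [hv1, smul_one]
  obtain ⟨T, hT⟩ := c.rsyl v hv1
  have e : T = R := by
    by_cases hKK : K = K₁
    · subst hKK
      exact (pair hK hK₂ hK₁₂ hv hm₂ hv1 hm₂1 hT hR₂).trans
        (pair hK₁ hK₂ hK₁₂ hm₁ hm₂ hm₁1 hm₂1 hR hR₂).symm
    · exact pair hK hK₁ hKK hv hm₁ hv1 hm₁1 hT hR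
  exact hT.le (e ▸ hx)

end Hyp

end CfsgLib.CharDeep.Palfy
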