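import Cfsg.Agent.Lib.Solvable.Cores
import Mathlib.GroupTheory.Perm.Cycle.Type
import Mathlib.Algebra.Group.Pointwise.Set.Card

/-!
# An element of order three moving at most a plane in a symplectic group over two elements

A solvable group of isometries of a nondegenerate alternating form on an elementary abelian
`2`-group, with no normal `2`- or `3`-subgroup, contains no element of order three whose
commutator space has at most four elements.
-/

set_option autoImplicit false

namespace CfsgLib.CharDeep.Palfy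

open Subgroup

variable {A : Type*} [CommGroup A]

/-- The displacement `x ↦ g x * x`. -/
def mv (g : MulAut A) : A →* A := g.toMonoidHom * MonoidHom.id A

theorem mv_apply (g : MulAut A) (x : A) : mv g x = g x * x := rfl

theorem mul_mul_self (hA : ∀ x : A, x * x = 1) (x y : A) : x * y * y = x := by
  rw [mul_assoc, hA, mul_one]

theorem mv_eq_one_of_fixed (hA : ∀ x : A, x * x = 1) {g : MulAut A} {n : ℕ} (hn : Odd n)
    (hg : g ^ n = 1) {v : A} (hfix : g (mv g v) = mv g v) : mv g v = 1 := by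
  have h : ∀ k : ℕ, (g ^ k) v = mv g v ^ k * v := by
    intro k
    induction k with
    | zero => simp
    | succ k ih =>
      rw [pow_succ' g, MulAut.mul_apply, ih, map_mul, map_pow, hfix, pow_succ, mul_assoc,
        mv_apply, mul_mul_self hA]
  have h1 := h n
  rw [hg, MulAut.one_apply] at h1
  obtain ⟨j, rfl⟩ := hn
  rwa [pow_succ, pow_mul, pow_two, hA, one_pow, one_mul, eq_comm, mul_eq_right] at h1

variable [Finite A]

/-- The fixed points inside a subgroup. -/
def fixIn (g : MulAut A) (N : Subgroup A) : Subgroup A :=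
  N ⊓ g.toMonoidHom.eqLocus (MonoidHom.id A)

omit [Finite A] in
theorem mem_fixIn {g : MulAut A} {N : Subgroup A} {x : A} :
    x ∈ fixIn g N ↔ x ∈ N ∧ g x = x := Iff.rfl

theorem card_modEq_fixIn {p k : ℕ} [Fact p.Prime] {g : MulAut A} (hg : g ^ p ^ k = 1)
    {N : Subgroup A} (hN : ∀ x ∈ N, g x ∈ N) : Nat.card N ≡ Nat.card (fixIn g N) [MOD p] := by
  classical
  haveI := Fintype.ofFinite A
  let f : Function.End N := fun x => ⟨g x, hN x x.2⟩
  have hf : ∀ (n : ℕ) (x : N), (((f ^ n : Function.End N) : N → N) x : A) = (g ^ n) x := by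
    intro n
    induction n with
    | zero => intro x; simp [Function.End.one_def]
    | succ n ih =>
      intro x
      rw [pow_succ' f, pow_succ' g, MulAut.mul_apply, ← ih x]
      rfl
  have h1 := Equiv.Perm.card_fixedPoints_modEq (f := f) (p := p) (n := k)
    (funext fun x => Subtype.ext (by rw [hf, hg]; rfl))
  rw [← Nat.card_eq_fintype_card, ← Nat.card_eq_fintype_card] at h1
  rw [Nat.ModEq] at h1 ⊢
  refine h1.trans (congrArg (· % p) (Nat.card_congr ?_))
  exact
    { toFun := fun x => ⟨x.1.1, x.1.2, congrArg Subtype.val x.2⟩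
      invFun := fun x => ⟨⟨x.1, x.2.1⟩, Subtype.ext x.2.2⟩
      left_inv := fun _ => rfl
      right_inv := fun _ => rfl }

/-- The elements whose orthogonality to `x` is given by `O`. -/
structure OrthForm (A : Type*) [CommGroup A] where
  O : A → A → Prop
  symm : ∀ x y, O x y → O y x
  refl : ∀ x, O x x
  mul : ∀ x y z, O x y → O x z → O x (y * z)
  two : ∀ x y z, ¬ O x y → ¬ O x z → O x (y * z)
  one : ∀ x, O x 1
  nondeg : ∀ x, (∀ y, O x y) → x = 1

namespace OrthForm

variable (ω : OrthForm A)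

/-- Vectors orthogonal to `x`. -/
def perp (hA : ∀ x : A, x * x = 1) (x : A) : Subgroup A where
  carrier := {y | ω.O x y}
  one_mem' := ω.one x
  mul_mem' := fun {a b} => ω.mul x a b
  inv_mem' := fun {a} ha => by
    rwa [show a⁻¹ = a from inv_eq_of_mul_eq_one_right (hA a)]

omit [Finite A] in
theorem fixed_perp {g : MulAut A} (hg : ∀ x y, ω.O x y → ω.O (g x) (g y))
    (hg' : ∀ x y, ω.O (g x) (g y) → ω.O x y) {f : A} (hf : g f = f) (v : A) :
    ω.O f (mv g v) := by
  by_cases h : ω.O f v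
  · exact ω.mul _ _ _ (hf ▸ hg f v h) h
  · exact ω.two _ _ _ (fun e => h (hg' f v (by rw [hf]; exact e))) h

/-- An invariant eight element subgroup on which an element of order a power of `7` fixes
nothing is totally isotropic. -/
theorem isotropic_eight (hA : ∀ x : A, x * x = 1) {k : ℕ} {g : MulAut A} (hg : g ^ 7 ^ k = 1)
    (hgO : ∀ x y, ω.O x y → ω.O (g x) (g y))
    {N : Subgroup A} (hN : ∀ x ∈ N, g x ∈ N) (h8 : Nat.card N = 8)
    (hfix : fixIn g N = ⊥) : ∀ x ∈ N, ∀ y ∈ N, ω.O x y := by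
  haveI : Fact (Nat.Prime 7) := ⟨by decide⟩
  let R : Subgroup A := N ⊓ ⨅ y ∈ N, ω.perp hA y
  have hR : ∀ {e : A}, e ∈ R ↔ e ∈ N ∧ ∀ y ∈ N, ω.O y e := fun {e} => by
    simp only [R, mem_inf, mem_iInf]; rfl
  have hsurj : ∀ y ∈ N, ∃ z ∈ N, g z = y := by
    intro y hy
    haveI := Fintype.ofFinite A
    let f : N → N := fun x => ⟨g x, hN x x.2⟩
    have hinj : Function.Injective f := fun a b h =>
      Subtype.ext (g.injective (congrArg Subtype.val h))
    obtain ⟨z, hz⟩ := Finite.injective_iff_surjective.1 hinj ⟨y, hy⟩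
    exact ⟨z, z.2, congrArg Subtype.val hz⟩
  have hRinv : ∀ e ∈ R, g e ∈ R := by
    intro e he
    rw [hR] at he ⊢
    refine ⟨hN e he.1, fun y hy => ?_⟩
    obtain ⟨z, hz, rfl⟩ := hsurj y hy
    exact hgO _ _ (he.2 z hz)
  by_contra! hbad
  obtain ⟨x, hx, w, hw, hxw⟩ := hbad
  -- a vector outside the plane of `x` and `w` orthogonal to both
  obtain ⟨n, hn, hn1, hn2, hn3, hn4⟩ : ∃ n ∈ N, n ≠ 1 ∧ n ≠ x ∧ n ≠ w ∧ n ≠ x * w := by
    by_contra! h
    haveI := Fintype.ofFinite A
    classical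
    have hsub : (N : Set A).toFinset ⊆ {1, x, w, x * w} := by
      intro a ha
      rw [Set.mem_toFinset] at ha
      simp only [Finset.mem_insert, Finset.mem_singleton]
      by_contra! hc
      exact hc.2.2.2 (h a ha hc.1 hc.2.1 hc.2.2.1)
    have h1 := Finset.card_le_card hsub
    rw [Set.toFinset_card, ← Nat.card_eq_fintype_card, show Nat.card (N : Set A) = 8 from h8]
      at h1
    exact absurd (h1.trans Finset.card_le_four) (by norm_num)
  have hwx : ¬ ω.O w x := fun h => hxw (ω.symm _ _ h)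
  obtain ⟨e, heN, he, hex, hew⟩ : ∃ e ∈ N, e ≠ 1 ∧ ω.O x e ∧ ω.O w e := by
    by_cases h1 : ω.O x n <;> by_cases h2 : ω.O w n
    · exact ⟨n, hn, hn1, h1, h2⟩
    · exact ⟨n * x, mul_mem hn hx, fun e => hn2 (by rw [← mul_mul_self hA n x, e, one_mul]),
        ω.mul _ _ _ h1 (ω.refl x), ω.two _ _ _ h2 hwx⟩
    · exact ⟨n * w, mul_mem hn hw, fun e => hn3 (by rw [← mul_mul_self hA n w, e, one_mul]),
        ω.two _ _ _ h1 hxw, ω.mul _ _ _ h2 (ω.refl w)⟩
    · refine ⟨n * (x * w), mul_mem hn (mul_mem hx hw),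
        fun e => hn4 (by rw [← mul_mul_self hA n (x * w), e, one_mul]),
        ω.two _ _ _ h1 fun h => hxw ?_, ω.two _ _ _ h2 fun h => hwx ?_⟩
      · simpa [← mul_assoc, hA] using ω.mul _ _ _ (ω.refl x) h
      · simpa [mul_comm x w, ← mul_assoc, hA] using ω.mul _ _ _ (ω.refl w) h
  -- it is orthogonal to everything in `N`
  have hall : ∀ y ∈ N, ω.O e y := by
    let P := closure ({x, w, e} : Set A)
    have hPle : P ≤ N ⊓ ω.perp hA e := (closure_le _).2 fun a ha => by
      simp only [Set.mem_insert_iff, Set.mem_singleton_iff] at ha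
      rcases ha with rfl | rfl | rfl
      exacts [⟨hx, ω.symm _ _ hex⟩, ⟨hw, ω.symm _ _ hew⟩, ⟨heN, ω.refl _⟩]
    have hx' : x ∈ P := subset_closure (by simp)
    have hw' : w ∈ P := subset_closure (by simp)
    have he' : e ∈ P := subset_closure (by simp)
    have hdvd : Nat.card P ∣ 2 ^ 3 := by
      norm_num; exact h8 ▸ card_dvd_of_le (hPle.trans inf_le_left)
    obtain ⟨j, hj, hjc⟩ := (Nat.dvd_prime_pow Nat.prime_two).1 hdvd
    have h5 : 4 < Nat.card P := by
      have h1 : x ≠ 1 := fun h => hwx (h ▸ ω.one w)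
      have h2 : w ≠ 1 := fun h => hxw (h ▸ ω.one x)
      have h3 : x ≠ w := fun h => hxw (h ▸ ω.refl x)
      have h4 : x * w ≠ 1 := fun h => h3 (by rw [← mul_mul_self hA x w, h, one_mul])
      have h5 : e ≠ x := fun h => hwx (h ▸ hew)
      have h6 : e ≠ w := fun h => hxw (h ▸ hex)
      have h7 : e ≠ x * w := fun h => hxw (by
        have := ω.mul _ _ _ (ω.refl x) (h ▸ hex)
        simpa [← mul_assoc, hA] using this)
      have h8 : x * w ≠ x := fun h => h2 (mul_eq_left.1 h)
      have h9 : x * w ≠ w := fun h => h1 (mul_eq_right.1 h)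
      classical
      haveI := Fintype.ofFinite A
      have hc : Finset.card ({e, x * w, x, w, 1} : Finset A) = 5 := by
        rw [Finset.card_insert_of_notMem, Finset.card_insert_of_notMem,
          Finset.card_insert_of_notMem, Finset.card_insert_of_notMem, Finset.card_singleton] <;>
          simp [h1, h2, h3, h4, h5, h6, h7, h8, h9, he]
      have hsub : ({e, x * w, x, w, 1} : Finset A) ⊆ (P : Set A).toFinset := by
        intro z hz
        rw [Set.mem_toFinset]
        simp only [Finset.mem_insert, Finset.mem_singleton] at hz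
        rcases hz with rfl | rfl | rfl | rfl | rfl
        exacts [he', mul_mem hx' hw', hx', hw', one_mem _]
      have := Finset.card_le_card hsub
      rw [hc, Set.toFinset_card, ← Nat.card_eq_fintype_card] at this
      exact Nat.lt_of_succ_le this
    have hj3 : j = 3 := by
      interval_cases j <;> omega
    subst hj3
    have e1 : P = N := Subgroup.eq_of_le_of_card_ge (hPle.trans inf_le_left)
      (by rw [h8, hjc]; norm_num)
    exact fun y hy => (hPle (e1.symm ▸ hy)).2
  -- so the radical is everything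
  have heR : e ∈ R := hR.2 ⟨heN, fun y hy => ω.symm _ _ (hall y hy)⟩
  have hfR : fixIn g R = ⊥ := eq_bot_iff.2 fun z hz => hfix ▸ (⟨(hR.1 hz.1).1, hz.2⟩ : z ∈ fixIn g N)
  have hmod := card_modEq_fixIn hg hRinv
  rw [hfR, Subgroup.card_bot] at hmod
  have hdvd : Nat.card R ∣ 2 ^ 3 := by
    norm_num; exact h8 ▸ card_dvd_of_le inf_le_left
  obtain ⟨j, hj, hjc⟩ := (Nat.dvd_prime_pow Nat.prime_two).1 hdvd
  have hR1 : Nat.card R ≠ 1 := fun h => he (by
    rw [Subgroup.card_eq_one] at h
    exact mem_bot.1 (h ▸ heR))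
  have hj3 : j = 3 := by
    rw [hjc] at hmod hR1
    interval_cases j <;> simp_all [Nat.ModEq]
  subst hj3
  have e1 : R = N := Subgroup.eq_of_le_of_card_ge inf_le_left (by rw [h8, hjc]; norm_num)
  exact hxw (ω.symm _ _ ((hR.1 (e1.symm ▸ hx)).2 w hw))

/-- The commutator space of a nontrivial element of order three is not totally isotropic. -/
theorem not_isotropic (hA : ∀ x : A, x * x = 1) {a : MulAut A}
    (ha : a ^ 3 = 1) (ha1 : a ≠ 1) (haO : ∀ x y, ω.O x y → ω.O (a x) (a y))
    (haO' : ∀ x y, ω.O (a x) (a y) → ω.O x y)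
    (h : ∀ x ∈ (mv a).range, ∀ y ∈ (mv a).range, ω.O x y) : False := by
  refine ha1 (MulEquiv.ext fun u => ?_)
  have h1 : mv a u = 1 := by
    refine ω.nondeg _ fun v => ?_
    have ha3 : a (a (a v)) = v := by
      have := congrArg (fun g : MulAut A => g v) ha
      simpa [pow_succ, MulAut.mul_apply] using this
    have e : v = v * a v * a (a v) * mv a (a v) := by
      rw [mv_apply]
      calc v = v * (a v * a v) * (a (a v) * a (a v)) := by rw [hA, hA, mul_one, mul_one]
        _ = v * a v * a (a v) * (a (a v) * a v) := by ac_rfl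
    rw [e]
    refine ω.mul _ _ _ (ω.symm _ _ (ω.fixed_perp haO haO' ?_ u)) (h _ ⟨u, rfl⟩ _ ⟨a v, rfl⟩)
    rw [map_mul, map_mul, ha3]
    ac_rfl
  have h2 := congrArg (· * u) h1
  simpa [mv_apply, mul_mul_self hA] using h2

end OrthForm

set_option maxHeartbeats 1000000 in
/-- No solvable group of isometries without normal `2`- or `3`-subgroups has an element of order
three moving at most a plane. -/
theorem small_plane (hA : ∀ x : A, x * x = 1) (ω : OrthForm A) (B : Subgroup (MulAut A))
    [Group.IsSolvable B] (hinv : ∀ g ∈ B, ∀ x y, ω.O x y → ω.O (g x) (g y))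
    (h2 : ∀ N : Subgroup B, N.Normal → IsPGroup 2 N → N = ⊥)
    (h3 : ∀ N : Subgroup B, N.Normal → IsPGroup 3 N → N = ⊥)
    {a : MulAut A} (haB : a ∈ B) (ha : a ^ 3 = 1) (ha1 : a ≠ 1)
    (hcard : Nat.card (mv a).range ≤ 4) : False := by
  have hinv' : ∀ g ∈ B, ∀ x y, ω.O (g x) (g y) → ω.O x y := fun g hg x y h => by
    simpa using hinv g⁻¹ (inv_mem hg) _ _ h
  -- a normal subgroup of prime power order not commuting with `a`
  obtain ⟨p, hp, y, hy, hay⟩ : ∃ p : ℕ, p.Prime ∧ ∃ y : B, y ∈ Cfsg.pCore p B ∧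
      (⟨a, haB⟩ : B) * y ≠ y * ⟨a, haB⟩ := by
    by_contra! h
    have hle : Cfsg.fittingSubgroup B ≤ centralizer ({(⟨a, haB⟩ : B)} : Set B) := by
      rw [CfsgLib.Solvable.Cores.fittingSubgroup_eq_iSup_pCore]
      simp only [iSup_le_iff]
      intro p y hy
      exact mem_centralizer_singleton_iff.2 (h _ p.2 y hy).symm
    have haC : (⟨a, haB⟩ : B) ∈ centralizer (Cfsg.fittingSubgroup B : Set B) :=
      mem_centralizer_iff.2 fun z hz => mem_centralizer_singleton_iff.1 (hle hz)
    let T : Subgroup B := Cfsg.fittingSubgroup B ⊓ centralizer (Cfsg.fittingSubgroup B : Set B)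
    have hTc : ∀ u ∈ T, ∀ v ∈ T, Commute u v := fun u hu v hv =>
      (mem_centralizer_iff.1 hu.2 v hv.1).symm
    let T3 : Subgroup B :=
      { carrier := {u | u ∈ T ∧ u ^ 3 = 1}
        one_mem' := ⟨one_mem _, one_pow _⟩
        mul_mem' := fun {u v} hu hv => ⟨mul_mem hu.1 hv.1, by
          rw [(hTc u hu.1 v hv.1).mul_pow, hu.2, hv.2, one_mul]⟩
        inv_mem' := fun {u} hu => ⟨inv_mem hu.1, by rw [inv_pow, hu.2, inv_one]⟩ }
    haveI : (Cfsg.fittingSubgroup B).Normal := CfsgLib.Solvable.Cores.fittingSubgroup_normal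
    haveI : T.Normal := inferInstance
    have hn : T3.Normal := ⟨fun u hu g => ⟨Subgroup.Normal.conj_mem inferInstance u hu.1 g, by
      rw [conj_pow, hu.2, mul_one, mul_inv_cancel]⟩⟩
    haveI : Fact (Nat.Prime 3) := ⟨Nat.prime_three⟩
    have hP : IsPGroup 3 T3 := fun u => ⟨1, Subtype.ext (by simpa using u.2.2)⟩
    have hmem : (⟨a, haB⟩ : B) ∈ T3 :=
      ⟨⟨CfsgLib.Solvable.Cores.centralizer_fittingSubgroup_le haC, haC⟩, Subtype.ext ha⟩
    rw [h3 T3 hn hP, mem_bot] at hmem
    exact ha1 (congrArg Subtype.val hmem)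
  haveI := Fact.mk hp
  haveI hPn : (Cfsg.pCore p B).Normal := CfsgLib.Solvable.Cores.pCore_normal p
  have hPp := CfsgLib.Solvable.Cores.isPGroup_pCore (G := B) p
  have hp5 : 5 ≤ p := by
    by_contra hlt
    have hp23 : p = 2 ∨ p = 3 := by
      have := hp.two_le
      rcases (by omega : p = 2 ∨ p = 3 ∨ p = 4) with h | h | h
      · exact .inl h
      · exact .inr h
      · exact absurd (h ▸ hp) (by decide)
    have e : Cfsg.pCore p B = ⊥ := by
      rcases hp23 with rfl | rfl
      exacts [h2 _ hPn hPp, h3 _ hPn hPp]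
    rw [e, mem_bot] at hy
    exact hay (by rw [hy, mul_one, one_mul])
  -- the displacement spaces
  set a₂ : MulAut A := (y : MulAut A) * a⁻¹ * (y : MulAut A)⁻¹ with ha₂
  set g : MulAut A := a * a₂ with hg
  have ha₂B : a₂ ∈ B := mul_mem (mul_mem y.2 (inv_mem haB)) (inv_mem y.2)
  have hgB : g ∈ B := mul_mem haB ha₂B
  have hgP : (⟨g, hgB⟩ : B) ∈ Cfsg.pCore p B := by
    rw [show (⟨g, hgB⟩ : B) = (⟨a, haB⟩ : B) * y * (⟨a, haB⟩ : B)⁻¹ * y⁻¹ from
      Subtype.ext (by simp [hg, ha₂, mul_assoc])]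
    exact mul_mem (hPn.conj_mem y hy _) (inv_mem hy)
  have hg1 : g ≠ 1 := fun e => hay (Subtype.ext (by
    show a * (y : MulAut A) = (y : MulAut A) * a
    have h' : g * (y : MulAut A) * a = (y : MulAut A) * a := by rw [e, one_mul]
    simpa [hg, ha₂, mul_assoc] using h'))
  obtain ⟨k, hk⟩ : ∃ k : ℕ, g ^ p ^ k = 1 := by
    obtain ⟨k, hk⟩ := hPp ⟨_, hgP⟩
    exact ⟨k, by simpa using congrArg (fun z : Cfsg.pCore p B => ((z : B) : MulAut A)) hk⟩
  let M : Subgroup A := (mv a).range ⊔ (mv a₂).range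
  have hmvM : ∀ v, mv g v ∈ M := fun v => by
    rw [show mv g v = mv a (a₂ v) * mv a₂ v by
      simp only [mv_apply, hg, MulAut.mul_apply]
      rw [mul_assoc, ← mul_assoc (a₂ v), hA, one_mul]]
    exact mul_mem (mem_sup_left ⟨_, rfl⟩) (mem_sup_right ⟨_, rfl⟩)
  have hstab : ∀ h : MulAut A, (∀ v, mv h v ∈ M) → ∀ x ∈ M, h x ∈ M := fun h hh x hx => by
    have := mul_mem (hh x) hx
    rwa [mv_apply, mul_mul_self hA] at this
  have haM := hstab a fun v => mem_sup_left ⟨v, rfl⟩
  have ha₂M := hstab a₂ fun v => mem_sup_right ⟨v, rfl⟩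
  have hgM := hstab g hmvM
  have hcard₂ : Nat.card (mv a₂).range ≤ 4 := by
    refine le_trans ?_ hcard
    have hsub : (mv a₂).range ≤ (mv a).range.map (y : MulAut A).toMonoidHom := by
      rintro _ ⟨v, rfl⟩
      refine ⟨mv a (a⁻¹ ((y : MulAut A)⁻¹ v)), ⟨_, rfl⟩, ?_⟩
      simp [mv_apply, ha₂, MulAut.mul_apply, mul_comm]
    refine (card_le_of_le hsub).trans (le_of_eq ?_)
    exact Subgroup.card_map_of_injective (y : MulAut A).injective
  have hM16 : Nat.card M ≤ 16 := by
    open scoped Pointwise in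
    calc Nat.card M = Nat.card (((mv a).range : Set A) * ((mv a₂).range : Set A) : Set A) := by
          rw [← normal_mul]; rfl
      _ ≤ Nat.card ((mv a).range : Set A) * Nat.card ((mv a₂).range : Set A) :=
          Set.natCard_mul_le
      _ ≤ 4 * 4 := Nat.mul_le_mul hcard hcard₂
  have hpow : ∀ N : Subgroup A, ∃ i, Nat.card N = 2 ^ i := fun N => by
    haveI : Fact (Nat.Prime 2) := ⟨Nat.prime_two⟩
    exact IsPGroup.iff_card.1 fun x => ⟨1, Subtype.ext (by simpa [pow_two] using hA (x : A))⟩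
  -- `g` moves `M`
  have hodd : Odd (p ^ k) := (hp.odd_of_ne_two (by omega)).pow
  have hmove : fixIn g M ≠ M := by
    intro e
    refine hg1 (MulEquiv.ext fun v => ?_)
    have h1 := mv_eq_one_of_fixed hA hodd hk ((e.symm ▸ hmvM v : mv g v ∈ fixIn g M)).2
    have h2 := congrArg (· * v) h1
    simpa [mv_apply, mul_mul_self hA] using h2
  obtain ⟨i, hi⟩ := hpow M
  obtain ⟨j, hj⟩ := hpow (fixIn g M)
  have hji : j < i := by
    have h1 : fixIn g M ≤ M := inf_le_left
    have h2 : Nat.card (fixIn g M) < Nat.card M := lt_of_le_of_ne (card_le_of_le h1)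
      fun e => hmove (Subgroup.eq_of_le_of_card_ge h1 e.ge)
    rw [hi, hj] at h2
    exact (Nat.pow_lt_pow_iff_right one_lt_two).1 h2
  have hi4 : i ≤ 4 := (Nat.pow_le_pow_iff_right one_lt_two).1 (hi ▸ hM16)
  have hmod := card_modEq_fixIn hk hgM
  rw [hi, hj] at hmod
  have hdvd : p ∣ 2 ^ (i - j) - 1 := by
    have h1 := (Nat.modEq_iff_dvd' (Nat.pow_le_pow_right two_pos hji.le)).1 hmod.symm
    rw [show 2 ^ i - 2 ^ j = 2 ^ j * (2 ^ (i - j) - 1) by
      rw [Nat.mul_sub, mul_one, ← pow_add, Nat.add_sub_cancel' hji.le]] at h1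
    exact (Nat.Coprime.pow_right j ((Nat.coprime_primes hp Nat.prime_two).2 (by omega))).dvd_of_dvd_mul_left h1
  obtain ⟨hp7, hd⟩ | ⟨hp5', hd⟩ : p = 7 ∧ i = j + 3 ∨ p = 5 ∧ i = 4 ∧ j = 0 := by
    obtain ⟨d, rfl⟩ : ∃ d, i = j + d := ⟨i - j, by omega⟩
    rw [Nat.add_sub_cancel_left] at hdvd
    have hp' := Nat.le_of_dvd (by
      have : 2 ^ 1 ≤ 2 ^ d := Nat.pow_le_pow_right two_pos (by omega)
      omega) hdvd
    have h16 : 2 ^ d ≤ 16 := (Nat.pow_le_pow_right two_pos (show d ≤ 4 by omega)).trans (by norm_num)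
    have hd1 : 1 ≤ d := by omega
    have hd4 : d ≤ 4 := by omega
    interval_cases d
    · omega
    · omega
    · norm_num at hdvd hp'
      interval_cases p
      all_goals first | omega | exact absurd hp (by decide) | (left; omega)
    · norm_num at hdvd hp'
      interval_cases p
      all_goals first | omega | exact absurd hp (by decide) | (right; omega)
  · -- seven: everything is totally isotropic
    subst hp7
    let N : Subgroup A := M.map (mv g)
    let F := fixIn g M
    have hNM : N ≤ M := by rintro _ ⟨v, -, rfl⟩; exact hmvM v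
    have hNinv : ∀ x ∈ N, g x ∈ N := by
      rintro _ ⟨v, hv, rfl⟩
      exact ⟨g v, hgM v hv, by simp [mv_apply]⟩
    have hdisj : fixIn g N = ⊥ := by
      refine eq_bot_iff.2 fun z hz => ?_
      obtain ⟨⟨v, -, rfl⟩, hz2⟩ := hz
      exact mem_bot.2 (mv_eq_one_of_fixed hA hodd hk hz2)
    have hN8 : Nat.card N = 8 := by
      have h1 := Subgroup.card_mul_index ((mv g).comp M.subtype).ker
      rw [index_ker, show ((mv g).comp M.subtype).range = N by
        rw [MonoidHom.range_comp, range_subtype]] at h1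
      have h2 : Nat.card ((mv g).comp M.subtype).ker = Nat.card F := Nat.card_congr
        { toFun := fun x => ⟨x.1.1, x.1.2, by
            have h := congrArg (· * x.1.1) (show g x.1.1 * x.1.1 = 1 from x.2)
            show g x.1.1 = x.1.1
            simpa [mul_mul_self hA] using h⟩
          invFun := fun x => ⟨⟨x.1, x.2.1⟩, show g x.1 * x.1 = 1 by rw [(show g x.1 = x.1 from x.2.2), hA]⟩
          left_inv := fun _ => rfl
          right_inv := fun _ => rfl }
      rw [h2, hj, hi, hd, pow_add] at h1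
      exact Nat.eq_of_mul_eq_mul_left (by positivity) (h1.trans (by norm_num))
    have hNN := ω.isotropic_eight hA hk (hinv g hgB) hNinv hN8 hdisj
    have hFN : ∀ f ∈ F, ∀ n ∈ N, ω.O f n := by
      rintro f hf _ ⟨v, -, rfl⟩
      exact ω.fixed_perp (hinv g hgB) (hinv' g hgB) hf.2 v
    have hFF : ∀ f ∈ F, ∀ f' ∈ F, ω.O f f' := by
      intro f hf f' hf'
      by_cases h1 : f' = 1
      · exact h1 ▸ ω.one f
      by_cases h2 : f = 1
      · exact h2 ▸ ω.symm _ _ (ω.one f')
      haveI : Fintype F := Fintype.ofFinite F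
      have hF2 : Nat.card F ≤ 2 := hj ▸ (Nat.pow_le_pow_right two_pos
        (show j ≤ 1 by omega)).trans (by norm_num)
      rw [Nat.card_eq_fintype_card] at hF2
      by_contra hne
      have h3 : f ≠ f' := fun e => hne (e ▸ ω.refl f)
      classical
      have h4 : Finset.card ({(1 : F), ⟨f, hf⟩, ⟨f', hf'⟩} : Finset F) = 3 := Finset.card_eq_three.2
        ⟨_, _, _, fun e => h2 (congrArg Subtype.val e).symm,
          fun e => h1 (congrArg Subtype.val e).symm, fun e => h3 (congrArg Subtype.val e), rfl⟩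
      have h5 := Finset.card_le_univ ({(1 : F), ⟨f, hf⟩, ⟨f', hf'⟩} : Finset F)
      omega
    have hsup : N ⊔ F = M := by
      refine Subgroup.eq_of_le_of_card_ge (sup_le hNM inf_le_left) ?_
      rw [hi, hd, pow_add, ← hj, mul_comm, show (2 : ℕ) ^ 3 = Nat.card N from hN8.symm,
        ← Nat.card_prod]
      have hd' : Disjoint N F := disjoint_iff.2 (eq_bot_iff.2 fun z hz =>
        hdisj ▸ (⟨hz.1, hz.2.2⟩ : z ∈ fixIn g N))
      refine Nat.card_le_card_of_injective
        (fun q => ⟨q.1.1 * q.2.1, mul_mem (mem_sup_left q.1.2) (mem_sup_right q.2.2)⟩)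
        fun q q' h => mul_injective_of_disjoint hd' (congrArg Subtype.val h)
    refine ω.not_isotropic hA ha ha1 (hinv a haB) (hinv' a haB) ?_
    have hMM : ∀ x ∈ M, ∀ z ∈ M, ω.O x z := by
      intro x hx z hz
      have h1 : ∀ n, n ∈ N ∨ n ∈ F → M ≤ ω.perp hA n := by
        intro n hn
        rw [← hsup]
        rcases hn with hn | hn
        · exact sup_le (fun u hu => hNN n hn u hu) fun u hu => ω.symm _ _ (hFN u hu n hn)
        · exact sup_le (fun u hu => hFN n hn u hu) fun u hu => hFF n hn u hu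
      have h2 : M ≤ ω.perp hA z := by
        rw [← hsup]
        exact sup_le (fun u hu => ω.symm _ _ (h1 u (.inl hu) hz))
          fun u hu => ω.symm _ _ (h1 u (.inr hu) hz)
      exact ω.symm _ _ (h2 hx)
    exact fun x hx z hz => hMM x (mem_sup_left hx) z (mem_sup_left hz)
  · -- five: the element commutes with `a` on `M`
    subst hp5'
    obtain ⟨rfl, rfl⟩ := hd
    haveI := Fintype.ofFinite A
    let S : Subgroup B :=
      { carrier := {h | ∀ x, x ∈ M ↔ (h : MulAut A) x ∈ M}
        one_mem' := fun x => by simp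
        mul_mem' := fun {u v} hu hv x => (hv x).trans (hu _)
        inv_mem' := fun {u} hu x => by
          have := hu ((u : MulAut A)⁻¹ x)
          simpa using this.symm }
    have hmemS : ∀ {h : MulAut A} (hh : h ∈ B), (∀ x ∈ M, h x ∈ M) → (⟨h, hh⟩ : B) ∈ S := by
      intro h hh hM x
      refine ⟨hM x, fun hx => ?_⟩
      let f : M → M := fun z => ⟨h z, hM z z.2⟩
      have hinj : Function.Injective f := fun u v e =>
        Subtype.ext (h.injective (congrArg Subtype.val e))
      obtain ⟨z, hz⟩ := Finite.injective_iff_surjective.1 hinj ⟨h x, hx⟩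
      exact h.injective (congrArg Subtype.val hz) ▸ z.2
    let ρ : S →* Equiv.Perm M := MonoidHom.mk'
      (fun h => ((h : B) : MulAut A).toEquiv.subtypeEquiv h.2) fun u v => Equiv.ext fun x => rfl
    let α : Equiv.Perm M := ρ ⟨_, hmemS haB haM⟩
    let β : Equiv.Perm M := ρ ⟨_, hmemS ha₂B ha₂M⟩
    let σ : Equiv.Perm M := ρ ⟨_, hmemS hgB hgM⟩
    have hσ : σ = α * β := by
      rw [← map_mul]; exact congrArg ρ (Subtype.ext (Subtype.ext rfl))
    let Q : Subgroup (Equiv.Perm M) := ((Cfsg.pCore 5 B).subgroupOf S).map ρ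
    have hQp : IsPGroup 5 Q := (IsPGroup.comap_of_injective hPp S.subtype S.subtype_injective).map ρ
    have hσQ : σ ∈ Q := ⟨_, hgP, rfl⟩
    have hαQ : α * σ * α⁻¹ ∈ Q :=
      ⟨⟨_, hmemS haB haM⟩ * ⟨_, hmemS hgB hgM⟩ * ⟨_, hmemS haB haM⟩⁻¹,
        hPn.conj_mem _ hgP _, by rw [map_mul, map_mul, map_inv]⟩
    -- elements of `Q` fix only the identity or everything
    have hQ5 : Nat.card Q ≤ 5 := by
      have hinj : ∀ {v : M}, (v : A) ≠ 1 → ∀ τ ∈ Q, τ v = v → τ = 1 := by
        rintro v hv _ ⟨h, hh, rfl⟩ hfix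
        obtain ⟨l, hl⟩ := hPp ⟨(h : B), hh⟩
        have hl' : ((h : B) : MulAut A) ^ 5 ^ l = 1 := by
          have := congrArg (fun z : Cfsg.pCore 5 B => ((z : B) : MulAut A)) hl
          simp only [SubgroupClass.coe_pow, OneMemClass.coe_one] at this
          exact this
        have hm := card_modEq_fixIn hl' (N := M) fun x hx => ((h.2 : (h : B) ∈ S) x).1 hx
        obtain ⟨o, ho⟩ := hpow (fixIn ((h : B) : MulAut A) M)
        have ho4 : o ≤ 4 := (Nat.pow_le_pow_iff_right one_lt_two).1
          (ho ▸ (card_le_of_le inf_le_left).trans_eq hi)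
        have ho1 : o ≠ 0 := by
          intro e
          rw [e, pow_zero, Subgroup.card_eq_one] at ho
          exact hv (mem_bot.1 (ho ▸ (⟨v.2, congrArg Subtype.val hfix⟩ :
            (v : A) ∈ fixIn ((h : B) : MulAut A) M)))
        have ho' : o = 4 := by
          rw [hi, ho] at hm
          rw [Nat.ModEq] at hm
          interval_cases o <;> omega
        have e : fixIn ((h : B) : MulAut A) M = M :=
          Subgroup.eq_of_le_of_card_ge inf_le_left (by rw [hi, ho, ho'])
        exact Equiv.ext fun x => Subtype.ext (e.symm ▸ x.2 :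
          (x : A) ∈ fixIn ((h : B) : MulAut A) M).2
      obtain ⟨v, hv⟩ : ∃ v : M, (v : A) ≠ 1 := by
        by_contra! h
        have : Nat.card M ≤ 1 := Finite.card_le_one_iff_subsingleton.2
          ⟨fun u w => Subtype.ext ((h u).trans (h w).symm)⟩
        omega
      have hle : Nat.card Q ≤ Nat.card M := Nat.card_le_card_of_injective (fun τ => τ.1 v)
        fun u w e => by
          refine Subtype.ext ?_
          have h1 := hinj hv _ (mul_mem (inv_mem u.2) w.2)
            (by rw [Equiv.Perm.mul_apply, show (w : Equiv.Perm M) v = (u : Equiv.Perm M) v from e.symm]; exact Equiv.symm_apply_apply _ _)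
          rwa [inv_mul_eq_one] at h1
      obtain ⟨l, hl⟩ := hQp.exists_card_eq
      rw [hi, hl] at hle
      rcases l with _ | _ | l
      · rw [hl]; norm_num
      · rw [hl]; norm_num
      · have : 5 ^ 2 ≤ 5 ^ (l + 2) := Nat.pow_le_pow_right (by norm_num) (by omega)
        omega
    have hσ1 : σ ≠ 1 := by
      intro e
      refine hmove (le_antisymm inf_le_left fun x hx => ⟨hx, ?_⟩)
      exact congrArg (fun τ : Equiv.Perm M => ((τ ⟨x, hx⟩ : M) : A)) e
    obtain ⟨l, hl⟩ := hQp.exists_card_eq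
    have hl1 : l = 1 := by
      rcases l with _ | _ | l
      · rw [pow_zero, Subgroup.card_eq_one] at hl
        exact absurd (mem_bot.1 (hl ▸ hσQ)) hσ1
      · rfl
      · have : 5 ^ 2 ≤ 5 ^ (l + 2) := Nat.pow_le_pow_right (by norm_num) (by omega)
        rw [← hl] at this
        omega
    rw [hl1, pow_one] at hl
    haveI : Fact (Nat.Prime 5) := ⟨by decide⟩
    have hσ5 : σ ^ 5 = 1 := by
      have := pow_card_eq_one' (x := (⟨σ, hσQ⟩ : Q))
      rw [hl] at this
      simpa using congrArg Subtype.val this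
    obtain ⟨e, he⟩ : ∃ e : ℕ, σ ^ e = α * σ * α⁻¹ := by
      have := (mem_powers_iff_mem_zpowers (x := (⟨σ, hσQ⟩ : Q)) (y := ⟨_, hαQ⟩)).2 (by
        rw [zpowers_eq_top_of_prime_card hl fun h => hσ1 (congrArg Subtype.val h)]
        exact mem_top _)
      obtain ⟨e, he⟩ := this
      exact ⟨e, by simpa using congrArg Subtype.val he⟩
    have hα3 : α ^ 3 = 1 := by
      show ρ _ ^ 3 = 1
      rw [← map_pow, ← map_one ρ]
      exact congrArg ρ (Subtype.ext (Subtype.ext ha))
    have hiter : ∀ n : ℕ, α ^ n * σ * (α ^ n)⁻¹ = σ ^ e ^ n := by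
      intro n
      induction n with
      | zero => simp
      | succ n ih =>
        calc α ^ (n + 1) * σ * (α ^ (n + 1))⁻¹ = α * (α ^ n * σ * (α ^ n)⁻¹) * α⁻¹ := by
              rw [pow_succ']; group
          _ = (α * σ * α⁻¹) ^ e ^ n := by rw [ih, conj_pow]
          _ = σ ^ e ^ (n + 1) := by rw [← he, ← pow_mul, ← pow_succ']
    have he3 : e ^ 3 % 5 = 1 := by
      have h := hiter 3
      rw [hα3, inv_one, mul_one, one_mul] at h
      have ho : orderOf σ = 5 := orderOf_eq_prime hσ5 hσ1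
      have h' : σ ^ e ^ 3 = σ ^ 1 := by rw [pow_one]; exact h.symm
      have h'' := pow_eq_pow_iff_modEq.1 h'
      rw [ho] at h''
      exact h''
    have he1 : σ ^ e = σ := by
      rw [pow_eq_pow_mod e hσ5]
      have : e % 5 = 1 := by
        rw [Nat.pow_mod] at he3
        have := Nat.mod_lt e (show 5 > 0 by norm_num)
        interval_cases e % 5 <;> simp_all
      rw [this, pow_one]
    rw [he1] at he
    have hcomm : Commute α β := by
      have h : α * (α * β) = (α * β) * α := by rw [← hσ]; exact (eq_mul_inv_iff_mul_eq.1 he).symm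
      rw [mul_assoc α β α] at h
      exact mul_left_cancel h
    have hβ3 : β ^ 3 = 1 := by
      show ρ _ ^ 3 = 1
      rw [← map_pow, ← map_one ρ]
      refine congrArg ρ (Subtype.ext (Subtype.ext ?_))
      show a₂ ^ 3 = 1
      rw [ha₂, conj_pow, inv_pow, ha, inv_one, mul_one, mul_inv_cancel]
    have hσ3 : σ ^ 3 = 1 := by rw [hσ, hcomm.mul_pow, hα3, hβ3, one_mul]
    exact hσ1 (orderOf_eq_one_iff.1 (Nat.eq_one_of_dvd_coprimes (by norm_num : Nat.Coprime 3 5)
      (orderOf_dvd_of_pow_eq_one hσ3) (orderOf_dvd_of_pow_eq_one hσ5)))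

end CfsgLib.CharDeep.Palfy
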