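import Cfsg.Agent.Lib.CharDeep.Palfy.Layer
import Cfsg.Agent.Lib.CharDeep.Palfy.SmallPlane

/-!
# A layer of exceptional type which is not centralised is quaternion over the centre
-/

set_option autoImplicit false

namespace CfsgLib.CharDeep.Palfy

open Subgroup
open scoped commutatorElement

variable {H M : Type*} [Group H] [CommGroup M] [MulDistribMulAction H M] {q r t : ℕ}

theorem relIndex_dvd_index_of_normal_right {H : Type*} [Group H] [Finite H] (R C : Subgroup H)
    [C.Normal] : R.relIndex C ∣ R.index := by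
  have h1 := Subgroup.relIndex_mul_index (inf_le_right : R ⊓ C ≤ C)
  have h2 := Subgroup.relIndex_mul_index (inf_le_left : R ⊓ C ≤ R)
  rw [inf_relIndex_right] at h1
  rw [inf_relIndex_left] at h2
  obtain ⟨k, hk⟩ := Subgroup.relIndex_dvd_index_of_normal C R
  refine ⟨k, Nat.eq_of_mul_eq_mul_left (Nat.pos_of_ne_zero (C.subgroupOf R).index_ne_zero_of_finite :
    0 < C.relIndex R) ?_⟩
  rw [h2, ← h1, hk]
  ring

theorem quot_eq_one {Z : Subgroup H} [Z.Normal] {x : H} :
    QuotientGroup.mk' Z x = 1 ↔ x ∈ Z := QuotientGroup.eq_one_iff x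

theorem inv_of_sq_one {G : Type*} [Group G] {x : G} (h : x * x = 1) : x⁻¹ = x :=
  inv_eq_of_mul_eq_one_right h

/-- An automorphism fixing `U` and moving a coset of `U` inside four cosets permutes three of
them cyclically. -/
theorem three_cycle {A : Type*} [CommGroup A] (hA : ∀ x : A, x * x = 1) {U D : Subgroup A}
    (hfour : ∀ d e v, d ∈ D → e ∈ D → v ∈ D → d ∉ U → e ∉ U → d * e ∉ U →
      v ∈ U ∨ d * v ∈ U ∨ e * v ∈ U ∨ d * e * v ∈ U)
    {τ : MulAut A} (hτU : ∀ u ∈ U, τ u = u) (hτD : ∀ v ∈ D, τ v ∈ D) {n : ℕ} (hn : Odd n)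
    (hτn : τ ^ n = 1) {d : A} (hd : d ∈ D) (hdτ : τ d * d ∉ U) :
    d ∉ U ∧ τ d ∉ U ∧ d * τ d ∉ U ∧ d * τ d * τ (τ d) ∈ U ∧
      ∀ v ∈ D, (τ ^ 3) v * v ∈ U := by
  have hUinj : ∀ v, τ v ∈ U → v ∈ U := fun v hv => τ.injective (hτU _ hv) ▸ hv
  have hdU : d ∉ U := fun h => hdτ (by rw [hτU d h, hA]; exact one_mem _)
  have hτdU : τ d ∉ U := fun h => hdU (hUinj d h)
  set e := τ d with he
  have hde : d * e ∉ U := by rwa [mul_comm]
  have heD : e ∈ D := hτD d hd
  have hττ : d * e * τ e ∈ U := by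
    rcases hfour d e (τ e) hd heD (hτD e heD) hdU hτdU hde with h | h | h | h
    · exact absurd (hUinj e h) hτdU
    · exfalso
      have hind : ∀ n : ℕ, (τ ^ (2 * n)) d * d ∈ U := by
        intro n
        induction n with
        | zero => simp [hA]
        | succ n ih =>
          have h4 : τ (τ ((τ ^ (2 * n)) d * d)) = (τ ^ (2 * n)) d * d := by
            rw [hτU _ ih, hτU _ ih]
          rw [map_mul, map_mul] at h4
          have h5 : τ (τ ((τ ^ (2 * n)) d)) = (τ ^ (2 * n)) d * d * τ (τ d) := by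
            rw [← h4, mul_mul_self hA]
          rw [show 2 * (n + 1) = 2 + 2 * n by ring, pow_add, MulAut.mul_apply, pow_two τ,
            MulAut.mul_apply, h5, mul_assoc, mul_comm (τ (τ d)) d, ← he]
          exact mul_mem ih h
      obtain ⟨j, hj⟩ := hn
      have h6 := hind (j + 1)
      rw [show 2 * (j + 1) = n + 1 by omega, pow_succ, hτn, one_mul] at h6
      exact hdτ h6
    · exfalso
      have h1 : τ (d * e) ∈ U := by rw [map_mul]; exact h
      exact hde (hUinj _ h1)
    · exact h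
  refine ⟨hdU, hτdU, hde, hττ, ?_⟩
  have hd3 : (τ ^ 3) d * d ∈ U := by
    have h1 : τ (d * e * τ e) = d * e * τ e := hτU _ hττ
    rw [map_mul, map_mul, ← he] at h1
    have h2 : τ (τ e) = d := by
      calc τ (τ e) = e * τ e * (e * τ e * τ (τ e)) := by
            rw [← mul_assoc (e * τ e) (e * τ e), hA, one_mul]
        _ = e * τ e * (d * e * τ e) := by rw [h1]
        _ = d := by
            rw [show e * τ e * (d * e * τ e) = d * (e * τ e * (e * τ e)) by ac_rfl, hA, mul_one]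
    rw [pow_succ, pow_two, MulAut.mul_apply, MulAut.mul_apply, ← he, h2, hA]
    exact one_mem _
  have he3 : (τ ^ 3) e * e ∈ U := by
    have := hτU _ hd3
    rw [map_mul] at this
    rw [show (τ ^ 3) e * e = τ ((τ ^ 3) d) * τ d by
      rw [he, ← MulAut.mul_apply, ← MulAut.mul_apply, ← pow_succ, ← pow_succ'], this]
    exact hd3
  intro v hv
  have hfix3 : ∀ u ∈ U, (τ ^ 3) u = u := fun u hu => by
    rw [pow_succ, pow_two, MulAut.mul_apply, MulAut.mul_apply, hτU u hu, hτU u hu, hτU u hu]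
  have step : ∀ w, (τ ^ 3) w * w ∈ U → w * v ∈ U → (τ ^ 3) v * v ∈ U := by
    intro w hw hwv
    have h1 := hfix3 _ hwv
    rw [map_mul] at h1
    have h2 : (τ ^ 3) v * v = ((τ ^ 3) w * w) * ((τ ^ 3) w * (τ ^ 3) v * (w * v)) := by
      rw [show (τ ^ 3) w * w * ((τ ^ 3) w * (τ ^ 3) v * (w * v)) =
        ((τ ^ 3) w * (τ ^ 3) w) * (w * w) * ((τ ^ 3) v * v) by ac_rfl, hA, hA, one_mul, one_mul]
    rw [h2, h1, hA, mul_one]
    exact hw
  rcases hfour d e v hd heD hv hdU hτdU hde with h | h | h | h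
  · rw [hfix3 v h, hA]; exact one_mem _
  · exact step d hd3 h
  · exact step e he3 h
  · refine step (d * e) ?_ h
    rw [map_mul, show (τ ^ 3) d * (τ ^ 3) e * (d * e) = ((τ ^ 3) d * d) * ((τ ^ 3) e * e) by
      ac_rfl]
    exact mul_mem hd3 he3

/-- Then the displacement space has at most four elements. -/
theorem card_range_le_four {A : Type*} [CommGroup A] [Finite A] (hA : ∀ x : A, x * x = 1)
    {U D : Subgroup A}
    (hfour : ∀ d e v, d ∈ D → e ∈ D → v ∈ D → d ∉ U → e ∉ U → d * e ∉ U →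
      v ∈ U ∨ d * v ∈ U ∨ e * v ∈ U ∨ d * e * v ∈ U)
    {τ : MulAut A} (hτU : ∀ u ∈ U, τ u = u) (hmv : ∀ v, mv τ v ∈ D) (hτ3 : τ ^ 3 = 1)
    {d e : A} (hd : d ∈ D) (he : e ∈ D) (hdU : d ∉ U) (heU : e ∉ U) (hde : d * e ∉ U) :
    Nat.card (mv τ).range ≤ 4 := by
  classical
  let f : (mv τ).range → Fin 4 := fun w =>
    if (w : A) ∈ U then 0 else if d * w ∈ U then 1 else if e * w ∈ U then 2 else 3
  have hf : Function.Injective f := by
    intro w w' hww
    obtain ⟨v, hv⟩ := w.2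
    obtain ⟨v', hv'⟩ := w'.2
    have key : ∀ g : A, g * w ∈ U → g * w' ∈ U → w = w' := fun g h h' => by
      have h1 : (w : A) * w' ∈ U := by
        have := mul_mem h h'
        rwa [show g * (w : A) * (g * w') = g * g * ((w : A) * w') by ac_rfl, hA,
          one_mul] at this
      obtain ⟨u, hu⟩ := (mul_mem w.2 w'.2 : (w : A) * w' ∈ (mv τ).range)
      have h2 : mv τ u = 1 :=
        mv_eq_one_of_fixed hA (by decide) hτ3 (hu ▸ hτU _ h1)
      rw [hu] at h2
      exact Subtype.ext (by rw [← mul_mul_self hA (w : A) w', h2, one_mul])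
    have c1 := hfour d e w hd he (hv ▸ hmv v) hdU heU hde
    have c2 := hfour d e w' hd he (hv' ▸ hmv v') hdU heU hde
    simp only [f] at hww
    split_ifs at hww <;> first
      | (exact key 1 (by rwa [one_mul]) (by rwa [one_mul]))
      | (exact key d (by assumption) (by assumption))
      | (exact key e (by assumption) (by assumption))
      | (exact key (d * e) (by tauto) (by tauto))
      | (exact absurd hww (by decide))
  exact (Nat.card_le_card_of_injective f hf).trans (Nat.card_fin 4).le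

/-- An automorphism commuting with the three cycle is one of its powers modulo `U`. -/
theorem exists_pow_agree {A : Type*} [CommGroup A] (hA : ∀ x : A, x * x = 1) {U D : Subgroup A}
    (hfour : ∀ d e v, d ∈ D → e ∈ D → v ∈ D → d ∉ U → e ∉ U → d * e ∉ U →
      v ∈ U ∨ d * v ∈ U ∨ e * v ∈ U ∨ d * e * v ∈ U)
    {τ σ : MulAut A} (hτU : ∀ u ∈ U, τ u = u) (hσU : ∀ u ∈ U, σ u = u)
    (hτD : ∀ v ∈ D, τ v ∈ D) (hσD : ∀ v ∈ D, σ v ∈ D) (hc : ∀ v, σ (τ v) = τ (σ v))
    {d : A} (hd : d ∈ D) (hdU : d ∉ U) (heU : τ d ∉ U) (hde : d * τ d ∉ U)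
    (hττ : d * τ d * τ (τ d) ∈ U) :
    ∃ i : ℕ, ∀ w ∈ D, σ w * (τ ^ i) w ∈ U := by
  obtain ⟨i, hi⟩ : ∃ i : ℕ, σ d * (τ ^ i) d ∈ U := by
    rcases hfour d (τ d) (σ d) hd (hτD d hd) (hσD d hd) hdU heU hde with h | h | h | h
    · exact absurd (σ.injective (hσU _ h) ▸ h) hdU
    · exact ⟨0, by rw [pow_zero, MulAut.one_apply, mul_comm]; exact h⟩
    · exact ⟨1, by rw [pow_one, mul_comm]; exact h⟩
    · refine ⟨2, ?_⟩
      have := mul_mem h hττ
      rw [show d * τ d * σ d * (d * τ d * τ (τ d)) =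
        (d * τ d) * (d * τ d) * (σ d * τ (τ d)) by ac_rfl, hA, one_mul] at this
      rwa [pow_two, MulAut.mul_apply]
  refine ⟨i, ?_⟩
  have hiU : ∀ u ∈ U, (τ ^ i) u = u := fun u hu => by
    have : ∀ n : ℕ, (τ ^ n) u = u := fun n => by
      induction n with
      | zero => rfl
      | succ n ih => rw [pow_succ, MulAut.mul_apply, hτU u hu, ih]
    exact this i
  have hie : σ (τ d) * (τ ^ i) (τ d) ∈ U := by
    have h1 : (τ ^ i) (τ d) = τ ((τ ^ i) d) := by
      rw [← MulAut.mul_apply, ← MulAut.mul_apply, ← pow_succ, pow_succ']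
    rw [hc, h1, ← map_mul, hτU _ hi]
    exact hi
  intro w hw
  have step : ∀ g, σ g * (τ ^ i) g ∈ U → g * w ∈ U → σ w * (τ ^ i) w ∈ U := by
    intro g hg hgw
    have h3 : σ g * σ w * ((τ ^ i) g * (τ ^ i) w) = 1 := by
      rw [← map_mul, ← map_mul, hσU _ hgw, hiU _ hgw, hA]
    have h4 : σ w * (τ ^ i) w = σ g * (τ ^ i) g := by
      rw [← mul_mul_self hA (σ w * (τ ^ i) w) (σ g * (τ ^ i) g),
        show σ w * (τ ^ i) w * (σ g * (τ ^ i) g) = σ g * σ w * ((τ ^ i) g * (τ ^ i) w) by ac_rfl,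
        h3, one_mul]
    rwa [h4]
  rcases hfour d (τ d) w hd (hτD d hd) hw hdU heU hde with h | h | h | h
  · rw [hiU w h, hσU w h, hA]; exact one_mem _
  · exact step d hi h
  · exact step (τ d) hie h
  · refine step (d * τ d) ?_ h
    rw [map_mul, map_mul, show σ d * σ (τ d) * ((τ ^ i) d * (τ ^ i) (τ d)) =
      (σ d * (τ ^ i) d) * (σ (τ d) * (τ ^ i) (τ d)) by ac_rfl]
    exact mul_mem hi hie

set_option maxHeartbeats 1000000 in
/-- An irreducible layer on which a solvable normal subgroup has a Sylow `3`-subgroup moving a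
plane has only four elements. -/
theorem card_le_four {H A : Type*} [Group H] [Finite H] [Group.IsSolvable H] [CommGroup A]
    [Finite A] (hA : ∀ x : A, x * x = 1) (ω : OrthForm A) (φ : H →* MulAut A)
    (hirr : ∀ X : Subgroup A, (∀ (h : H) (v), v ∈ X → φ h v ∈ X) → X ≠ ⊥ → X = ⊤)
    (C : Subgroup H) [hCn : C.Normal] (hO : ∀ g ∈ C, ∀ v w, ω.O v w → ω.O (φ g v) (φ g w))
    (P : Sylow 3 C) {a : H} (ha : a ∈ C) (himg : ∀ x : C, x ∈ P → φ x ∈ zpowers (φ a))
    (hτ3 : φ a ^ 3 = 1) (hτ1 : φ a ≠ 1) (hcard : Nat.card (mv (φ a)).range ≤ 4) :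
    Nat.card A ≤ 4 := by
  by_contra hbig
  set τ := φ a with hτ
  let B : Subgroup (MulAut A) := C.map φ
  let ψ : C →* B := (φ.comp C.subtype).codRestrict B fun x => mem_map_of_mem φ x.2
  have hψ : Function.Surjective ψ := by
    rintro ⟨_, x, hx, rfl⟩
    exact ⟨⟨x, hx⟩, rfl⟩
  haveI : Group.IsSolvable B := Group.isSolvable_of_surjective hψ
  have hτB : τ ∈ B := mem_map_of_mem φ ha
  have hBinv : ∀ (g : H) {N : Subgroup B} (hchar : N.Characteristic) (n : MulAut A),
      n ∈ N.map B.subtype → φ g * n * (φ g)⁻¹ ∈ N.map B.subtype := by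
    intro g N hchar n hn
    obtain ⟨b, hb, rfl⟩ := hn
    have hBn : ∀ b ∈ B, φ g * b * (φ g)⁻¹ ∈ B := by
      rintro _ ⟨x, hx, rfl⟩
      exact ⟨_, hCn.conj_mem x hx g, by rw [map_mul, map_mul, map_inv]⟩
    let f : B →* B := MonoidHom.mk' (fun b => ⟨φ g * b * (φ g)⁻¹, hBn b b.2⟩)
      fun u v => Subtype.ext (by simp [mul_assoc])
    have hf : Function.Injective f := fun u v h =>
      Subtype.ext (mul_left_cancel (mul_right_cancel (congrArg Subtype.val h)))
    let f' : B ≃* B := MulEquiv.ofBijective f ⟨hf, Finite.injective_iff_surjective.1 hf⟩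
    refine ⟨f' b, ?_, rfl⟩
    have := hchar.fixed f'
    exact (this.symm ▸ hb : b ∈ N.comap f'.toMonoidHom)
  have hnofix : ∀ (N : Subgroup B), N.Characteristic → ∀ v, v ≠ 1 →
      (∀ n ∈ N, (n : MulAut A) v = v) → N = ⊥ := by
    intro N hN v hv1 hv
    let X : Subgroup A :=
      { carrier := {w | ∀ n ∈ N, (n : MulAut A) w = w}
        one_mem' := fun n _ => map_one _
        mul_mem' := fun {u w} hu hw n hn => by rw [map_mul, hu n hn, hw n hn]
        inv_mem' := fun {u} hu n hn => by rw [map_inv, hu n hn] }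
    have hX := hirr X (fun g w hw n hn => by
      obtain ⟨n', hn', e⟩ := hBinv g⁻¹ hN _ (mem_map_of_mem B.subtype hn)
      have h1 := hw n' hn'
      rw [show ((n' : B) : MulAut A) = φ g⁻¹ * (n : MulAut A) * (φ g⁻¹)⁻¹ from e,
        map_inv, inv_inv, MulAut.mul_apply, MulAut.mul_apply] at h1
      simpa using congrArg (φ g) h1) (fun e => hv1 (mem_bot.1 (e ▸ hv)))
    refine eq_bot_iff.2 fun n hn => mem_bot.2 (Subtype.ext (MulEquiv.ext fun w => ?_))
    exact (hX ▸ mem_top w : w ∈ X) n hn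
  have hcore2 : Cfsg.pCore 2 B = ⊥ := by
    haveI : Fact (Nat.Prime 2) := ⟨Nat.prime_two⟩
    let Q : Subgroup (MulAut A) := (Cfsg.pCore 2 B).map B.subtype
    have hQ : IsPGroup 2 Q := (CfsgLib.Solvable.Cores.isPGroup_pCore 2).map _
    have hd2 : 2 ∣ Nat.card A := by
      have hA : IsPGroup 2 A := fun v => ⟨1, by rw [pow_one, pow_two, hA]⟩
      obtain ⟨i, hi⟩ := IsPGroup.iff_card.1 hA
      rcases i with _ | i
      · rw [hi] at hbig; simp at hbig
      · rw [hi]; exact dvd_pow_self 2 i.succ_ne_zero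
    obtain ⟨v, hv, hv1⟩ := hQ.exists_fixed_point_of_prime_dvd_card_of_fixed_point A hd2
      (show (1 : A) ∈ MulAction.fixedPoints Q A from fun n => map_one (n : MulAut A))
    exact hnofix _ inferInstance v hv1.symm fun n hn => hv ⟨_, mem_map_of_mem B.subtype hn⟩
  have hcore3 : Cfsg.pCore 3 B = ⊥ := by
    haveI : Fact (Nat.Prime 3) := ⟨Nat.prime_three⟩
    by_contra hne
    let Q : Subgroup (MulAut A) := (Cfsg.pCore 3 B).map B.subtype
    have hQle : Q ≤ zpowers τ := by
      have hidx : ¬ 3 ∣ ((P : Subgroup C).map ψ).index := fun hd =>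
        P.not_dvd_index (hd.trans (index_map_dvd _ hψ))
      have h1 : Cfsg.pCore 3 B ≤ (P : Subgroup C).map ψ :=
        CfsgLib.Solvable.Cores.pCore_le_sylow ((P.isPGroup'.map ψ).toSylow hidx)
      rintro _ ⟨x, hx, rfl⟩
      obtain ⟨y, hy, e⟩ := h1 hx
      exact e ▸ himg y hy
    have hQne : Q ≠ ⊥ := fun e => hne ((map_eq_bot_iff_of_injective _ B.subtype_injective).1 e)
    have hQeq : Q = zpowers τ := by
      refine Subgroup.eq_of_le_of_card_ge hQle ?_
      rw [Nat.card_zpowers, orderOf_eq_prime hτ3 hτ1]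
      have h1 : Nat.card Q ∣ 3 := by
        have := card_dvd_of_le hQle
        rwa [Nat.card_zpowers, orderOf_eq_prime hτ3 hτ1] at this
      rcases (Nat.dvd_prime Nat.prime_three).1 h1 with h | h
      · exact absurd (Subgroup.card_eq_one.1 h) hQne
      · exact h.ge
    -- so the commutator space of `τ` is invariant
    have htop := hirr (mv τ).range (fun g v ⟨w, hw⟩ => ?_) fun e => hτ1 ?_
    · rw [htop, card_top] at hcard
      exact hbig hcard
    · have hmem : φ g * τ * (φ g)⁻¹ ∈ zpowers τ :=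
        by
        have h : φ g * τ * (φ g)⁻¹ ∈ Q := hBinv g (N := Cfsg.pCore 3 B) inferInstance τ (show τ ∈ Q by
          rw [hQeq]; exact mem_zpowers τ)
        rwa [hQeq] at h
      obtain ⟨i, hi⟩ := (isOfFinOrder_of_finite τ).mem_powers_iff_mem_zpowers.2 hmem
      have hi' : φ g (τ w) = (τ ^ i) (φ g w) := by
        have h1 := congrArg (fun σ : MulAut A => σ (φ g w)) hi
        simpa using h1.symm
      rw [← hw, mv_apply, map_mul, hi']
      have : ∀ (n : ℕ) u, (τ ^ n) u * u ∈ (mv τ).range := fun n => by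
        induction n with
        | zero => intro u; rw [pow_zero, MulAut.one_apply, hA]; exact one_mem _
        | succ n ih =>
          intro u
          rw [pow_succ, MulAut.mul_apply, show (τ ^ n) (τ u) * u =
            ((τ ^ n) (τ u) * τ u) * mv τ u by
            rw [mv_apply, show (τ ^ n) (τ u) * τ u * (τ u * u) =
              (τ ^ n) (τ u) * u * (τ u * τ u) by ac_rfl, hA, mul_one]]
          exact mul_mem (ih _) ⟨u, rfl⟩
      exact this i _
    · refine MulEquiv.ext fun v => ?_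
      have h1 : mv τ v = 1 := mem_bot.1 (e ▸ ⟨v, rfl⟩)
      have h2 := congrArg (· * v) h1
      simpa [mv_apply, mul_mul_self hA] using h2
  refine small_plane hA ω B ?_ (fun N hN hN2 => ?_) (fun N hN hN3 => ?_) hτB hτ3 hτ1 hcard
  · rintro _ ⟨g, hg, rfl⟩ v w h
    exact hO g hg v w h
  · haveI := hN
    exact eq_bot_iff.2 (hcore2 ▸ CfsgLib.Solvable.Cores.le_pCore hN2)
  · haveI := hN
    exact eq_bot_iff.2 (hcore3 ▸ CfsgLib.Solvable.Cores.le_pCore hN3)

namespace Hyp

variable (c : Hyp H M q r t)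

include c

variable [Finite H] [Finite M]

theorem rpow {m : M} {R : Subgroup H} (hR : NSyl r (MulAction.stabilizer H m) R) {a : H}
    (ha : a ∈ R) : ∃ k : ℕ, a ^ r ^ k = 1 := by
  obtain ⟨k, hk⟩ := hR.isPGroup ⟨a, ha⟩
  exact ⟨k, by simpa using congrArg Subtype.val hk⟩

variable {Z L : Subgroup H} (hZ : MaxAb Z) (hL : Layer Z L)

include hZ hL

/-- An element of `r`-power order centralising `Z` and fixing `L` modulo `Z` centralises `L`. -/
theorem commute_of_quot {b : H} (hb : b ∈ centralizer (Z : Set H)) {k : ℕ} (hk : b ^ r ^ k = 1)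
    {l : H} (hl : l ∈ L) (h : b * l * b⁻¹ * l⁻¹ ∈ Z) : b * l = l * b := by
  have := eq_one_of_conj_eq_mul (l := l) (c := b * l * b⁻¹ * l⁻¹) hk
    (mem_centralizer_iff.1 hb _ h).symm (by group) (hL.lt.le h)
    ((c.coprime_layer_r hZ hL).pow_right k)
  rwa [mul_inv_eq_one, mul_inv_eq_iff_eq_mul] at this

set_option maxHeartbeats 1600000 in
/-- A layer of exponent two which is not centralised has four cosets of `Z`, and no involution
outside `Z`. -/
theorem plane (hexp : ∀ x ∈ L, x ^ 2 ∈ Z) (h4 : ¬ 4 ∣ Nat.card Z)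
    (hnc : ¬ Centralised M r Z L) [Z.Normal] :
    r = 3 ∧ Nat.card (L.map (QuotientGroup.mk' Z)) = 4 ∧ ∀ l ∈ L, l ∉ Z → l ^ 2 ≠ 1 := by
  classical
  haveI := c.solvable
  haveI := hL.normal
  haveI := Fact.mk c.rprime
  obtain ⟨⟨z₀, hz₀, hz₀1, hz₀2⟩, U, m, R, F⟩ := c.exists_frame hZ hL Nat.prime_two hexp
  haveI := c.isCyclic_of_normal_abelian Z hZ.comm
  have hinvol : ∀ z ∈ Z, z ^ 2 = 1 → z = 1 ∨ z = z₀ := by
    intro z hz hz2
    by_contra! h
    haveI := Fintype.ofFinite Z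
    have h3 : ({⟨1, one_mem _⟩, ⟨z₀, hz₀⟩, ⟨z, hz⟩} : Finset Z) ⊆
        ({w : Z | w ^ 2 = 1} : Finset Z) := by
      intro w hw
      simp only [Finset.mem_insert, Finset.mem_singleton] at hw
      simp only [Finset.mem_filter, Finset.mem_univ, true_and]
      rcases hw with rfl | rfl | rfl <;> exact Subtype.ext (by simp [hz₀2, hz2])
    have h5 := (Finset.card_le_card h3).trans (IsCyclic.card_pow_eq_one_le (α := Z) two_pos)
    have h6 : ({⟨1, one_mem _⟩, ⟨z₀, hz₀⟩, ⟨z, hz⟩} : Finset Z).card = 3 := Finset.card_eq_three.2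
      ⟨_, _, _, fun e => hz₀1 (congrArg Subtype.val e).symm,
        fun e => h.1 (congrArg Subtype.val e).symm, fun e => h.2 (congrArg Subtype.val e).symm, rfl⟩
    omega
  -- the odd half of the order of `Z`
  obtain ⟨o, ho, hodd⟩ : ∃ o, Nat.card Z = 2 * o ∧ Odd o := by
    have h2 : 2 ∣ Nat.card Z := by
      rw [← orderOf_eq_prime hz₀2 hz₀1]; exact Subgroup.orderOf_dvd_natCard Z hz₀
    obtain ⟨o, ho⟩ := h2
    exact ⟨o, ho, Nat.odd_iff.2 (by omega)⟩
  have hlift : ∀ x ∈ L, ∃ z ∈ Z, (x * z) ^ 4 = 1 := by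
    intro x hx
    obtain ⟨j, hj⟩ := hodd
    refine ⟨(x ^ 2) ^ j, pow_mem (hexp x hx) j, ?_⟩
    have e : x * (x ^ 2) ^ j = x ^ o := by rw [hj, ← pow_mul, ← pow_succ']
    rw [e, ← pow_mul, show o * 4 = 2 * (Nat.card Z) by omega, pow_mul]
    exact congrArg Subtype.val (pow_card_eq_one' (x := (⟨x ^ 2, hexp x hx⟩ : Z)))
  let π := QuotientGroup.mk' Z
  let Lb : Subgroup (H ⧸ Z) := L.map π
  haveI : Lb.Normal := Subgroup.Normal.map inferInstance π (QuotientGroup.mk'_surjective Z)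
  letI : CommGroup Lb :=
    { (inferInstance : Group Lb) with
      mul_comm := by
        rintro ⟨_, x, hx, rfl⟩ ⟨_, y, hy, rfl⟩
        refine Subtype.ext ?_
        show π x * π y = π y * π x
        rw [← commutatorElement_eq_one_iff_mul_comm, ← map_commutatorElement]
        exact quot_eq_one.2 (hL.commutator_mem hZ hx hy) }
  let el : ∀ x ∈ L, Lb := fun x hx => ⟨π x, mem_map_of_mem π hx⟩
  have hel : ∀ v : Lb, ∃ x, ∃ hx : x ∈ L, el x hx = v := fun v => by
    obtain ⟨x, hx, e⟩ := v.2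
    exact ⟨x, hx, Subtype.ext e⟩
  have hA : ∀ v : Lb, v * v = 1 := fun v => by
    obtain ⟨x, hx, rfl⟩ := hel v
    refine Subtype.ext ?_
    show π x * π x = 1
    rw [← map_mul, ← pow_two]
    exact quot_eq_one.2 (hexp x hx)
  let φ : H →* MulAut Lb := (MulAut.conjNormal (H := Lb)).comp π
  have hφ : ∀ (g x : H) (hx : x ∈ L),
      φ g (el x hx) = el (g * x * g⁻¹) (hL.normal.conj_mem x hx g) := fun g x hx =>
    Subtype.ext (by simp [φ, el])
  -- the images of `U` and of its centraliser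
  let Ub : Subgroup Lb := (U.map π).subgroupOf Lb
  let Db : Subgroup Lb := ((L ⊓ centralizer (U : Set H)).map π).subgroupOf Lb
  have hUb : ∀ (x : H) (hx : x ∈ L), el x hx ∈ Ub ↔ x ∈ U ⊔ Z := fun x hx => by
    show π x ∈ U.map π ↔ _
    rw [← mem_comap, comap_map_eq, QuotientGroup.ker_mk']
  have hDb : ∀ (x : H) (hx : x ∈ L), el x hx ∈ Db → ∀ u ∈ U, u * x = x * u := by
    intro x hx hxD u hu
    obtain ⟨y, hy, e⟩ := hxD
    have hz : y⁻¹ * x ∈ Z := quot_eq_one.1 (by rw [map_mul, map_inv, e]; exact inv_mul_cancel _)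
    have h1 : Commute u y := mem_centralizer_iff.1 hy.2 u hu
    have h2 : Commute u (y⁻¹ * x) := (hL.central hZ hz (F.uL hu)).symm
    have h3 := h1.mul_right h2
    rwa [mul_inv_cancel_left] at h3
  have hUD : Ub ≤ Db := fun v hv => by
    obtain ⟨u, hu, e⟩ := hv
    exact ⟨u, ⟨F.uL hu, mem_centralizer_iff.2 fun w hw => F.ucomm w hw u hu⟩, e⟩
  have hmulU : ∀ {v w : Lb}, v ∈ Ub → w ∈ Ub → v * w ∈ Ub := fun hv hw => mul_mem hv hw
  have hUinj : ∀ {g : MulAut Lb}, (∀ u ∈ Ub, g u = u) → ∀ v, g v ∈ Ub → v ∈ Ub :=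
    fun {g} hg v hv => g.injective (hg _ hv) ▸ hv
  -- commutation in `C(U)`
  have hpair : ∀ x y (hx : x ∈ L) (hy : y ∈ L), el x hx ∈ Db → el y hy ∈ Db → el x hx ∉ Ub →
      el y hy ∉ Ub → el x hx * el y hy ∉ Ub → x * y ≠ y * x := by
    intro x y hx hy hxD hyD hxU hyU hxy hcomm
    obtain ⟨z, hz, hz4⟩ := hlift x hx
    obtain ⟨z', hz', hz4'⟩ := hlift y hy
    have sq : ∀ x z, (hx : x ∈ L) → el x hx ∈ Db → el x hx ∉ Ub → z ∈ Z → (x * z) ^ 4 = 1 →
        (x * z) ^ 2 = z₀ := by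
      intro x z hx hxD hxU hz hz4
      have h2 : (x * z) ^ 2 ∈ Z := hexp _ (mul_mem hx (hL.lt.le hz))
      rcases hinvol _ h2 (by rw [← pow_mul]; exact hz4) with h | h
      · refine absurd ?_ hxU
        rw [hUb x hx]
        have := F.umax _ (mul_mem hx (hL.lt.le hz)) h fun u hu =>
          (show Commute u x from hDb x hx hxD u hu).mul_right
            (hL.central hZ hz (F.uL hu)).symm
        have h' := mul_mem (mem_sup_left (T := Z) this) (mem_sup_right (inv_mem hz))
        rwa [mul_inv_cancel_right] at h'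
      · exact h
    have hc : Commute (x * z) (y * z') :=
      ((show Commute x y from hcomm).mul_right (hL.central hZ hz' hx).symm).mul_left
        (show Commute z (y * z') from hL.central hZ hz (mul_mem hy (hL.lt.le hz')))
    have h1 : (x * z * (y * z')) ^ 2 = 1 := by
      rw [hc.mul_pow, sq x z hx hxD hxU hz hz4, sq y z' hy hyD hyU hz' hz4', ← pow_two, hz₀2]
    have hin := F.umax _ (mul_mem (mul_mem hx (hL.lt.le hz)) (mul_mem hy (hL.lt.le hz'))) h1
      fun u hu => ((show Commute u x from hDb x hx hxD u hu).mul_right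
          (hL.central hZ hz (F.uL hu)).symm).mul_right
        ((show Commute u y from hDb y hy hyD u hu).mul_right
          (hL.central hZ hz' (F.uL hu)).symm)
    refine hxy ⟨_, hin, ?_⟩
    show π (x * z * (y * z')) = π x * π y
    rw [map_mul, map_mul, map_mul, quot_eq_one.2 hz, quot_eq_one.2 hz', mul_one, mul_one]
  have hfour : ∀ d e v, d ∈ Db → e ∈ Db → v ∈ Db → d ∉ Ub → e ∉ Ub → d * e ∉ Ub →
      v ∈ Ub ∨ d * v ∈ Ub ∨ e * v ∈ Ub ∨ d * e * v ∈ Ub := by
    intro d e v hd he hv hdU heU hdeU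
    by_contra! h
    obtain ⟨x, hx, rfl⟩ := hel d
    obtain ⟨y, hy, rfl⟩ := hel e
    obtain ⟨w, hw, rfl⟩ := hel v
    have hval : ∀ a b : H, a ∈ L → b ∈ L → a * b ≠ b * a → ⁅a, b⁆ = z₀ := by
      intro a b ha hb hab
      refine (hinvol _ (hL.commutator_mem hZ ha hb) ?_).resolve_left
        fun e => hab (commutatorElement_eq_one_iff_mul_comm.1 e)
      have h1 := hL.comm_mul_left hZ ha ha hb
      rw [← pow_two a, ← pow_two ⁅a, b⁆] at h1
      rw [← h1, commutatorElement_eq_one_iff_mul_comm]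
      exact hL.central hZ (hexp a ha) hb
    have h1 := hval y x hy hx fun e => hpair x y hx hy hd he hdU heU hdeU e.symm
    have h2 := hval w x hw hx fun e => hpair x w hx hw hd hv hdU h.1 h.2.1 e.symm
    have h3 : ⁅y * w, x⁆ = 1 := by
      rw [hL.comm_mul_left hZ hw hy hx, h1, h2, ← pow_two, hz₀2]
    have hyw : el (y * w) (mul_mem hy hw) = el y hy * el w hw := Subtype.ext (map_mul π y w)
    exact hpair x (y * w) hx (mul_mem hy hw) hd (hyw ▸ mul_mem he hv) hdU
      (hyw ▸ h.2.2.1) (hyw ▸ (mul_assoc (el x hx) _ _) ▸ h.2.2.2)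
      (commutatorElement_eq_one_iff_mul_comm.1 h3).symm
  -- the action of the `r`-part of the frame
  have hr2 : r ≠ 2 := fun e => by
    subst e
    have h1 : 2 ∣ Nat.card L := by
      rw [← orderOf_eq_prime hz₀2 hz₀1]; exact Subgroup.orderOf_dvd_natCard L (hL.lt.le hz₀)
    exact (by norm_num : ¬ (2 : ℕ) = 1)
      (Nat.eq_one_of_dvd_coprimes (c.coprime_layer_r hZ hL) h1 dvd_rfl)
  have hfixU : ∀ b ∈ R ⊓ centralizer (Z : Set H), ∀ u ∈ Ub, φ b u = u := by
    intro b hb u hu
    obtain ⟨x, hx, rfl⟩ := hel u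
    obtain ⟨w, hw, e⟩ := hu
    have e' : el x hx = el w (F.uL hw) := Subtype.ext e.symm
    rw [e', hφ b w (F.uL hw)]
    exact Subtype.ext (congrArg π (by rw [F.cent b hb w hw, mul_inv_cancel_right]))
  have hmvD : ∀ b ∈ R ⊓ centralizer (Z : Set H), ∀ v, mv (φ b) v ∈ Db := by
    intro b hb v
    obtain ⟨l, hl, rfl⟩ := hel v
    obtain ⟨d, hd, e, hdu⟩ := c.frame_comm_mem hZ hL F hb hl
    refine ⟨d, ⟨hd, mem_centralizer_iff.2 hdu⟩, ?_⟩
    rw [mv_apply, hφ b l hl]
    show π d = π (b * l * b⁻¹) * π l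
    rw [e, map_mul, mul_assoc, ← map_mul π l l, ← pow_two, quot_eq_one.2 (hexp l hl), mul_one]
  have hcentL : ∀ b ∈ R ⊓ centralizer (Z : Set H), (∀ d ∈ Db, φ b d * d ∈ Ub) →
      ∀ l ∈ L, b * l = l * b := by
    intro b hb h
    refine c.frame_fix hZ hL F hb fun d hd hdu => ?_
    have h1 := h (el d hd) ⟨d, ⟨hd, mem_centralizer_iff.2 hdu⟩, rfl⟩
    rw [hφ b d hd, show el (b * d * b⁻¹) (hL.normal.conj_mem d hd b) * el d hd =
      el (b * d * b⁻¹ * d⁻¹) (mul_mem (hL.normal.conj_mem d hd b) (inv_mem hd)) from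
      Subtype.ext (by
        show π _ * π d = π _
        rw [map_mul π _ d⁻¹, map_inv]
        congr 1
        exact (inv_of_sq_one (by
          rw [← map_mul, ← pow_two]; exact quot_eq_one.2 (hexp d hd))).symm), hUb _ (mul_mem (hL.normal.conj_mem d hd b) (inv_mem hd))] at h1
    exact h1
  obtain ⟨a, ha, haL⟩ : ∃ a ∈ R ⊓ centralizer (Z : Set H), ¬ ∀ l ∈ L, a * l = l * a := by
    by_contra! h
    exact hnc (c.centralised_of_one hZ L F.syl h)
  set τ := φ a with hτ
  obtain ⟨d, hd, hdτ⟩ : ∃ d ∈ Db, τ d * d ∉ Ub := by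
    by_contra! h
    exact haL (hcentL a ha h)
  have hDinv : ∀ b ∈ R ⊓ centralizer (Z : Set H), ∀ v ∈ Db, φ b v ∈ Db := fun b hb v hv => by
    have := mul_mem (hmvD b hb v) hv
    rwa [mv_apply, mul_mul_self hA] at this
  have hτU : ∀ u ∈ Ub, τ u = u := hfixU a ha
  obtain ⟨k, hk⟩ := c.rpow F.syl ha.1
  have hτk : τ ^ r ^ k = 1 := by rw [hτ, ← map_pow, hk, map_one]
  have hτodd : Odd (r ^ k) := (c.rprime.odd_of_ne_two hr2).pow
  obtain ⟨hdU, hτdU, hde, hττ, h3⟩ :=
    three_cycle hA hfour hτU (hDinv a ha) hτodd hτk hd hdτ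
  have ha3 : ∀ l ∈ L, a ^ 3 * l = l * a ^ 3 :=
    hcentL _ (pow_mem ha 3) fun v hv => by rw [map_pow]; exact h3 v hv
  have hr3 : r = 3 := by
    by_contra hr
    have hcop : Nat.Coprime (r ^ k) 3 :=
      ((Nat.coprime_primes c.rprime Nat.prime_three).2 hr).pow_left k
    obtain ⟨i, hi⟩ := exists_pow_eq_self_of_coprime
      (hcop.symm.coprime_dvd_right (orderOf_dvd_of_pow_eq_one hk))
    refine haL fun l hl => ?_
    rw [← hi]
    exact ((show Commute (a ^ 3) l from ha3 l hl).pow_left i).eq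
  subst hr3
  have hτ3 : τ ^ 3 = 1 := MulEquiv.ext fun v => by
    obtain ⟨l, hl, rfl⟩ := hel v
    rw [hτ, ← map_pow, hφ _ l hl, MulAut.one_apply]
    exact Subtype.ext (congrArg π (by rw [ha3 l hl, mul_inv_cancel_right]))
  have hτ1 : τ ≠ 1 := fun h => hdτ (by rw [h, MulAut.one_apply, hA]; exact one_mem _)
  have heD : τ d ∈ Db := hDinv a ha d hd
  have hcard := card_range_le_four hA hfour hτU (hmvD a ha) hτ3 hd heD hdU hτdU hde
  -- invariant subgroups of the layer modulo `Z`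
  have hirr : ∀ X : Subgroup Lb, (∀ (h : H) (v), v ∈ X → φ h v ∈ X) → X ≠ ⊥ → X = ⊤ := by
    intro X hX hX1
    let P : Subgroup H := L ⊓ (X.map Lb.subtype).comap π
    have hP : ∀ x (hx : x ∈ L), x ∈ P ↔ el x hx ∈ X := fun x hx => by
      constructor
      · rintro ⟨-, w, hw, e⟩
        exact (Subtype.ext e : w = el x hx) ▸ hw
      · exact fun h => ⟨hx, _, h, rfl⟩
    haveI : P.Normal := ⟨fun x hx g =>
      (hP _ (hL.normal.conj_mem x hx.1 g)).2 (hφ g x hx.1 ▸ hX g _ ((hP x hx.1).1 hx))⟩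
    have hZP : Z ≤ P := fun z hz => ⟨hL.lt.le hz, 1, one_mem _, (quot_eq_one.2 hz).symm⟩
    rcases hZP.eq_or_lt with e | hlt
    · refine absurd (eq_bot_iff.2 fun v hv => ?_) hX1
      obtain ⟨x, hx, rfl⟩ := hel v
      exact mem_bot.2 (Subtype.ext (quot_eq_one.2 (e ▸ (hP x hx).2 hv)))
    · have := hL.min P inferInstance hlt inf_le_left
      refine eq_top_iff.2 fun v _ => ?_
      obtain ⟨x, hx, rfl⟩ := hel v
      exact (hP x hx).1 (this.symm ▸ hx)
  have hLb4 : Nat.card Lb ≤ 4 := by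
    by_contra hbig
    let O : Lb → Lb → Prop := fun v w =>
      ∀ x ∈ L, ∀ y ∈ L, π x = v → π y = w → x * y = y * x
    have hO : ∀ x y (hx : x ∈ L) (hy : y ∈ L), O (el x hx) (el y hy) ↔ x * y = y * x := by
      intro x y hx hy
      refine ⟨fun h => h x hx y hy rfl rfl, fun h x' hx' y' hy' ex ey => ?_⟩
      have hz : x⁻¹ * x' ∈ Z := quot_eq_one.1 (by rw [map_mul, map_inv, ex]; exact inv_mul_cancel _)
      have hz' : y⁻¹ * y' ∈ Z := quot_eq_one.1 (by rw [map_mul, map_inv, ey]; exact inv_mul_cancel _)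
      have h' : Commute (x * (x⁻¹ * x')) (y * (y⁻¹ * y')) :=
        ((show Commute x y from h).mul_right (hL.central hZ hz' hx).symm).mul_left
          (show Commute (x⁻¹ * x') (y * (y⁻¹ * y')) from
            hL.central hZ hz (mul_mem hy (hL.lt.le hz')))
      rw [mul_inv_cancel_left, mul_inv_cancel_left] at h'
      exact h'
    have hval : ∀ u v w : H, u ∈ L → v ∈ L → w ∈ L → u * v ≠ v * u → u * w ≠ w * u →
        u * (v * w) = v * w * u := by
      intro u v w hu hv hw h1 h2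
      have hv' : ∀ {v}, v ∈ L → u * v ≠ v * u → ⁅v, u⁆ = z₀ := fun {v} hv h => by
        refine (hinvol _ (hL.commutator_mem hZ hv hu) ?_).resolve_left
          fun e => h (commutatorElement_eq_one_iff_mul_comm.1 e).symm
        have h1 := hL.comm_mul_left hZ hv hv hu
        rw [← pow_two v, ← pow_two ⁅v, u⁆] at h1
        rw [← h1, commutatorElement_eq_one_iff_mul_comm]
        exact hL.central hZ (hexp v hv) hu
      refine (commutatorElement_eq_one_iff_mul_comm.1 ?_).symm
      rw [hL.comm_mul_left hZ hw hv hu, hv' hv h1, hv' hw h2, ← pow_two, hz₀2]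
    let ω : OrthForm Lb :=
      { O := O
        symm := fun v w h => fun y hy x hx ey ex => (h x hx y hy ex ey).symm
        refl := fun v => by
          obtain ⟨x, hx, rfl⟩ := hel v
          exact (hO x x hx hx).2 rfl
        mul := fun u v w h h' => by
          obtain ⟨x, hx, rfl⟩ := hel u
          obtain ⟨y, hy, rfl⟩ := hel v
          obtain ⟨z, hz, rfl⟩ := hel w
          rw [show el y hy * el z hz = el (y * z) (mul_mem hy hz) from
            Subtype.ext (map_mul π y z).symm]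
          exact (hO x (y * z) hx (mul_mem hy hz)).2
            ((show Commute x y from (hO x y hx hy).1 h).mul_right ((hO x z hx hz).1 h'))
        two := fun u v w h h' => by
          obtain ⟨x, hx, rfl⟩ := hel u
          obtain ⟨y, hy, rfl⟩ := hel v
          obtain ⟨z, hz, rfl⟩ := hel w
          rw [hO x y hx hy] at h
          rw [hO x z hx hz] at h'
          rw [show el y hy * el z hz = el (y * z) (mul_mem hy hz) from
            Subtype.ext (map_mul π y z).symm, hO x (y * z) hx (mul_mem hy hz)]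
          exact hval x y z hx hy hz h h'
        one := fun u => fun x hx y hy _ ey =>
          (hL.central hZ (quot_eq_one.1 ey) hx).symm
        nondeg := fun u h => by
          obtain ⟨x, hx, rfl⟩ := hel u
          exact Subtype.ext (quot_eq_one.2
            (hL.mem_of_central hZ hx fun y hy => (hO x y hx hy).1 (h (el y hy)))) }
    haveI : Fact (Nat.Prime 3) := ⟨Nat.prime_three⟩
    have hidx : ¬ 3 ∣ (R.subgroupOf (centralizer (Z : Set H))).index := fun hd =>
      (Sylow.ofCard R F.syl.card).not_dvd_index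
        (hd.trans (relIndex_dvd_index_of_normal_right R (centralizer (Z : Set H))))
    refine hbig (card_le_four hA ω φ hirr (centralizer (Z : Set H)) ?_
      (F.syl.isPGroup.comap_of_injective _ (Subgroup.subtype_injective _) |>.toSylow hidx)
      ha.2 (fun x hx => ?_) hτ3 hτ1 hcard)
    · intro g _ v w h
      obtain ⟨x, hx, rfl⟩ := hel v
      obtain ⟨y, hy, rfl⟩ := hel w
      rw [hφ g x hx, hφ g y hy]
      refine (hO (g * x * g⁻¹) (g * y * g⁻¹) (hL.normal.conj_mem x hx g) (hL.normal.conj_mem y hy g)).2 ?_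
      have := congrArg (fun u => g * u * g⁻¹) ((hO x y hx hy).1 h)
      simpa [mul_assoc] using this
    · -- the image of the Sylow subgroup
      have hb : (x : H) ∈ R ⊓ centralizer (Z : Set H) := ⟨hx, x.2⟩
      have hab : Commute a (x : H) := F.syl.comm a ha.1 _ hb.1
      obtain ⟨i, hi⟩ := exists_pow_agree hA hfour hτU (hfixU _ hb) (hDinv a ha) (hDinv _ hb)
        (fun v => by rw [hτ, ← MulAut.mul_apply, ← map_mul, ← hab.eq, map_mul, MulAut.mul_apply])
        hd hdU hτdU hde hττ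
      have hb' : (x : H) * (a ^ i)⁻¹ ∈ R ⊓ centralizer (Z : Set H) :=
        mul_mem hb (inv_mem (pow_mem ha i))
      have h1 := hcentL _ hb' fun w hw => by
        have h2 := hi _ (hDinv _ (inv_mem (pow_mem ha i)) w hw)
        rw [map_mul, MulAut.mul_apply]
        have h3 : (τ ^ i) (φ ((a ^ i)⁻¹) w) = w := by
          rw [hτ, ← map_pow, ← MulAut.mul_apply, ← map_mul, mul_inv_cancel, map_one,
            MulAut.one_apply]
        rwa [h3] at h2
      have h2 : φ ((x : H) * (a ^ i)⁻¹) = 1 := MulEquiv.ext fun w => by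
        obtain ⟨l, hl, rfl⟩ := hel w
        rw [hφ _ l hl, MulAut.one_apply]
        exact Subtype.ext (congrArg π (by rw [h1 l hl, mul_inv_cancel_right]))
      rw [map_mul, map_inv, map_pow, mul_inv_eq_one] at h2
      rw [h2]
      exact pow_mem (mem_zpowers τ) i
  -- four cosets and `U` inside `Z`
  have hUbot : Ub = ⊥ := by
    by_contra hne
    obtain ⟨u, hu, hu1⟩ := (Subgroup.ne_bot_iff_exists_ne_one).1 hne |> fun ⟨u, h⟩ =>
      (⟨u.1, u.2, fun e => h (Subtype.ext e)⟩ : ∃ u ∈ Ub, u ≠ 1)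
    haveI := Fintype.ofFinite Lb
    rw [Nat.card_eq_fintype_card] at hLb4
    have h5 : Finset.card ({d * τ d, τ d, d, u, 1} : Finset Lb) = 5 := by
      have n1 : d ≠ u := fun h => hdU (h ▸ hu)
      have n2 : d ≠ 1 := fun h => hdU (h ▸ one_mem _)
      have n3 : τ d ≠ d := fun h => hde (by rw [h, hA]; exact one_mem _)
      have n4 : τ d ≠ u := fun h => hτdU (h ▸ hu)
      have n5 : τ d ≠ 1 := fun h => hτdU (h ▸ one_mem _)
      have n6 : d * τ d ≠ τ d := fun h => n2 (mul_eq_right.1 h)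
      have n7 : d * τ d ≠ d := fun h => n5 (mul_eq_left.1 h)
      have n8 : d * τ d ≠ u := fun h => hde (h ▸ hu)
      have n9 : d * τ d ≠ 1 := fun h => hde (h ▸ one_mem _)
      rw [Finset.card_insert_of_notMem, Finset.card_insert_of_notMem,
        Finset.card_insert_of_notMem, Finset.card_insert_of_notMem, Finset.card_singleton] <;>
        simp [n1, n2, n3, n4, n5, n6, n7, n8, n9, hu1]
    have := Finset.card_le_univ ({d * τ d, τ d, d, u, 1} : Finset Lb)
    omega
  refine ⟨rfl, ?_, fun l hl hlZ hl2 => hlZ ?_⟩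
  · refine le_antisymm hLb4 ?_
    haveI := Fintype.ofFinite Lb
    show 4 ≤ Nat.card Lb
    rw [Nat.card_eq_fintype_card]
    have h4' : Finset.card ({d * τ d, τ d, d, 1} : Finset Lb) = 4 := by
      have n2 : d ≠ 1 := fun h => hdU (h ▸ one_mem _)
      have n3 : τ d ≠ d := fun h => hde (by rw [h, hA]; exact one_mem _)
      have n5 : τ d ≠ 1 := fun h => hτdU (h ▸ one_mem _)
      have n6 : d * τ d ≠ τ d := fun h => n2 (mul_eq_right.1 h)
      have n7 : d * τ d ≠ d := fun h => n5 (mul_eq_left.1 h)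
      have n9 : d * τ d ≠ 1 := fun h => hde (h ▸ one_mem _)
      rw [Finset.card_insert_of_notMem, Finset.card_insert_of_notMem,
        Finset.card_insert_of_notMem, Finset.card_singleton] <;>
        simp [n2, n3, n5, n6, n7, n9]
    exact h4' ▸ Finset.card_le_univ _
  · have hUZ : ∀ u ∈ U, u ∈ Z := fun u hu => by
      have h1 : el u (F.uL hu) ∈ Ub := ⟨u, hu, rfl⟩
      rw [hUbot, mem_bot] at h1
      exact quot_eq_one.1 (congrArg Subtype.val h1)
    exact hUZ l (F.umax l hl hl2 fun u hu => hL.central hZ (hUZ u hu) hl)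

end Hyp

end CfsgLib.CharDeep.Palfy
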